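import Mathlib
import Cfsg.Agent.H249.Dat

/-!
# Rank one analysis: the operator identity (helper249, HUB H1 part (A))
-/

set_option autoImplicit false
set_option linter.unusedSectionVars false
set_option linter.unusedVariables false

namespace Cfsg.Agent.H249.Rank1

open Pair Classical

/-! ### sums over subgroups -/

section Sums

variable {G : Type*} [Group G] [Fintype G]

/-- the finset of a subgroup -/
noncomputable def fs (K : Subgroup G) : Finset G := Finset.univ.filter (· ∈ K)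

theorem mem_fs {K : Subgroup G} {g : G} : g ∈ fs K ↔ g ∈ K := by
  simp [fs]

theorem card_fs (K : Subgroup G) : (fs K).card = Nat.card ↥K := by
  have h := Fintype.card_subtype (fun g : G => g ∈ K)
  rw [Nat.card_eq_fintype_card]
  unfold fs
  rw [← h]

theorem sum_mul_left {K : Subgroup G} {k : G} (hk : k ∈ K) (F : G → ℂ) :
    ∑ g ∈ fs K, F (k * g) = ∑ g ∈ fs K, F g := by
  refine Finset.sum_nbij' (fun g => k * g) (fun g => k⁻¹ * g) ?_ ?_ ?_ ?_ ?_
  · intro g hg; exact mem_fs.2 (mul_mem hk (mem_fs.1 hg))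
  · intro g hg; exact mem_fs.2 (mul_mem (inv_mem hk) (mem_fs.1 hg))
  · intro g _; group
  · intro g _; group
  · intro g _; rfl

theorem sum_mul_right {K : Subgroup G} {k : G} (hk : k ∈ K) (F : G → ℂ) :
    ∑ g ∈ fs K, F (g * k) = ∑ g ∈ fs K, F g := by
  refine Finset.sum_nbij' (fun g => g * k) (fun g => g * k⁻¹) ?_ ?_ ?_ ?_ ?_
  · intro g hg; exact mem_fs.2 (mul_mem (mem_fs.1 hg) hk)
  · intro g hg; exact mem_fs.2 (mul_mem (mem_fs.1 hg) (inv_mem hk))
  · intro g _; group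
  · intro g _; group
  · intro g _; rfl

theorem sum_inv (K : Subgroup G) (F : G → ℂ) : ∑ g ∈ fs K, F g⁻¹ = ∑ g ∈ fs K, F g := by
  refine Finset.sum_nbij' (fun g => g⁻¹) (fun g => g⁻¹) ?_ ?_ ?_ ?_ ?_
  · intro g hg; exact mem_fs.2 (inv_mem (mem_fs.1 hg))
  · intro g hg; exact mem_fs.2 (inv_mem (mem_fs.1 hg))
  · intro g _; group
  · intro g _; group
  · intro g _; rfl

theorem sum_conj {K : Subgroup G} {k : G} (hk : ∀ g ∈ K, k * g * k⁻¹ ∈ K) (hk' : ∀ g ∈ K, k⁻¹ * g * k ∈ K)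
    (F : G → ℂ) : ∑ g ∈ fs K, F (k * g * k⁻¹) = ∑ g ∈ fs K, F g := by
  refine Finset.sum_nbij' (fun g => k * g * k⁻¹) (fun g => k⁻¹ * g * k) ?_ ?_ ?_ ?_ ?_
  · intro g hg; exact mem_fs.2 (hk g (mem_fs.1 hg))
  · intro g hg; exact mem_fs.2 (hk' g (mem_fs.1 hg))
  · intro g _; group
  · intro g _; group
  · intro g _; rfl

theorem sum_split {K P : Subgroup G} (h : K ≤ P) (F : G → ℂ) :
    ∑ g ∈ fs P, F g = ∑ g ∈ fs P \ fs K, F g + ∑ g ∈ fs K, F g :=
  (Finset.sum_sdiff (fun g hg => mem_fs.2 (h (mem_fs.1 hg)))).symm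

end Sums

/-! ### the operator -/

section Op

variable {G : Type*} [Group G] [Fintype G] {Ω : Type*} [MulAction G Ω] [Fintype Ω] {I : Type*} {p : ℕ}
  (D : Dat G I p) (i : I)

/-- the averaging operator over all conjugates of `B` in `P_i` (unnormalised) -/
noncomputable def av (h : Ω → ℂ) : Ω → ℂ := fun y => ∑ g ∈ fs (D.P i), ∑ b ∈ fs D.B, h ((g * b * g⁻¹) • y)

/-- the sum over `Q_i` -/
noncomputable def sq (h : Ω → ℂ) : Ω → ℂ := fun y => ∑ v ∈ fs (D.Q i), h (v • y)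

/-- zero sums over the `P_i`-orbits -/
def Zs (h : Ω → ℂ) : Prop := ∀ y, ∑ g ∈ fs (D.P i), h (g • y) = 0

/-- the constant -/
noncomputable def c0 : ℂ := (Nat.card ↥D.B : ℂ) ^ 2 * Nat.card ↥(D.P i) /
  (((Nat.card ↥(D.P i) : ℂ) - Nat.card ↥D.B) * Nat.card ↥(D.Q i))

/-- the operator which will be shown to vanish on functions with zero sums -/
noncomputable def op (h : Ω → ℂ) : Ω → ℂ := fun y => av D i h y - c0 D i * sq D i h y

theorem card_pos' (K : Subgroup G) : (Nat.card ↥K : ℂ) ≠ 0 := by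
  exact_mod_cast Nat.card_pos.ne'

/-- **(K1)** -/
theorem key1 {f : Ω → ℂ} (hf : Inv D.B f) (h0 : Zs D i f) {g : G} (hg : g ∈ D.P i) (hgB : g ∉ D.B) (z : Ω) :
    ((Nat.card ↥(D.P i) : ℂ) - Nat.card ↥D.B) * ∑ b ∈ fs D.B, f ((g * b) • z) =
      - (Nat.card ↥D.B : ℂ) ^ 2 * f z := by
  -- independence of `g`
  have hind : ∀ g ∈ D.P i, g ∉ D.B → ∑ b ∈ fs D.B, f ((g * b) • z) = ∑ b ∈ fs D.B, f ((D.n i * b) • z) := by
    intro g hg hgB
    obtain ⟨b₁, hb₁, b₂, hb₂, rfl⟩ := D.mem_P i hg hgB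
    rw [← sum_mul_left hb₂ (fun b => f ((D.n i * b) • z))]
    refine Finset.sum_congr rfl fun b _ => ?_
    have : (b₁ * D.n i * b₂ * b) • z = b₁ • ((D.n i * (b₂ * b)) • z) := by
      simp only [smul_smul]; congr 1; group
    rw [this, hf b₁ hb₁]
  have h1 : ∑ g' ∈ fs (D.P i) \ fs D.B, ∑ b ∈ fs D.B, f ((g' * b) • z) =
      ((Nat.card ↥(D.P i) : ℂ) - Nat.card ↥D.B) * ∑ b ∈ fs D.B, f ((g * b) • z) := by
    have : ∀ g' ∈ fs (D.P i) \ fs D.B, ∑ b ∈ fs D.B, f ((g' * b) • z) = ∑ b ∈ fs D.B, f ((g * b) • z) := by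
      intro g' hg'
      rw [Finset.mem_sdiff, mem_fs, mem_fs] at hg'
      rw [hind g' hg'.1 hg'.2, hind g hg hgB]
    rw [Finset.sum_congr rfl this, Finset.sum_const, nsmul_eq_mul]
    congr 1
    rw [Finset.card_sdiff_of_subset (fun g hg => mem_fs.2 (D.B_le_P i (mem_fs.1 hg))), Nat.cast_sub
      (Finset.card_le_card (fun g hg => mem_fs.2 (D.B_le_P i (mem_fs.1 hg)))), card_fs, card_fs]
  rw [← h1, Finset.sum_comm]
  have h2 : ∀ b ∈ fs D.B, ∑ g' ∈ fs (D.P i) \ fs D.B, f ((g' * b) • z) = - (Nat.card ↥D.B : ℂ) * f z := by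
    intro b hb
    have h3 := h0 (b • z)
    rw [sum_split (D.B_le_P i)] at h3
    have h4 : ∑ g ∈ fs D.B, f (g • b • z) = (Nat.card ↥D.B : ℂ) * f z := by
      have : ∀ g ∈ fs D.B, f (g • b • z) = f z := by
        intro g hg
        rw [hf g (mem_fs.1 hg), hf b (mem_fs.1 hb)]
      rw [Finset.sum_congr rfl this, Finset.sum_const, nsmul_eq_mul, card_fs]
    rw [h4] at h3
    have h5 : ∑ g' ∈ fs (D.P i) \ fs D.B, f ((g' * b) • z) = ∑ g ∈ fs (D.P i) \ fs D.B, f (g • b • z) :=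
      Finset.sum_congr rfl fun g _ => by rw [mul_smul]
    rw [h5]
    linear_combination h3
  rw [Finset.sum_congr rfl h2, Finset.sum_const, nsmul_eq_mul, card_fs]
  ring

theorem zs_inv {f : Ω → ℂ} (h0 : Zs D i f) (y : Ω) : ∑ g ∈ fs (D.P i), f (g⁻¹ • y) = 0 := by
  rw [sum_inv (D.P i) (fun g => f (g • y))]
  exact h0 y

/-- **(K2)** -/
theorem key2 (hPB : (Nat.card ↥(D.P i) : ℂ) - Nat.card ↥D.B ≠ 0) {f : Ω → ℂ} (hf : Inv D.B f) (h0 : Zs D i f) :
    op D i f = 0 := by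
  funext y
  rw [Pi.zero_apply]
  unfold op av sq
  rw [sum_split (D.B_le_P i)]
  set β : ℂ := (Nat.card ↥D.B : ℂ) with hβ
  set π : ℂ := (Nat.card ↥(D.P i) : ℂ) with hπ
  have h1 : ∑ g ∈ fs D.B, ∑ b ∈ fs D.B, f ((g * b * g⁻¹) • y) = β ^ 2 * f y := by
    have : ∀ g ∈ fs D.B, ∑ b ∈ fs D.B, f ((g * b * g⁻¹) • y) = β * f y := by
      intro g hg
      have h2 : ∀ b ∈ fs D.B, f ((g * b * g⁻¹) • y) = f y := by
        intro b hb
        exact hf _ (mul_mem (mul_mem (mem_fs.1 hg) (mem_fs.1 hb)) (inv_mem (mem_fs.1 hg))) y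
      rw [Finset.sum_congr rfl h2, Finset.sum_const, nsmul_eq_mul, card_fs]
    rw [Finset.sum_congr rfl this, Finset.sum_const, nsmul_eq_mul, card_fs]
    ring
  have h2 : ∑ g ∈ fs (D.P i) \ fs D.B, ∑ b ∈ fs D.B, f ((g * b * g⁻¹) • y) = β ^ 3 / (π - β) * f y := by
    have h3 : ∀ g ∈ fs (D.P i) \ fs D.B, ∑ b ∈ fs D.B, f ((g * b * g⁻¹) • y) =
        - β ^ 2 / (π - β) * f (g⁻¹ • y) := by
      intro g hg
      rw [Finset.mem_sdiff, mem_fs, mem_fs] at hg
      have h4 := key1 D i hf h0 hg.1 hg.2 (g⁻¹ • y)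
      have h5 : ∑ b ∈ fs D.B, f ((g * b * g⁻¹) • y) = ∑ b ∈ fs D.B, f ((g * b) • g⁻¹ • y) :=
        Finset.sum_congr rfl fun b _ => by rw [← mul_smul]
      rw [h5]
      field_simp
      linear_combination h4
    rw [Finset.sum_congr rfl h3, ← Finset.mul_sum]
    have h6 := zs_inv D i h0 y
    rw [sum_split (D.B_le_P i)] at h6
    have h7 : ∑ g ∈ fs D.B, f (g⁻¹ • y) = β * f y := by
      have : ∀ g ∈ fs D.B, f (g⁻¹ • y) = f y := fun g hg => hf _ (inv_mem (mem_fs.1 hg)) y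
      rw [Finset.sum_congr rfl this, Finset.sum_const, nsmul_eq_mul, card_fs]
    rw [h7] at h6
    have h8 : ∑ g ∈ fs (D.P i) \ fs D.B, f (g⁻¹ • y) = - (β * f y) := by linear_combination h6
    rw [h8]
    field_simp
  have h3 : ∑ v ∈ fs (D.Q i), f (v • y) = (Nat.card ↥(D.Q i) : ℂ) * f y := by
    have : ∀ g ∈ fs (D.Q i), f (g • y) = f y := fun g hg => hf _ (D.U_le_B (D.QU i (mem_fs.1 hg))) y
    rw [Finset.sum_congr rfl this, Finset.sum_const, nsmul_eq_mul, card_fs]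
  rw [h1, h2, h3]
  unfold c0
  have h4 := card_pos' (D.Q i)
  rw [← hβ, ← hπ]
  field_simp
  ring

theorem av_sh {g : G} (hg : g ∈ D.P i) (h : Ω → ℂ) : sh g (av D i h) = av D i (sh g h) := by
  funext y
  simp only [sh_apply, av]
  rw [← sum_mul_left hg (fun k => ∑ b ∈ fs D.B, h ((k * b * k⁻¹) • g • y))]
  refine Finset.sum_congr rfl fun k _ => Finset.sum_congr rfl fun b _ => ?_
  simp only [smul_smul]
  congr 2
  group

theorem sq_sh {g : G} (hg : g ∈ D.P i) (h : Ω → ℂ) : sh g (sq D i h) = sq D i (sh g h) := by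
  funext y
  simp only [sh_apply, sq]
  have h1 : ∀ v ∈ D.Q i, g * v * g⁻¹ ∈ D.Q i := D.PQ i g hg
  have h2 : ∀ v ∈ D.Q i, g⁻¹ * v * g ∈ D.Q i := by
    intro v hv
    have := D.PQ i g⁻¹ (inv_mem hg) v hv
    rwa [inv_inv] at this
  rw [← sum_conj h1 h2 (fun v => h (v • g • y))]
  refine Finset.sum_congr rfl fun k _ => ?_
  simp only [smul_smul]
  congr 2
  group

theorem op_sh {g : G} (hg : g ∈ D.P i) (h : Ω → ℂ) : sh g (op D i h) = op D i (sh g h) := by
  funext y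
  have h1 := congrFun (av_sh D i hg h) y
  have h2 := congrFun (sq_sh D i hg h) y
  simp only [sh_apply] at h1 h2
  simp only [sh_apply, op, h1, h2]

theorem pr_av (f h : Ω → ℂ) : pr (av D i f) h = pr f (av D i h) := by
  have e1 : pr (av D i f) h = ∑ g ∈ fs (D.P i), ∑ b ∈ fs D.B, pr (sh (g * b * g⁻¹) f) h := by
    unfold pr av
    simp only [Finset.sum_mul, sh_apply]
    rw [Finset.sum_comm]
    refine Finset.sum_congr rfl fun g _ => ?_
    rw [Finset.sum_comm]
  have e2 : pr f (av D i h) = ∑ g ∈ fs (D.P i), ∑ b ∈ fs D.B, pr f (sh (g * b * g⁻¹) h) := by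
    unfold pr av
    simp only [Finset.mul_sum, sh_apply]
    rw [Finset.sum_comm]
    refine Finset.sum_congr rfl fun g _ => ?_
    rw [Finset.sum_comm]
  rw [e1, e2]
  refine Finset.sum_congr rfl fun g _ => ?_
  rw [← sum_inv D.B (fun b => pr f (sh (g * b * g⁻¹) h))]
  refine Finset.sum_congr rfl fun b _ => ?_
  rw [pr_sh_left]
  congr 2
  group

theorem pr_sq (f h : Ω → ℂ) : pr (sq D i f) h = pr f (sq D i h) := by
  have e1 : pr (sq D i f) h = ∑ v ∈ fs (D.Q i), pr (sh v f) h := by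
    unfold pr sq
    simp only [Finset.sum_mul, sh_apply]
    rw [Finset.sum_comm]
  have e2 : pr f (sq D i h) = ∑ v ∈ fs (D.Q i), pr f (sh v h) := by
    unfold pr sq
    simp only [Finset.mul_sum, sh_apply]
    rw [Finset.sum_comm]
  rw [e1, e2, ← sum_inv (D.Q i) (fun b => pr f (sh b h))]
  refine Finset.sum_congr rfl fun v _ => ?_
  rw [pr_sh_left]

theorem pr_op (f h : Ω → ℂ) : pr (op D i f) h = pr f (op D i h) := by
  have e1 : op D i f = av D i f - c0 D i • sq D i f := rfl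
  have e2 : op D i h = av D i h - c0 D i • sq D i h := rfl
  rw [e1, e2, pr_sub_left, pr_sub_right, pr_smul_left, pr_smul_right, pr_av, pr_sq]

theorem op_add (f h : Ω → ℂ) : op D i (f + h) = op D i f + op D i h := by
  funext y
  simp only [op, av, sq, Pi.add_apply, Finset.sum_add_distrib]
  ring

theorem op_sub (f h : Ω → ℂ) : op D i (f - h) = op D i f - op D i h := by
  funext y
  simp only [op, av, sq, Pi.sub_apply, Finset.sum_sub_distrib]
  ring

theorem op_smul (c : ℂ) (h : Ω → ℂ) : op D i (c • h) = c • op D i h := by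
  funext y
  simp only [op, av, sq, Pi.smul_apply, smul_eq_mul, ← Finset.mul_sum]
  ring

/-- the eigenvalue on `P_i`-invariant functions -/
noncomputable def c1 : ℂ := (Nat.card ↥(D.P i) : ℂ) * Nat.card ↥D.B - c0 D i * Nat.card ↥(D.Q i)

theorem op_of_inv {f : Ω → ℂ} (hf : Inv (D.P i) f) : op D i f = c1 D i • f := by
  funext y
  simp only [op, av, sq, Pi.smul_apply, smul_eq_mul, c1]
  have h1 : ∀ g ∈ fs (D.P i), ∑ b ∈ fs D.B, f ((g * b * g⁻¹) • y) = (Nat.card ↥D.B : ℂ) * f y := by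
    intro g hg
    have h2 : ∀ b ∈ fs D.B, f ((g * b * g⁻¹) • y) = f y := by
      intro b hb
      exact hf _ (mul_mem (mul_mem (mem_fs.1 hg) (D.B_le_P i (mem_fs.1 hb))) (inv_mem (mem_fs.1 hg))) y
    rw [Finset.sum_congr rfl h2, Finset.sum_const, nsmul_eq_mul, card_fs]
  have h3 : ∀ g ∈ fs (D.Q i), f (g • y) = f y :=
    fun g hg => hf _ (D.B_le_P i (D.U_le_B (D.QU i (mem_fs.1 hg)))) y
  rw [Finset.sum_congr rfl h1, Finset.sum_const, nsmul_eq_mul, card_fs, Finset.sum_congr rfl h3, Finset.sum_const,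
    nsmul_eq_mul, card_fs]
  ring

/-- **(K3)** the operator vanishes on functions with zero sums -/
theorem key3 (hG : Gen G (Ω := Ω) D.B) (hPB : (Nat.card ↥(D.P i) : ℂ) - Nat.card ↥D.B ≠ 0) {h : Ω → ℂ}
    (h0 : Zs D i h) : op D i h = 0 := by
  apply D.eq_zero hG i
  · -- `Q_i`-invariance
    intro v hv y
    simp only [op, av, sq]
    have e1 : ∑ g ∈ fs (D.P i), ∑ b ∈ fs D.B, h ((g * b * g⁻¹) • v • y) =
        ∑ g ∈ fs (D.P i), ∑ b ∈ fs D.B, h ((g * b * g⁻¹) • y) := by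
      refine Finset.sum_congr rfl fun g hg => ?_
      have h1 : g⁻¹ * v * g ∈ D.B := by
        have := D.PQ i g⁻¹ (inv_mem (mem_fs.1 hg)) v hv
        rw [inv_inv] at this
        exact D.U_le_B (D.QU i this)
      rw [← sum_mul_right h1 (fun b => h ((g * b * g⁻¹) • y))]
      refine Finset.sum_congr rfl fun b _ => ?_
      simp only [smul_smul]
      congr 2
      group
    have e2 : ∑ w ∈ fs (D.Q i), h (w • v • y) = ∑ w ∈ fs (D.Q i), h (w • y) := by
      rw [← sum_mul_right hv (fun w => h (w • y))]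
      exact Finset.sum_congr rfl fun w _ => by rw [mul_smul]
    rw [e1, e2]
  · intro g hg f hf
    rw [op_sh D i hg, pr_op]
    set f1 : Ω → ℂ := fun y => ∑ k ∈ fs (D.P i), f (k • y) with hf1
    have hinv1 : Inv (D.P i) f1 := by
      intro k hk y
      simp only [hf1]
      rw [← sum_mul_right hk (fun w => f (w • y))]
      exact Finset.sum_congr rfl fun w _ => by rw [mul_smul]
    have hc := card_pos' (D.P i)
    set a : ℂ := (Nat.card ↥(D.P i) : ℂ)⁻¹ with ha
    have hz : Zs D i (f - a • f1) := by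
      intro y
      have h1 : ∀ k ∈ fs (D.P i), f1 (k • y) = f1 y := fun k hk => hinv1 k (mem_fs.1 hk) y
      simp only [Pi.sub_apply, Pi.smul_apply, smul_eq_mul, Finset.sum_sub_distrib, ← Finset.mul_sum]
      rw [Finset.sum_congr rfl h1, Finset.sum_const, nsmul_eq_mul, card_fs, ha, inv_mul_cancel_left₀ hc]
      simp only [hf1, sub_self]
    have hinv0 : Inv D.B (f - a • f1) := hf.sub ((hinv1.mono (D.B_le_P i)).smul a)
    have e1 : op D i f = op D i (f - a • f1) + op D i (a • f1) := by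
      rw [← op_add, sub_add_cancel]
    rw [e1, key2 D i hPB hinv0 hz, zero_add, op_smul, op_of_inv D i hinv1, pr_smul_right, pr_smul_right]
    have e2 : pr (sh g h) f1 = 0 := by
      have e3 : pr (sh g h) f1 = ∑ k ∈ fs (D.P i), pr (sh g h) (sh k f) := by
        unfold pr
        simp only [hf1, Finset.mul_sum, sh_apply]
        rw [Finset.sum_comm]
      rw [e3]
      have e4 : ∀ k ∈ fs (D.P i), pr (sh g h) (sh k f) = pr (sh (g * k⁻¹) h) f := by
        intro k _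
        rw [pr_sh_right, sh_sh]
      rw [Finset.sum_congr rfl e4]
      have e5 : ∑ k ∈ fs (D.P i), pr (sh (g * k⁻¹) h) f = pr (fun y => ∑ k ∈ fs (D.P i), h ((g * k⁻¹) • y)) f := by
        unfold pr
        simp only [Finset.sum_mul, sh_apply]
        rw [Finset.sum_comm]
      rw [e5]
      have e6 : (fun y => ∑ k ∈ fs (D.P i), h ((g * k⁻¹) • y)) = fun _ => (0 : ℂ) := by
        funext y
        rw [sum_inv (D.P i) (fun k => h ((g * k) • y)), sum_mul_left hg (fun k => h (k • y))]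
        exact h0 y
      rw [e6]
      simp [pr]
    rw [e2]
    ring

end Op

end Cfsg.Agent.H249.Rank1
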