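import Mathlib
import Cfsg.Agent.H249.Rank1

/-!
# Orders in a split (B,N)-datum, and divisibility lemmas (helper249, HUB H1 part (A))
-/

set_option autoImplicit false
set_option linter.unusedSectionVars false

namespace Cfsg.Agent.H249

open Pair Classical Rank1

/-- products: `|K| = |A| |C|` if `K = A C` uniquely -/
theorem card_eq_mul {G : Type*} [Group G] [Finite G] {K A C : Subgroup G} (hA : A ≤ K) (hC : C ≤ K)
    (h1 : ∀ k ∈ K, ∃ a ∈ A, ∃ c ∈ C, k = a * c) (h2 : ∀ x, x ∈ A → x ∈ C → x = 1) :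
    Nat.card ↥K = Nat.card ↥A * Nat.card ↥C := by
  rw [← Nat.card_prod]
  symm
  refine Nat.card_congr (Equiv.ofBijective (fun q : ↥A × ↥C => (⟨(q.1 : G) * q.2, mul_mem (hA q.1.2) (hC q.2.2)⟩ : ↥K)) ?_)
  constructor
  · rintro ⟨a, c⟩ ⟨a', c'⟩ e
    have e1 : (a : G) * c = a' * c' := congrArg Subtype.val e
    have e2 : (a' : G)⁻¹ * a = c' * (c : G)⁻¹ := by
      rw [inv_mul_eq_iff_eq_mul, ← mul_assoc, ← e1, mul_inv_cancel_right]
    have e3 : (a' : G)⁻¹ * a = 1 := h2 _ (mul_mem (inv_mem a'.2) a.2) (e2 ▸ mul_mem c'.2 (inv_mem c.2))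
    have e4 : (a : G) = a' := (inv_mul_eq_one.1 e3).symm
    rw [e4] at e1
    have e5 : (c : G) = c' := mul_left_cancel e1
    exact Prod.ext (Subtype.ext e4) (Subtype.ext e5)
  · rintro ⟨k, hk⟩
    obtain ⟨a, ha, c, hc, e⟩ := h1 k hk
    exact ⟨(⟨a, ha⟩, ⟨c, hc⟩), Subtype.ext e.symm⟩

namespace Dat

variable {G : Type*} [Group G] {I : Type*} {p : ℕ} (D : Dat G I p)

theorem Q_inf_X (i : I) : ∀ x, x ∈ D.Q i → x ∈ D.X i → x = 1 := fun x hQ hX =>
  D.nX i x hX (D.U_le_B (D.QU i (D.nQ' i x hQ)))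

theorem card_U [Finite G] (i : I) : Nat.card ↥D.U = Nat.card ↥(D.Q i) * Nat.card ↥(D.X i) :=
  card_eq_mul (D.QU i) (D.XU i) (D.mul i) (D.Q_inf_X i)

theorem T_inf_U [Finite G] : ∀ x, x ∈ D.T → x ∈ D.U → x = 1 := by
  intro x hT hU
  have h1 : orderOf x ∣ Nat.card ↥D.T := Subgroup.orderOf_dvd_natCard _ hT
  obtain ⟨k, hk⟩ := D.pU ⟨x, hU⟩
  have h2 : x ^ p ^ k = 1 := congrArg Subtype.val hk
  have h3 : orderOf x ∣ p ^ k := orderOf_dvd_of_pow_eq_one h2
  have h4 : (Nat.card ↥D.T).Coprime (p ^ k) := D.cop.pow_right k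
  exact orderOf_eq_one_iff.1 (Nat.eq_one_of_dvd_coprimes h4 h1 h3)

theorem card_B [Finite G] : Nat.card ↥D.B = Nat.card ↥D.T * Nat.card ↥D.U :=
  card_eq_mul D.T_le_B D.U_le_B (fun _ hk => D.mem_B.1 hk) D.T_inf_U

theorem n_notMem (i : I) : D.n i ∉ D.B := by
  intro h
  obtain ⟨x, hx1⟩ := (Subgroup.ne_bot_iff_exists_ne_one (H := D.X i)).1 (D.Xne i)
  exact hx1 (Subtype.ext (D.nX i x x.2 (mul_mem (mul_mem (inv_mem h) (D.U_le_B (D.XU i x.2))) h)))

/-- `P_i ∖ B = X_i n_i B` uniquely -/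
theorem mem_P' (i : I) {g : G} (hg : g ∈ D.P i) (hB : g ∉ D.B) : ∃ x ∈ D.X i, ∃ b ∈ D.B, g = x * D.n i * b := by
  obtain ⟨b₁, hb₁, b₂, hb₂, rfl⟩ := D.mem_P i hg hB
  obtain ⟨t, ht, u, hu, e⟩ := D.mem_B.1 (inv_mem hb₁)
  obtain ⟨v, hv, x, hx, rfl⟩ := D.mul i u hu
  have e1 : b₁ = x⁻¹ * v⁻¹ * t⁻¹ := by
    rw [← inv_inv b₁, e]; group
  refine ⟨x⁻¹, inv_mem hx, ((D.n i)⁻¹ * v⁻¹ * D.n i) * ((D.n i)⁻¹ * t⁻¹ * D.n i) * b₂, mul_mem (mul_mem ?_ ?_) hb₂, ?_⟩
  · exact D.U_le_B (D.QU i (D.nQ' i _ (inv_mem hv)))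
  · have := D.NT (D.n i)⁻¹ (inv_mem (D.nN i)) t⁻¹ (inv_mem ht)
    rw [inv_inv] at this
    exact D.T_le_B this
  · rw [e1]; group

theorem card_P [Finite G] (i : I) : Nat.card ↥(D.P i) = (Nat.card ↥(D.X i) + 1) * Nat.card ↥D.B := by
  have e : ↥(D.P i) ≃ (↥(D.X i) × ↥D.B) ⊕ ↥D.B := by
    symm
    refine Equiv.ofBijective (fun q => match q with
      | Sum.inl q => (⟨(q.1 : G) * D.n i * q.2, mul_mem (mul_mem (D.B_le_P i (D.U_le_B (D.XU i q.1.2))) (D.n_mem_P i))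
          (D.B_le_P i q.2.2)⟩ : ↥(D.P i))
      | Sum.inr b => (⟨b, D.B_le_P i b.2⟩ : ↥(D.P i))) ?_
    have hnot : ∀ (x : ↥(D.X i)) (b : ↥D.B), (x : G) * D.n i * b ∉ D.B := by
      intro x b h
      apply D.n_notMem i
      have : D.n i = (x : G)⁻¹ * ((x : G) * D.n i * b) * (b : G)⁻¹ := by group
      rw [this]
      exact mul_mem (mul_mem (inv_mem (D.U_le_B (D.XU i x.2))) h) (inv_mem b.2)
    constructor
    · rintro (⟨x, b⟩ | b) (⟨x', b'⟩ | b') h
      · have e1 : (x : G) * D.n i * b = x' * D.n i * b' := congrArg Subtype.val h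
        have e2 : (D.n i)⁻¹ * ((x' : G)⁻¹ * x) * D.n i = b' * (b : G)⁻¹ := by
          have : (x : G) = x' * D.n i * b' * (b : G)⁻¹ * (D.n i)⁻¹ := by rw [← e1]; group
          rw [this]; group
        have e3 : (x' : G)⁻¹ * x = 1 :=
          D.nX i _ (mul_mem (inv_mem x'.2) x.2) (e2 ▸ mul_mem b'.2 (inv_mem b.2))
        have e4 : (x : G) = x' := (inv_mul_eq_one.1 e3).symm
        rw [e4] at e1
        have e5 : (b : G) = b' := mul_left_cancel e1
        rw [Subtype.ext e4, Subtype.ext e5]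
      · have h' : (x : G) * D.n i * b = b' := congrArg Subtype.val h
        exact absurd (h' ▸ b'.2) (hnot x b)
      · have h' : (b : G) = (x' : G) * D.n i * b' := congrArg Subtype.val h
        exact absurd (h' ▸ b.2) (hnot x' b')
      · have h' : (b : G) = b' := congrArg (fun z : ↥(D.P i) => (z : G)) h
        exact congrArg Sum.inr (Subtype.ext h')
    · rintro ⟨g, hg⟩
      by_cases hB : g ∈ D.B
      · exact ⟨Sum.inr ⟨g, hB⟩, rfl⟩
      · obtain ⟨x, hx, b, hb, e⟩ := D.mem_P' i hg hB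
        exact ⟨Sum.inl (⟨x, hx⟩, ⟨b, hb⟩), Subtype.ext e.symm⟩
  rw [Nat.card_congr e, Nat.card_sum, Nat.card_prod]
  ring

theorem card_X [Finite G] (i : I) : ∃ k, 0 < k ∧ Nat.card ↥(D.X i) = p ^ k := by
  have : Fact p.Prime := ⟨D.hp⟩
  obtain ⟨k, hk⟩ := (IsPGroup.iff_card).1 (D.pU.to_le (D.XU i))
  refine ⟨k, Nat.pos_of_ne_zero ?_, hk⟩
  rintro rfl
  rw [pow_zero] at hk
  exact D.Xne i ((Subgroup.card_eq_one).1 hk)

end Dat

/-! ### divisibility -/

section Div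

variable {G : Type*} [Group G] [Fintype G]

/-- sums of right `K`-invariant functions divisible by `d` -/
theorem dvd_sum {K P : Subgroup G} (hK : K ≤ P) (d : ℕ) (F : G → ℕ) (h1 : ∀ g ∈ P, ∀ k ∈ K, F (g * k) = F g)
    (h2 : ∀ g ∈ P, d ∣ F g) : Nat.card ↥K * d ∣ ∑ g ∈ fs P, F g := by
  have e1 : ∑ g ∈ fs P, F g = ∑ g : ↥P, F g := by
    refine (Finset.sum_subtype (fs P) (fun x => mem_fs) F)
  rw [e1]
  have : Fintype (↥P ⧸ K.subgroupOf P) := Fintype.ofFinite _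
  have e2 : ∑ g : ↥P, F g = ∑ c : (↥P ⧸ K.subgroupOf P) × ↥(K.subgroupOf P),
      F ((Subgroup.groupEquivQuotientProdSubgroup (s := K.subgroupOf P)).symm c) :=
    ((Subgroup.groupEquivQuotientProdSubgroup (s := K.subgroupOf P)).symm.sum_comp (fun g : ↥P => F g)).symm
  rw [e2, Fintype.sum_prod_type]
  refine Finset.dvd_sum fun c _ => ?_
  have e3 : ∀ k : ↥(K.subgroupOf P), F ((Subgroup.groupEquivQuotientProdSubgroup (s := K.subgroupOf P)).symm (c, k)) =
      F ((Subgroup.groupEquivQuotientProdSubgroup (s := K.subgroupOf P)).symm (c, 1)) := by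
    intro k
    set a := (Subgroup.groupEquivQuotientProdSubgroup (s := K.subgroupOf P)).symm (c, k) with ha
    set b := (Subgroup.groupEquivQuotientProdSubgroup (s := K.subgroupOf P)).symm (c, 1) with hb
    have hab : (QuotientGroup.mk a : ↥P ⧸ K.subgroupOf P) = QuotientGroup.mk b := by
      have h3 : (Subgroup.groupEquivQuotientProdSubgroup (s := K.subgroupOf P) a).1 = c := by
        rw [ha, Equiv.apply_symm_apply]
      have h4 : (Subgroup.groupEquivQuotientProdSubgroup (s := K.subgroupOf P) b).1 = c := by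
        rw [hb, Equiv.apply_symm_apply]
      exact h3.trans h4.symm
    rw [QuotientGroup.eq] at hab
    have h5 : (a : G)⁻¹ * b ∈ K := hab
    have h6 : (b : G) = a * ((a : G)⁻¹ * b) := by group
    rw [h6, h1 _ a.2 _ h5]
  rw [Finset.sum_congr rfl (fun k _ => e3 k), Finset.sum_const, smul_eq_mul, Finset.card_univ]
  refine mul_dvd_mul ?_ (h2 _ (Subtype.mem _))
  rw [← Nat.card_eq_fintype_card]
  exact (Nat.card_congr (Subgroup.subgroupOfEquivOfLe hK).toEquiv.symm).dvd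

variable {Ω : Type*} [MulAction G Ω]

/-- the stabiliser of a point in a subgroup -/
def st (K : Subgroup G) (y : Ω) : Subgroup G := K ⊓ MulAction.stabilizer G y

theorem mem_st {K : Subgroup G} {y : Ω} {g : G} : g ∈ st K y ↔ g ∈ K ∧ g • y = y := by
  unfold st
  rw [Subgroup.mem_inf, MulAction.mem_stabilizer_iff]

theorem st_le (K : Subgroup G) (y : Ω) : st K y ≤ K := inf_le_left

/-- the number of elements moving `y` to `x` -/
theorem card_trans {K : Subgroup G} {x y : Ω} (hxy : ∃ g ∈ K, g • y = x) :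
    ((fs K).filter (fun g => g • y = x)).card = Nat.card ↥(st K y) := by
  obtain ⟨g, hg, rfl⟩ := hxy
  rw [← card_fs]
  refine Finset.card_nbij' (fun k => g⁻¹ * k) (fun k => g * k) ?_ ?_ ?_ ?_
  · intro k hk
    simp only [Finset.coe_filter, Set.mem_ofPred_eq, mem_fs, Finset.mem_coe] at hk ⊢
    rw [mem_st]
    exact ⟨mul_mem (inv_mem hg) hk.1, by rw [mul_smul, hk.2, inv_smul_smul]⟩
  · intro k hk
    simp only [Finset.coe_filter, Set.mem_ofPred_eq, mem_fs, Finset.mem_coe] at hk ⊢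
    rw [mem_st] at hk
    exact ⟨mul_mem hg hk.1, by rw [mul_smul, hk.2]⟩
  · intro k _; group
  · intro k _; group

/-- the number of elements of `K` moving `y` to `x` is divisible by the order of the stabilisers of subgroups -/
theorem dvd_card_trans {K L : Subgroup G} {x y : Ω} (hL : ∀ l ∈ L, l ∈ K ∧ l • y = y) :
    Nat.card ↥L ∣ ((fs K).filter (fun g => g • y = x)).card := by
  by_cases hxy : ∃ g ∈ K, g • y = x
  · rw [card_trans hxy]
    exact Subgroup.card_dvd_of_le (fun l hl => mem_st.2 (hL l hl))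
  · have : ((fs K).filter (fun g => g • y = x)) = ∅ := by
      rw [Finset.filter_eq_empty_iff]
      intro g hg h
      exact hxy ⟨g, mem_fs.1 hg, h⟩
    rw [this, Finset.card_empty]
    exact dvd_zero _

end Div

end Cfsg.Agent.H249
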