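import Mathlib
import Cfsg.Agent.H249.Card

/-!
# The rank one counting lemma (helper249, HUB H1 part (A))
-/

set_option autoImplicit false
set_option linter.unusedSectionVars false

namespace Cfsg.Agent.H249.Rank1

open Pair Classical

variable {G : Type*} [Group G] [Fintype G] {Ω : Type*} [MulAction G Ω] [Fintype Ω] {I : Type*} {p : ℕ}
  (D : Dat G I p) (i : I)

theorem one_lt_X : 1 < Nat.card ↥(D.X i) := by
  obtain ⟨k, hk, e⟩ := D.card_X i
  rw [e]
  exact Nat.one_lt_pow hk.ne' D.hp.one_lt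

theorem hPB : (Nat.card ↥(D.P i) : ℂ) - Nat.card ↥D.B = Nat.card ↥(D.X i) * Nat.card ↥D.B := by
  rw [D.card_P i]
  push_cast
  ring

theorem hPB' : (Nat.card ↥(D.P i) : ℂ) - Nat.card ↥D.B ≠ 0 := by
  rw [hPB]
  exact mul_ne_zero (card_pos' _) (card_pos' _)

theorem c1_eq : c1 D i * Nat.card ↥(D.X i) =
    Nat.card ↥(D.P i) * Nat.card ↥D.B * ((Nat.card ↥(D.X i) : ℂ) - 1) := by
  have h1 := card_pos' D.B
  have h2 := card_pos' (D.Q i)
  have h3 := card_pos' (D.X i)
  unfold c1 c0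
  rw [hPB]
  field_simp

/-- **(K4)** -/
theorem key4 (hG : Gen G (Ω := Ω) D.B) {x y : Ω} (hxy : ∃ g ∈ D.P i, g • y = x) (hQ : ∀ v ∈ D.Q i, v • y ≠ x) :
    (∑ g ∈ fs (D.P i), ((fs D.B).filter (fun b => (g * b * g⁻¹) • y = x)).card) * Nat.card ↥(D.X i) =
      Nat.card ↥D.B * Nat.card ↥(st (D.P i) y) * (Nat.card ↥(D.X i) - 1) := by
  set δ : Ω → ℂ := fun z => if z = x then 1 else 0 with hδ
  set ι : Ω → ℂ := fun z => ∑ g ∈ fs (D.P i), if g • z = x then 1 else 0 with hι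
  have hιinv : Inv (D.P i) ι := by
    intro k hk z
    simp only [hι]
    rw [← sum_mul_right hk (fun g => if g • z = x then (1 : ℂ) else 0)]
    exact Finset.sum_congr rfl fun g _ => by rw [mul_smul]
  have hzs : Zs D i ((Nat.card ↥(D.P i) : ℂ) • δ - ι) := by
    intro z
    have h1 : ∀ g ∈ fs (D.P i), ι (g • z) = ι z := fun g hg => hιinv g (mem_fs.1 hg) z
    simp only [Pi.sub_apply, Pi.smul_apply, smul_eq_mul, Finset.sum_sub_distrib, ← Finset.mul_sum]
    rw [Finset.sum_congr rfl h1, Finset.sum_const, nsmul_eq_mul, card_fs]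
    simp only [hδ, hι, sub_self]
  have h0 := key3 D i hG (hPB' D i) hzs
  rw [op_sub, op_smul, op_of_inv D i hιinv] at h0
  have h1 := congrFun h0 y
  simp only [Pi.sub_apply, Pi.smul_apply, smul_eq_mul, Pi.zero_apply] at h1
  have h2 : ι y = Nat.card ↥(st (D.P i) y) := by
    rw [← card_trans hxy, Finset.card_filter]
    push_cast
    rfl
  have h3 : op D i δ y = (∑ g ∈ fs (D.P i), ((fs D.B).filter (fun b => (g * b * g⁻¹) • y = x)).card : ℕ) := by
    have h4 : Rank1.sq D i δ y = 0 := by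
      unfold Rank1.sq
      refine Finset.sum_eq_zero fun v hv => ?_
      simp only [hδ]
      rw [if_neg (hQ v (mem_fs.1 hv))]
    unfold op
    rw [h4, mul_zero, sub_zero]
    unfold av
    push_cast
    refine Finset.sum_congr rfl fun g _ => ?_
    rw [Finset.card_filter]
    push_cast
    rfl
  rw [h2, h3] at h1
  set m : ℕ := ∑ g ∈ fs (D.P i), ((fs D.B).filter (fun b => (g * b * g⁻¹) • y = x)).card with hm
  have h5 : (Nat.card ↥(D.P i) : ℂ) * (m * Nat.card ↥(D.X i)) =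
      Nat.card ↥(D.P i) * (Nat.card ↥D.B * Nat.card ↥(st (D.P i) y) * ((Nat.card ↥(D.X i) : ℂ) - 1)) := by
    have h6 := c1_eq D i
    have h7 : (Nat.card ↥(D.P i) : ℂ) * m = c1 D i * Nat.card ↥(st (D.P i) y) := by linear_combination h1
    calc (Nat.card ↥(D.P i) : ℂ) * (m * Nat.card ↥(D.X i)) = (Nat.card ↥(D.P i) : ℂ) * m * Nat.card ↥(D.X i) := by ring
      _ = (c1 D i * Nat.card ↥(D.X i)) * Nat.card ↥(st (D.P i) y) := by rw [h7]; ring
      _ = _ := by rw [h6]; ring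
  have h8 := mul_left_cancel₀ (card_pos' (D.P i)) h5
  have h9 : ((Nat.card ↥(D.X i) : ℂ) - 1) = ((Nat.card ↥(D.X i) - 1 : ℕ) : ℂ) := by
    rw [Nat.cast_sub (one_lt_X D i).le, Nat.cast_one]
  rw [h9] at h8
  exact_mod_cast h8

/-- `|X_i| |Q_y|` divides `|P_y|` -/
theorem key5 (hG : Gen G (Ω := Ω) D.B) {x y : Ω} (hxy : ∃ g ∈ D.P i, g • y = x) (hQ : ∀ v ∈ D.Q i, v • y ≠ x) :
    Nat.card ↥(D.X i) * Nat.card ↥(st (D.Q i) y) ∣ Nat.card ↥(st (D.P i) y) := by
  have h1 : Nat.card ↥D.B * Nat.card ↥(st (D.Q i) y) ∣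
      ∑ g ∈ fs (D.P i), ((fs D.B).filter (fun b => (g * b * g⁻¹) • y = x)).card := by
    refine dvd_sum (D.B_le_P i) _ _ ?_ ?_
    · intro g _ k hk
      refine Finset.card_nbij' (fun b => k * b * k⁻¹) (fun b => k⁻¹ * b * k) ?_ ?_ ?_ ?_
      · intro b hb
        simp only [Finset.coe_filter, Set.mem_ofPred_eq, mem_fs] at hb ⊢
        refine ⟨mul_mem (mul_mem hk hb.1) (inv_mem hk), ?_⟩
        rw [← hb.2]; congr 1; group
      · intro b hb
        simp only [Finset.coe_filter, Set.mem_ofPred_eq, mem_fs] at hb ⊢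
        refine ⟨mul_mem (mul_mem (inv_mem hk) hb.1) hk, ?_⟩
        rw [← hb.2]; congr 1; group
      · intro b _; group
      · intro b _; group
    · intro g hg
      -- transport to the conjugate of `B`
      have e : ((fs D.B).filter (fun b => (g * b * g⁻¹) • y = x)).card =
          ((fs (D.B.map (MulAut.conj g).toMonoidHom)).filter (fun c => c • y = x)).card := by
        refine Finset.card_nbij' (fun b => g * b * g⁻¹) (fun b => g⁻¹ * b * g) ?_ ?_ ?_ ?_
        · intro b hb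
          simp only [Finset.coe_filter, Set.mem_ofPred_eq, mem_fs] at hb ⊢
          exact ⟨⟨b, hb.1, rfl⟩, hb.2⟩
        · intro b hb
          simp only [Finset.coe_filter, Set.mem_ofPred_eq, mem_fs] at hb ⊢
          obtain ⟨⟨c, hc, rfl⟩, hb⟩ := hb
          have e1 : (MulAut.conj g).toMonoidHom c = g * c * g⁻¹ := rfl
          rw [e1] at hb ⊢
          have e2 : g⁻¹ * (g * c * g⁻¹) * g = c := by group
          rw [e2]
          exact ⟨hc, hb⟩
        · intro b _; group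
        · intro b _; group
      rw [e]
      refine dvd_card_trans fun l hl => ?_
      rw [mem_st] at hl
      refine ⟨⟨g⁻¹ * l * g, ?_, ?_⟩, hl.2⟩
      · have := D.PQ i g⁻¹ (inv_mem hg) l hl.1
        rw [inv_inv] at this
        exact D.U_le_B (D.QU i this)
      · change g * (g⁻¹ * l * g) * g⁻¹ = l
        group
  obtain ⟨m, hm⟩ := h1
  have h2 := key4 D i hG hxy hQ
  rw [hm] at h2
  have h3 : Nat.card ↥(st (D.Q i) y) * m * Nat.card ↥(D.X i) =
      Nat.card ↥(st (D.P i) y) * (Nat.card ↥(D.X i) - 1) := by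
    have h4 : 0 < Nat.card ↥D.B := Nat.card_pos
    refine Nat.eq_of_mul_eq_mul_left h4 ?_
    rw [← mul_assoc, ← mul_assoc, ← mul_assoc, h2]
  have h5 : Nat.card ↥(D.X i) * Nat.card ↥(st (D.Q i) y) ∣ Nat.card ↥(st (D.P i) y) * (Nat.card ↥(D.X i) - 1) := by
    rw [← h3]
    exact ⟨m, by ring⟩
  refine Nat.Coprime.dvd_of_dvd_mul_right ?_ h5
  -- `q |Q_y|` is a power of `p`, and `q - 1` is prime to `p`
  have : Fact p.Prime := ⟨D.hp⟩
  obtain ⟨a, ha⟩ := (IsPGroup.iff_card).1 (D.pU.to_le (D.XU i))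
  obtain ⟨b, hb⟩ := (IsPGroup.iff_card).1 (D.pU.to_le (le_trans (st_le (D.Q i) y) (D.QU i)))
  obtain ⟨c, hc, hc'⟩ := D.card_X i
  have h6 : p.Coprime (Nat.card ↥(D.X i) - 1) := by
    rw [Nat.Prime.coprime_iff_not_dvd D.hp]
    intro h7
    have h8 : p ∣ Nat.card ↥(D.X i) := by rw [hc']; exact dvd_pow_self p hc.ne'
    have h9 := (Nat.dvd_sub_iff_right (one_lt_X D i).le h8).1 h7
    exact D.hp.one_lt.ne' (Nat.dvd_one.1 h9)
  rw [ha, hb, ← pow_add]
  exact Nat.Coprime.pow_left _ (ha ▸ h6)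

end Cfsg.Agent.H249.Rank1
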