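import Mathlib
import Cfsg.Agent.H249.RankR

/-!
# The structure of the `P_i`-orbits (helper249, HUB H1 part (A))
-/

set_option autoImplicit false
set_option linter.unusedSectionVars false

namespace Cfsg.Agent.H249.Rank1

open Pair Classical

section Orb

variable {G : Type*} [Group G] {Ω : Type*} [MulAction G Ω] [Fintype Ω]

/-- the orbit of a point under a subgroup -/
noncomputable def orb (K : Subgroup G) (y : Ω) : Finset Ω := Finset.univ.filter (fun z => ∃ k ∈ K, z = k • y)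

theorem mem_orb {K : Subgroup G} {y z : Ω} : z ∈ orb K y ↔ ∃ k ∈ K, z = k • y := by
  simp [orb]

theorem self_mem_orb (K : Subgroup G) (y : Ω) : y ∈ orb K y := mem_orb.2 ⟨1, one_mem _, (one_smul _ _).symm⟩

theorem smul_mem_orb {K : Subgroup G} {y z : Ω} {k : G} (hk : k ∈ K) : k • z ∈ orb K y ↔ z ∈ orb K y := by
  constructor
  · intro h
    obtain ⟨l, hl, e⟩ := mem_orb.1 h
    exact mem_orb.2 ⟨k⁻¹ * l, mul_mem (inv_mem hk) hl, by rw [mul_smul, ← e, inv_smul_smul]⟩
  · intro h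
    obtain ⟨l, hl, rfl⟩ := mem_orb.1 h
    exact mem_orb.2 ⟨k * l, mul_mem hk hl, by rw [mul_smul]⟩

theorem orb_eq {K : Subgroup G} {y z : Ω} (h : z ∈ orb K y) : orb K z = orb K y := by
  obtain ⟨k, hk, rfl⟩ := mem_orb.1 h
  ext w
  constructor
  · intro hw
    obtain ⟨l, hl, rfl⟩ := mem_orb.1 hw
    exact (smul_mem_orb hl).2 ((smul_mem_orb hk).2 (self_mem_orb K y))
  · intro hw
    obtain ⟨l, hl, rfl⟩ := mem_orb.1 hw
    exact mem_orb.2 ⟨l * k⁻¹, mul_mem hl (inv_mem hk), by rw [mul_smul, inv_smul_smul]⟩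

theorem orb_symm {K : Subgroup G} {y z : Ω} (h : z ∈ orb K y) : y ∈ orb K z := by
  rw [orb_eq h]; exact self_mem_orb K y

/-- the indicator function of an orbit -/
noncomputable def ind (K : Subgroup G) (y : Ω) : Ω → ℂ := fun z => if z ∈ orb K y then 1 else 0

theorem ind_inv (K : Subgroup G) (y : Ω) : Inv K (ind K y) := by
  intro k hk z
  simp only [ind, smul_mem_orb hk]

end Orb

variable {G : Type*} [Group G] [Fintype G] {Ω : Type*} [MulAction G Ω] [Fintype Ω] {I : Type*} {p : ℕ}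
  (D : Dat G I p) (i : I)

/-- the `U`-orbits are the `B`-orbits -/
theorem orb_U (hG : Gen G (Ω := Ω) D.B) (y : Ω) {b : G} (hb : b ∈ D.B) : ∃ u ∈ D.U, b • y = u • y := by
  have h1 := D.inv_B hG (ind_inv D.U y) b hb y
  have h2 : ind D.U y y = 1 := by unfold ind; rw [if_pos (self_mem_orb _ _)]
  rw [h2] at h1
  unfold ind at h1
  by_contra hcon
  rw [if_neg (fun h => hcon (mem_orb.1 h))] at h1
  exact zero_ne_one h1

/-- **the structure of the `P_i`-orbits** -/
theorem struct (hG : Gen G (Ω := Ω) D.B) (x : Ω) :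
    (∀ g ∈ D.P i, g • x ∈ orb D.B x) ∨
      ∃ y z : Ω, (∀ g ∈ D.P i, g • x ∈ orb D.B y ∨ g • x ∈ orb D.B z) ∧ y ∈ orb (D.P i) x ∧ z ∈ orb (D.P i) x ∧
        z ∉ orb D.B y ∧ (∀ z' ∈ orb D.B z, ∀ u ∈ D.U, u • z' = z' → u ∈ D.Q i) ∧
        (orb D.B y).card < (orb D.B z).card := by
  obtain ⟨g₁, hg₁, hR⟩ := lemR D i hG x
  set y : Ω := g₁ • x with hy
  have hBQ : ∀ b ∈ D.B, ∃ v ∈ D.Q i, b • y = v • y := by
    intro b hb
    obtain ⟨u, hu, e⟩ := orb_U D hG y hb
    obtain ⟨v, hv, e'⟩ := hR u hu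
    exact ⟨v, hv, e.trans e'⟩
  set z : Ω := D.n i • y with hz
  have hnQ : ∀ v ∈ D.Q i, D.n i • v • y = (D.n i * v * (D.n i)⁻¹) • z := by
    intro v _
    rw [hz, ← mul_smul, ← mul_smul (D.n i * v * (D.n i)⁻¹), inv_mul_cancel_right]
  have hQB : ∀ v ∈ D.Q i, v ∈ D.B := fun v hv => D.U_le_B (D.QU i hv)
  have hXB : ∀ v ∈ D.X i, v ∈ D.B := fun v hv => D.U_le_B (D.XU i hv)
  have hBz : ∀ b ∈ D.B, D.n i • b • y ∈ orb D.B z := by
    intro b hb
    obtain ⟨v, hv, e⟩ := hBQ b hb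
    rw [e, hnQ v hv]
    exact mem_orb.2 ⟨_, hQB _ (D.nQ i v hv), rfl⟩
  have hall : ∀ g ∈ D.P i, g • y ∈ orb D.B y ∨ g • y ∈ orb D.B z := by
    intro g hg
    by_cases hB : g ∈ D.B
    · exact Or.inl (mem_orb.2 ⟨g, hB, rfl⟩)
    · obtain ⟨u, hu, b, hb, rfl⟩ := D.mem_P' i hg hB
      right
      have e : (u * D.n i * b) • y = u • D.n i • b • y := by rw [mul_smul, mul_smul]
      rw [e]
      exact (smul_mem_orb (hXB u hu)).2 (hBz b hb)
  have hall' : ∀ g ∈ D.P i, g • x ∈ orb D.B y ∨ g • x ∈ orb D.B z := by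
    intro g hg
    have := hall (g * g₁⁻¹) (mul_mem hg (inv_mem hg₁))
    rwa [hy, mul_smul, inv_smul_smul] at this
  have hyP : y ∈ orb (D.P i) x := mem_orb.2 ⟨g₁, hg₁, rfl⟩
  by_cases hzy : z ∈ orb D.B y
  · left
    have h1 : ∀ g ∈ D.P i, g • x ∈ orb D.B y := by
      intro g hg
      rcases hall' g hg with h | h
      · exact h
      · rwa [orb_eq hzy] at h
    have h2 : x ∈ orb D.B y := by
      have := h1 1 (one_mem _)
      rwa [one_smul] at this
    intro g hg
    rw [orb_eq h2]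
    exact h1 g hg
  · right
    -- the key disjointness
    have key : ∀ u ∈ D.X i, ∀ v ∈ D.Q i, ∀ v' ∈ D.Q i, u • D.n i • v • y = D.n i • v' • y → u = 1 := by
      intro u hu v hv v' hv' e
      by_contra hu1
      have hc : (D.n i)⁻¹ * u * D.n i ∉ D.B := fun h => hu1 (D.nX i u hu h)
      have hcP : (D.n i)⁻¹ * u * D.n i ∈ D.P i :=
        mul_mem (mul_mem (inv_mem (D.n_mem_P i)) (D.B_le_P i (hXB u hu))) (D.n_mem_P i)
      set c : G := (D.n i)⁻¹ * u * D.n i with hcdef
      have hcv : c • v • y = v' • y := by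
        have : c • v • y = (D.n i)⁻¹ • u • D.n i • v • y := by
          rw [hcdef, mul_smul, mul_smul]
        rw [this, e, inv_smul_smul]
      obtain ⟨b₁, hb₁, b₂, hb₂, ec⟩ := D.mem_P i hcP hc
      obtain ⟨w, hw, ew⟩ := hBQ b₂⁻¹ (inv_mem hb₂)
      apply hzy
      have e1 : z = b₁⁻¹ • (c * (w * v⁻¹) * c⁻¹) • v' • y := by
        rw [← hcv]
        have : (c * (w * v⁻¹) * c⁻¹) • c • v • y = c • w • y := by
          simp only [smul_smul]; congr 1; group
        rw [this, ← ew, hz]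
        simp only [smul_smul]
        rw [ec]
        congr 1
        group
      rw [e1]
      rw [smul_mem_orb (inv_mem hb₁), smul_mem_orb (hQB _ (D.PQ i c hcP _ (mul_mem hw (inv_mem hv)))),
        smul_mem_orb (hQB _ hv')]
      exact self_mem_orb _ _
    refine ⟨y, z, hall', hyP, ?_, hzy, ?_, ?_⟩
    · exact (smul_mem_orb (D.n_mem_P i)).2 hyP
    · intro z' hz' w hw hwz
      obtain ⟨b, hb, rfl⟩ := mem_orb.1 hz'
      obtain ⟨u, hu, eu⟩ := orb_U D hG z hb
      rw [eu] at hwz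
      have h1 : u⁻¹ * w * u ∈ D.U := mul_mem (mul_mem (inv_mem hu) hw) hu
      obtain ⟨v, hv, x', hx', e⟩ := D.mul i _ h1
      have h2 : (v * x') • z = z := by
        rw [← e, mul_smul, mul_smul, hwz, inv_smul_smul]
      have h3 : x' • D.n i • (1 : G) • y = D.n i • ((D.n i)⁻¹ * v⁻¹ * D.n i) • y := by
        rw [one_smul]
        have e3 : x' • D.n i • y = v⁻¹ • (v * x') • z := by rw [hz, mul_smul, inv_smul_smul]
        rw [e3, h2, hz]
        simp only [smul_smul]
        congr 1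
        group
      have h4 := key x' hx' 1 (one_mem _) _ (D.nQ' i _ (inv_mem hv)) h3
      rw [h4, mul_one] at e
      have h5 : w = u * v * u⁻¹ := by rw [← e]; group
      rw [h5]
      exact D.UQ i u hu v hv
    · -- cardinalities
      obtain ⟨⟨u, hu⟩, hu1⟩ := (Subgroup.ne_bot_iff_exists_ne_one (H := D.X i)).1 (D.Xne i)
      have hu1' : u ≠ 1 := fun h => hu1 (Subtype.ext h)
      have h1 : ((orb D.B y).image (fun y' => D.n i • y')) ⊂ orb D.B z := by
        rw [Finset.ssubset_iff_of_subset]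
        · refine ⟨u • z, mem_orb.2 ⟨u, hXB u hu, rfl⟩, ?_⟩
          intro hcon
          obtain ⟨y', hy', e⟩ := Finset.mem_image.1 hcon
          obtain ⟨b, hb, rfl⟩ := mem_orb.1 hy'
          obtain ⟨v, hv, ev⟩ := hBQ b hb
          rw [ev] at e
          apply hu1'
          refine key u hu 1 (one_mem _) v hv ?_
          rw [one_smul]
          exact e.symm
        · intro w hw
          obtain ⟨y', hy', rfl⟩ := Finset.mem_image.1 hw
          obtain ⟨b, hb, rfl⟩ := mem_orb.1 hy'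
          exact hBz b hb
      have h2 := Finset.card_lt_card h1
      rwa [Finset.card_image_of_injective _ (MulAction.injective (D.n i))] at h2

end Cfsg.Agent.H249.Rank1
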