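import Mathlib
import Cfsg.Agent.Lib.FrattiniBasic
import Cfsg.Agent.H249.Lam

/-!
# Existence and decomposition of linear characters (helper249, HUB H1 part (A))
-/

set_option autoImplicit false
set_option linter.unusedSectionVars false

namespace Cfsg.Agent.H249

open Pair Classical Rank1
open scoped commutatorElement

/-- a proper subgroup of a finite `p`-group is contained in the kernel of a nontrivial linear character -/
theorem exists_chr {G : Type*} [Group G] [Finite G] {p : ℕ} (hp : p.Prime) {U H : Subgroup G} (hU : IsPGroup p ↥U)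
    (hH : H ≤ U) (hne : H ≠ U) : ∃ l : G → ℂ, Chr U l ∧ (∀ u ∈ H, l u = 1) ∧ ∃ u ∈ U, l u ≠ 1 := by
  have : Fact p.Prime := ⟨hp⟩
  have h1 : H.subgroupOf U ≠ ⊤ := by
    intro h
    rw [Subgroup.subgroupOf_eq_top] at h
    exact hne (le_antisymm hH h)
  obtain ⟨M, hM, hHM⟩ := (eq_top_or_exists_le_coatom (H.subgroupOf U)).resolve_left h1
  have hcomm := Lib.FrattiniBasic.commutator_le_of_isCoatom hU hM
  have hN : M.Normal := Lib.FrattiniBasic.normal_of_isCoatom hU hM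
  have hc : ∀ a b : ↥U ⧸ M, a * b = b * a := by
    intro a b
    obtain ⟨a, rfl⟩ := QuotientGroup.mk_surjective a
    obtain ⟨b, rfl⟩ := QuotientGroup.mk_surjective b
    rw [← QuotientGroup.mk_mul, ← QuotientGroup.mk_mul, QuotientGroup.eq]
    apply hcomm
    have : (a * b)⁻¹ * (b * a) = ⁅b⁻¹, a⁻¹⁆ := by
      rw [commutatorElement_def]; group
    rw [this]
    exact Subgroup.commutator_mem_commutator (Subgroup.mem_top _) (Subgroup.mem_top _)
  let : CommGroup (↥U ⧸ M) := { (inferInstance : Group (↥U ⧸ M)) with mul_comm := hc }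
  obtain ⟨u, hu⟩ : ∃ u : ↥U, u ∉ M := by
    by_contra h
    push Not at h
    exact hM.1 (eq_top_iff.2 fun x _ => h x)
  have hu1 : (QuotientGroup.mk u : ↥U ⧸ M) ≠ 1 := fun h => hu ((QuotientGroup.eq_one_iff u).1 h)
  obtain ⟨φ, hφ⟩ := CommGroup.exists_apply_ne_one_of_hasEnoughRootsOfUnity (↥U ⧸ M) ℂ hu1
  refine ⟨fun g => if h : g ∈ U then (φ (QuotientGroup.mk ⟨g, h⟩) : ℂ) else 0, ⟨?_, ?_⟩, ?_, ?_⟩
  · simp only [one_mem, dif_pos]
    have : (⟨1, one_mem U⟩ : ↥U) = 1 := rfl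
    rw [this, QuotientGroup.mk_one, map_one, Units.val_one]
  · intro a ha b hb
    simp only [mul_mem ha hb, ha, hb, dif_pos]
    have : (⟨a * b, mul_mem ha hb⟩ : ↥U) = ⟨a, ha⟩ * ⟨b, hb⟩ := rfl
    rw [this, QuotientGroup.mk_mul, map_mul, Units.val_mul]
  · intro a ha
    simp only [hH ha, dif_pos]
    have h2 : (⟨a, hH ha⟩ : ↥U) ∈ M := hHM ha
    rw [(QuotientGroup.eq_one_iff _).2 h2, map_one, Units.val_one]
  · refine ⟨u, u.2, ?_⟩
    simp only [u.2, dif_pos]
    intro h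
    exact hφ (Units.ext h)

section

variable {G : Type*} [Group G] [Finite G] {I : Type*} [Fintype I] {p : ℕ} (D : Dat G I p) {l : G → ℂ}

/-- the components -/
def Dec (u : G) (x : I → G) : Prop := ∀ i, x i ∈ D.X i ∧ u * (x i)⁻¹ ∈ D.Q i

theorem exists_dec {u : G} (hu : u ∈ D.U) : ∃ x, Dec D u x := by
  have : ∀ i, ∃ x, x ∈ D.X i ∧ u * x⁻¹ ∈ D.Q i := by
    intro i
    obtain ⟨v, hv, x, hx, rfl⟩ := D.mul i u hu
    exact ⟨x, hx, by rwa [mul_inv_cancel_right]⟩
  choose x hx using this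
  exact ⟨x, hx⟩

theorem Dec.mul {u v : G} (hu : u ∈ D.U) {x y : I → G} (hx : Dec D u x) (hy : Dec D v y) :
    Dec D (u * v) (fun i => x i * y i) := by
  intro i
  refine ⟨mul_mem (hx i).1 (hy i).1, ?_⟩
  have e : u * v * (x i * y i)⁻¹ = (u * (v * (y i)⁻¹) * u⁻¹) * (u * (x i)⁻¹) := by group
  rw [e]
  exact mul_mem (D.UQ i u hu _ (hy i).2) (hx i).2

theorem Dec.inv {u : G} (hu : u ∈ D.U) {x : I → G} (hx : Dec D u x) : Dec D u⁻¹ (fun i => (x i)⁻¹) := by
  intro i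
  refine ⟨inv_mem (hx i).1, ?_⟩
  have e : u⁻¹ * (x i)⁻¹⁻¹ = u⁻¹ * (u * (x i)⁻¹)⁻¹ * u⁻¹⁻¹ := by group
  rw [e]
  exact D.UQ i u⁻¹ (inv_mem hu) _ (inv_mem (hx i).2)

/-- a linear character is the product of its components -/
theorem chr_dec (hl : Chr D.U l) (hgen : D.U ≤ ⁅D.U, D.U⁆ ⊔ ⨆ i, D.X i) {u : G} (hu : u ∈ D.U) :
    ∃ x, Dec D u x ∧ l u = ∏ i, l (x i) := by
  have hinv : ∀ {v : G}, v ∈ D.U → l v⁻¹ = (l v)⁻¹ := by
    intro v hv
    have := hl.mul_inv hv
    rw [mul_comm] at this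
    exact eq_inv_of_mul_eq_one_left this
  let S : Subgroup G :=
    { carrier := {u | u ∈ D.U ∧ ∃ x, Dec D u x ∧ l u = ∏ i, l (x i)}
      mul_mem' := by
        rintro a b ⟨ha, x, hx, ex⟩ ⟨hb, y, hy, ey⟩
        refine ⟨mul_mem ha hb, _, hx.mul D ha hy, ?_⟩
        rw [hl.mul a ha b hb, ex, ey, ← Finset.prod_mul_distrib]
        exact Finset.prod_congr rfl fun i _ => (hl.mul _ (D.XU i (hx i).1) _ (D.XU i (hy i).1)).symm
      one_mem' := ⟨one_mem _, fun _ => 1, fun i => ⟨one_mem _, by simp⟩, by simp [hl.one]⟩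
      inv_mem' := by
        rintro a ⟨ha, x, hx, ex⟩
        refine ⟨inv_mem ha, _, hx.inv D ha, ?_⟩
        rw [hinv ha, ex, ← Finset.prod_inv_distrib]
        exact Finset.prod_congr rfl fun i _ => (hinv (D.XU i (hx i).1)).symm }
  have h1 : ⁅D.U, D.U⁆ ⊔ ⨆ i, D.X i ≤ S := by
    refine sup_le ?_ (iSup_le fun i => ?_)
    · rw [Subgroup.commutator_le]
      intro a ha b hb
      obtain ⟨x, hx⟩ := exists_dec D ha
      obtain ⟨y, hy⟩ := exists_dec D hb
      have hmem : ⁅a, b⁆ ∈ D.U := mul_mem (mul_mem (mul_mem ha hb) (inv_mem ha)) (inv_mem hb)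
      refine ⟨hmem, fun i => x i * y i * (x i)⁻¹ * (y i)⁻¹,
        ((hx.mul D ha hy).mul D (mul_mem ha hb) (hx.inv D ha)).mul D (mul_mem (mul_mem ha hb) (inv_mem ha))
          (hy.inv D hb), ?_⟩
      have hcom : ∀ {a b : G}, a ∈ D.U → b ∈ D.U → l (a * b * a⁻¹ * b⁻¹) = 1 := by
        intro a b ha hb
        rw [hl.mul _ (mul_mem (mul_mem ha hb) (inv_mem ha)) _ (inv_mem hb),
          hl.mul _ (mul_mem ha hb) _ (inv_mem ha), hl.mul _ ha _ hb, hinv ha, hinv hb]
        have h2 := hl.ne_zero ha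
        have h3 := hl.ne_zero hb
        field_simp
      rw [commutatorElement_def, hcom ha hb]
      symm
      exact Finset.prod_eq_one fun i _ => hcom (D.XU i (hx i).1) (D.XU i (hy i).1)
    · intro y hy
      refine ⟨D.XU i hy, fun j => if j = i then y else 1, fun j => ?_, ?_⟩
      · by_cases hj : j = i
        · subst hj
          simp only [if_true]
          exact ⟨hy, by rw [mul_inv_cancel]; exact one_mem _⟩
        · simp only [hj, if_false]
          exact ⟨one_mem _, by rw [inv_one, mul_one]; exact D.XQ i j (Ne.symm hj) hy⟩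
      · rw [Finset.prod_eq_single i]
        · simp
        · intro j _ hj
          simp [hj, hl.one]
        · intro h; exact absurd (Finset.mem_univ i) h
  exact (h1 (hgen hu)).2

/-- a linear character is trivial on the elements of `U` in the `Q_j`, `j` in the support -/
theorem chr_eq_one (hl : Chr D.U l) (hgen : D.U ≤ ⁅D.U, D.U⁆ ⊔ ⨆ i, D.X i) {u : G} (hu : u ∈ D.U)
    (hJ : ∀ j, (∃ x ∈ D.X j, l x ≠ 1) → u ∈ D.Q j) : l u = 1 := by
  obtain ⟨x, hx, e⟩ := chr_dec D hl hgen hu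
  rw [e]
  refine Finset.prod_eq_one fun i _ => ?_
  by_cases h : ∃ x ∈ D.X i, l x ≠ 1
  · have h1 := hJ i h
    have h2 : x i ∈ D.Q i := by
      have : x i = (u * (x i)⁻¹)⁻¹ * u := by group
      rw [this]
      exact mul_mem (inv_mem (hx i).2) h1
    rw [D.Q_inf_X i _ h2 (hx i).1, hl.one]
  · push Not at h
    exact h _ (hx i).1

/-- a linear character trivial on the commutator subgroup and on some root groups -/
theorem chr_ker (hl : Chr D.U l) {K : Subgroup G} {S : Set I} (hK : K ≤ ⁅D.U, D.U⁆ ⊔ ⨆ i : S, D.X i)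
    (hS : ∀ i ∈ S, ∀ x ∈ D.X i, l x = 1) {u : G} (hu : u ∈ K) : l u = 1 := by
  let S' : Subgroup G :=
    { carrier := {u | u ∈ D.U ∧ l u = 1}
      mul_mem' := by
        rintro a b ⟨ha, ea⟩ ⟨hb, eb⟩
        exact ⟨mul_mem ha hb, by rw [hl.mul a ha b hb, ea, eb, one_mul]⟩
      one_mem' := ⟨one_mem _, hl.one⟩
      inv_mem' := by
        rintro a ⟨ha, ea⟩
        refine ⟨inv_mem ha, ?_⟩
        have := hl.mul_inv ha
        rwa [ea, one_mul] at this }
  have h1 : ⁅D.U, D.U⁆ ⊔ ⨆ i : S, D.X i ≤ S' := by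
    refine sup_le ?_ (iSup_le fun i x hx => ⟨D.XU i hx, hS i i.2 x hx⟩)
    rw [Subgroup.commutator_le]
    intro a ha b hb
    refine ⟨mul_mem (mul_mem (mul_mem ha hb) (inv_mem ha)) (inv_mem hb), ?_⟩
    rw [commutatorElement_def, hl.mul _ (mul_mem (mul_mem ha hb) (inv_mem ha)) _ (inv_mem hb),
      hl.mul _ (mul_mem ha hb) _ (inv_mem ha), hl.mul _ ha _ hb]
    linear_combination l b * l b⁻¹ * hl.mul_inv ha + hl.mul_inv hb
  exact (h1 (hK hu)).2

end

/-! ### The main theorem -/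

section Main

variable {G : Type*} [Group G] [Finite G] {Ω : Type*} [MulAction G Ω] [Fintype Ω] [Nonempty Ω] {I : Type*}
  [Fintype I] {p : ℕ} (D : Dat G I p)

/-- **Main theorem** (abstract form): some point of `Ω` is fixed by `U`. -/
theorem exists_fixed (hG : Gen G (Ω := Ω) D.B) (hgen : D.U ≤ ⁅D.U, D.U⁆ ⊔ ⨆ i, D.X i)
    (hE : ∀ J : Set I, J.Nonempty → ∃ E : JDat D J, E.Q ≤ ⁅D.U, D.U⁆ ⊔ ⨆ i : (Jᶜ : Set I), D.X i) :
    ∃ x : Ω, ∀ u ∈ D.U, u • x = x := by
  have : Fintype G := Fintype.ofFinite G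
  obtain ⟨x, hx⟩ := Finite.exists_min (fun x : Ω => (orb D.B x).card)
  refine ⟨x, ?_⟩
  by_contra hcon
  have hst : st D.U x ≠ D.U := by
    intro h
    apply hcon
    intro u hu
    rw [← h] at hu
    exact (mem_st.1 hu).2
  obtain ⟨l, hl, hlx, u₀, hu₀, hlu₀⟩ := exists_chr D.hp D.pU (st_le D.U x) hst
  set J : Set I := {j | ∃ x ∈ D.X j, l x ≠ 1} with hJdef
  have hJ : ∀ j ∈ J, ∃ x ∈ D.X j, l x ≠ 1 := fun j hj => hj
  have hne : J.Nonempty := by
    by_contra h
    rw [Set.not_nonempty_iff_eq_empty] at h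
    apply hlu₀
    refine chr_eq_one D hl hgen hu₀ fun j hj => ?_
    exact absurd (show j ∈ J from hj) (by rw [h]; exact Set.notMem_empty j)
  obtain ⟨E, hEQ⟩ := hE J hne
  have hQ : ∀ v ∈ E.Q, l v = 1 := by
    intro v hv
    refine chr_ker D hl hEQ (fun i hi y hy => ?_) hv
    by_contra h
    exact hi ⟨y, hy, h⟩
  -- the functions
  set ψ : Ω → Ω → ℂ := fun z v => ∑ u ∈ fs D.U, if u • z = v then l u else 0 with hψ
  have hψU : ∀ z, ∀ u ∈ D.U, ∀ y, ψ z (u • y) = l u * ψ z y := by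
    intro z u hu y
    simp only [hψ]
    rw [← sum_mul_left hu (fun w => if w • z = u • y then l w else 0), Finset.mul_sum]
    refine Finset.sum_congr rfl fun w hw => ?_
    have : (u * w) • z = u • y ↔ w • z = y := by
      rw [mul_smul, smul_left_cancel_iff]
    rw [hl.mul u hu w (mem_fs.1 hw)]
    simp only [this]
    split_ifs <;> simp
  have hψs : ∀ z v, ψ z v ≠ 0 → v ∈ orb D.U z := by
    intro z v h
    by_contra hcon
    apply h
    simp only [hψ]
    refine Finset.sum_eq_zero fun u hu => ?_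
    rw [if_neg]
    intro e
    exact hcon (mem_orb.2 ⟨u, mem_fs.1 hu, e.symm⟩)
  have hψz : ∀ z, (∀ u ∈ D.U, u • z = z → l u = 1) → ψ z z ≠ 0 := by
    intro z hz
    simp only [hψ]
    have : ∀ u ∈ fs D.U, (if u • z = z then l u else 0) = if u • z = z then 1 else 0 := by
      intro u hu
      split_ifs with h
      · exact hz u (mem_fs.1 hu) h
      · rfl
    rw [Finset.sum_congr rfl this, ← Finset.sum_filter, Finset.sum_const, nsmul_eq_mul, mul_one]
    have : 0 < ((fs D.U).filter (fun u => u • z = z)).card :=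
      Finset.card_pos.2 ⟨1, by rw [Finset.mem_filter]; exact ⟨mem_fs.2 (one_mem _), one_smul _ _⟩⟩
    exact_mod_cast this.ne'
  obtain ⟨j₀, hj₀⟩ := hne
  have hUP : D.U ≤ JDat.PP D J := le_trans D.U_le_B (le_trans (D.B_le_P j₀) (JDat.P_le_PP hj₀))
  have hBP : D.B ≤ JDat.PP D J := le_trans (D.B_le_P j₀) (JDat.P_le_PP hj₀)
  have horbU : ∀ z v : Ω, v ∈ orb D.U z → v ∈ orb (JDat.PP D J) z := by
    intro z v hv
    obtain ⟨u, hu, rfl⟩ := mem_orb.1 hv
    exact mem_orb.2 ⟨u, hUP hu, rfl⟩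
  have hψx := hψz x (fun u hu e => hlx u (mem_st.2 ⟨hu, e⟩))
  have hψx0 : ψ x ≠ 0 := fun h => hψx (congrFun h x)
  have hψxs : ∀ y, ψ x y ≠ 0 → y ∈ orb (JDat.PP D J) x := fun y hy => horbU x y (hψs x y hy)
  have hcc : ∀ y ∈ orb (JDat.PP D J) x, E.cc (ψ x) y ≠ 0 := fun y hy =>
    E.cc_ne_zero hG hl hJ hQ ⟨j₀, hj₀⟩ (hψU x) hψxs hψx0 hy
  -- a `B`-orbit of maximal size
  obtain ⟨y, hy, hymax⟩ := Finset.exists_max_image (orb (JDat.PP D J) x) (fun y => (orb D.B y).card)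
    ⟨x, self_mem_orb _ _⟩
  have hDU : ∀ j ∈ J, (∀ u ∈ D.U, u • y = y → u ∈ D.Q j) ∧
      ∃ y' ∈ orb (D.P j) y, (orb D.B y').card < (orb D.B y).card := by
    intro j hj
    rcases E.cc_P hG hl hJ (hψU x) hj y with ⟨h1, -⟩ | ⟨y', z, h1, hy', hz, -, h2, h3⟩
    · exact absurd h1 (hcc y hy)
    · have h4 := h1 1 (one_mem _)
      rw [one_smul] at h4
      have h5 : y ∈ orb D.B z := by
        rcases h4 with h4 | h4
        · exfalso
          have h6 : z ∈ orb (JDat.PP D J) x := by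
            obtain ⟨g, hg, rfl⟩ := mem_orb.1 hz
            exact (smul_mem_orb (JDat.P_le_PP hj hg)).2 hy
          have h7 := hymax z h6
          rw [orb_eq h4] at h7
          omega
        · exact h4
      exact ⟨fun u hu e => h2 y h5 u hu e, y', hy', by rwa [orb_eq h5]⟩
  -- `l` is trivial on the stabiliser of `y`
  have hly : ∀ u ∈ D.U, u • y = y → l u = 1 := fun u hu e =>
    chr_eq_one D hl hgen hu fun j hj => (hDU j hj).1 u hu e
  have hψy := hψz y hly
  have hψys : ∀ v, ψ y v ≠ 0 → v ∈ orb (JDat.PP D J) x := by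
    intro v hv
    rw [← orb_eq hy]
    exact horbU y v (hψs y v hv)
  obtain ⟨c, hc⟩ := E.exists_smul hG hl hJ hQ ⟨j₀, hj₀⟩ (hψU x) (hψU y) hψxs hψys hψx0
  have h1 : ψ x y ≠ 0 := by
    intro h
    apply hψy
    rw [hc, Pi.smul_apply, h, smul_zero]
  have h2 := hψs x y h1
  have h3 : orb D.B y = orb D.B x := by
    obtain ⟨u, hu, rfl⟩ := mem_orb.1 h2
    exact orb_eq (mem_orb.2 ⟨u, D.U_le_B hu, rfl⟩)
  obtain ⟨-, y', -, h4⟩ := hDU j₀ hj₀
  rw [h3] at h4
  exact absurd h4 (not_lt.2 (hx y'))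

end Main

end Cfsg.Agent.H249
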