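import Cfsg.Agent.H249.PPFold
import Cfsg.Agent.Nodes.RGDTwTab
import Cfsg.Agent.KFacts.RgdRigid
import Cfsg.Agent.KFacts.RgdTI
import Cfsg.Agent.ChevalleyStructure.HMatDiagAll
import Cfsg.Agent.ChevalleyStructure.FixedCard
import Cfsg.Agent.S1071

/-!
# `³D₄(q)`, `q ≥ 4`, has no proper subgroup of `p`-power index, `q` a power of `p` (helper249)
-/

set_option autoImplicit false
set_option linter.unusedSectionVars false
set_option maxHeartbeats 400000

namespace Cfsg.Agent.H249.PPTwD4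

open Subgroup
open CoxeterSystem Cfsg.Agent.ChevalleyStructure.CoxeterGeom Cfsg.Agent.Tits.Roots Cfsg.Agent.Tits.Core
  Cfsg.Agent.Tits.Exchange Cfsg.Agent.Nodes.Reps Cfsg.Agent.Nodes.BNOf Cfsg.Agent.Nodes.RGDTwGen
  Cfsg.Agent.Nodes.RGDChev
  Cfsg.Agent.Nodes.RGDFold Cfsg.Agent.Nodes.RGDFoldSL Cfsg.Agent.Nodes.RGDTwD4 Cfsg.Agent.Nodes.RGDTwTab
  Cfsg.Agent.Nodes.RGDTwCoord Cfsg.Agent.Nodes Cfsg.Agent.Nodes.Bruhat Cfsg.Agent.Nodes.Coroot
  Cfsg.Agent.KFacts.RgdTI Cfsg.Agent.H225.PPow Cfsg.Agent.H249.PPFold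
open Cfsg.Lie Cfsg.Agent.ChevalleyStructure Cfsg.Agent.ChevalleyStructure.Elts
  Cfsg.Agent.ChevalleyStructure.TwistedU Cfsg.Agent.ChevalleyStructure.TwistedFix
open Cfsg.Agent.ChevalleyStructure.D4Fixed (sig)
open scoped commutatorElement

universe u

/-! ### tables -/

/-- The classes. -/
def O : List (List ℕ) := [[0], [1], [2, 6, 3], [4, 7, 8], [9], [5, 10, 11], [18, 13, 12], [14], [19, 16, 15],
  [21, 17, 20], [22], [23]]

/-- The signs. -/
def dl (r : ℕ) : ℤ := if r ∈ [6, 7, 8, 15, 16, 17] then -1 else 1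

theorem clData : ClData chevD4 J A L rho eps dl O dgD4 where
  dgOK := dgOK_D4
  cover := by decide +kernel
  lt := by decide +kernel
  ne := by decide +kernel
  cls := by decide +kernel
  cl_eq := by decide +kernel
  nodup := by decide +kernel
  rot := by decide +kernel
  comm := by decide +kernel
  dsq := by decide +kernel
  deps := by decide +kernel
  perm := by decide +kernel
  baseL := by decide +kernel
  baseF := by decide +kernel

/-- the class of a vector -/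
local notation "cl" => Cfsg.Agent.Nodes.RGDTwCoord.cl chevD4 J O

/-- the short roots -/
def z1 : Fin 2 → ℤ := ![1, 1]
/-- the short roots -/
def z2 : Fin 2 → ℤ := ![1, 2]
/-- the highest root -/
def z3 : Fin 2 → ℤ := ![2, 3]

/-- the coweight -/
def e0 : Fin 2 → ℤ := ![2, 1]

theorem tab0 : pe chevD4 J e0 (List.finRange 2) ((cl (sr 1)).headD 0) = 0 := by decide +kernel

theorem tab : ∀ i < 12, V chevD4 J ((O.getD i []).headD 0) = sr 1 ∨ V chevD4 J ((O.getD i []).headD 0) 0 < 0 ∨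
    V chevD4 J ((O.getD i []).headD 0) 1 < 0 ∨
    pe chevD4 J e0 (List.finRange 2) ((O.getD i []).headD 0) = 1 ∨
      pe chevD4 J e0 (List.finRange 2) ((O.getD i []).headD 0) = 2 := by decide +kernel

theorem tabO : ∀ o ∈ O, ∃ i < 12, O.getD i [] = o := by decide +kernel

theorem clT : cl (sr 1) = [18, 13, 12] ∧ cl z1 = [19, 16, 15] ∧ cl z2 = [21, 17, 20] ∧ cl z3 = [23] := by
  decide +kernel

theorem wtT : chevD4.cartan ((0 : Fin 4) : ℕ) 18 = 2 ∧ chevD4.cartan ((2 : Fin 4) : ℕ) 18 = 0 ∧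
    chevD4.cartan ((3 : Fin 4) : ℕ) 18 = 0 ∧ chevD4.cartan ((1 : Fin 4) : ℕ) 18 = -1 := by decide +kernel

theorem okPT : okP chevD4.nroots dgD4 [23] [19, 16, 15] [21, 17, 20] = true := by decide +kernel

theorem reflT : Cfsg.Agent.Nodes.RGDFold.refl A 0 (sr 1) = z1 ∧ Cfsg.Agent.Nodes.RGDFold.refl A 1 z1 = z2 := by decide +kernel

theorem nilT : ∀ r < chevD4.nroots, V chevD4 J r 0 < 0 ∨ 23 = r ∨
    (23 ≠ chevD4.neg r ∧ chevD4.commTerms r 23 = []) := by decide +kernel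

theorem lt23 : 23 < chevD4.nroots := by decide +kernel

theorem tmT : tm dgD4 dl [19, 16, 15] [21, 17, 20] 23 = [(1, 0, 1), (1, 1, 2), (1, 2, 0)] := by decide +kernel

/-! ### the root `z3` -/

section

variable {W : Type*} [Group W] (cs : CoxeterSystem CoxeterMatrix.G₂ W)

include cs in
theorem finiteW : Finite W := Cfsg.Agent.Nodes.RGDFold.finite_W (hp := hp) cs isCartan foldData

theorem rep0 : rep cs isCartan (cs.simple 0) (sr 1) = z1 := by
  rw [rep_refl]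
  exact reflT.1

theorem rep1 : rep cs isCartan (cs.simple 1 * cs.simple 0) (sr 1) = z2 := by
  rw [rep_mul_apply, rep0, rep_refl]
  exact reflT.2

theorem rep3 : rep cs isCartan (cs.simple 0 * cs.simple 1) (sr 0) = z3 := by
  have h1 : Cfsg.Agent.Nodes.RGDFold.refl A 0 (Cfsg.Agent.Nodes.RGDFold.refl A 1 (sr 0)) = z3 := by decide +kernel
  rw [rep_mul_apply, rep_refl, rep_refl]
  exact h1

theorem root1 : IsRoot cs isCartan z1 := ⟨_, _, (rep0 cs).symm⟩
theorem root2 : IsRoot cs isCartan z2 := ⟨_, _, (rep1 cs).symm⟩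
theorem root3 : IsRoot cs isCartan z3 := ⟨_, _, (rep3 cs).symm⟩

theorem pairing0 (x : Fin 2 → ℤ) : pairing A 0 x = 2 * x 0 - x 1 := by
  have h1 : A 0 0 = 2 := rfl
  have h2 : A 0 1 = -1 := rfl
  unfold pairing
  rw [Fin.sum_univ_two, h1, h2]; ring

theorem pairing1 (x : Fin 2 → ℤ) : pairing A 1 x = 2 * x 1 - 3 * x 0 := by
  have h1 : A 1 0 = -3 := rfl
  have h2 : A 1 1 = 2 := rfl
  unfold pairing
  rw [Fin.sum_univ_two, h1, h2]; ring

theorem refl0 (x : Fin 2 → ℤ) : Cfsg.Agent.Nodes.RGDFold.refl A 0 x 0 = x 1 - x 0 ∧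
    Cfsg.Agent.Nodes.RGDFold.refl A 0 x 1 = x 1 := by
  unfold Cfsg.Agent.Nodes.RGDFold.refl
  constructor
  · rw [Pi.sub_apply, Pi.smul_apply, sr_self, pairing0, smul_eq_mul]; ring
  · rw [Pi.sub_apply, Pi.smul_apply, sr_ne (by decide), smul_zero, sub_zero]

theorem refl1 (x : Fin 2 → ℤ) : Cfsg.Agent.Nodes.RGDFold.refl A 1 x 0 = x 0 ∧
    Cfsg.Agent.Nodes.RGDFold.refl A 1 x 1 = 3 * x 0 - x 1 := by
  unfold Cfsg.Agent.Nodes.RGDFold.refl
  constructor
  · rw [Pi.sub_apply, Pi.smul_apply, sr_ne (by decide), smul_zero, sub_zero]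
  · rw [Pi.sub_apply, Pi.smul_apply, sr_self, pairing1, smul_eq_mul]; ring

theorem cpr3 (x : Fin 2 → ℤ) : cpr cs isCartan x z3 = x 0 := by
  have : Finite W := finiteW cs
  rw [← rep3 cs, cpr_rep_sr, mul_inv_rev, cs.inv_simple, cs.inv_simple, rep_mul_apply, rep_refl, rep_refl, pairing0,
    (refl1 _).1, (refl1 _).2, (refl0 _).1, (refl0 _).2]
  ring

end

section Group

variable {K : Type u} [Field K] {q : ℕ} {φ : K →+* K} {W : Type*} [Group W] {cs : CoxeterSystem CoxeterMatrix.G₂ W}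

theorem twC [Fintype K] (hK : Fintype.card K = q ^ 3) (hφ : ∀ x, φ x = x ^ q) :
    TwC hp K CoxeterMatrix.G₂ A J L (sig φ) rho (fun r => rho (rho r))
      (fun r t => ((eps r : ℤ) : K) * φ t) (twistedD4 K q) φ eps dl O dgD4 where
  FD := foldData
  FG := foldGrp hφ (D4Fixed.twisted_le_fix hK hφ)
  CD := clData
  sig r hr t := by
    have h24 : r < 24 := hr
    rw [xG_eq]
    exact D4U.sig_xG φ h24 (by rw [rho, dif_pos h24]) (by rw [eps, dif_pos h24]) t

/-- **`LR` for the highest root.** -/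
theorem lr3 [Fintype K] (hK : Fintype.card K = q ^ 3) (hφ : ∀ x, φ x = x ^ q) (p : ℕ) [Fact p.Prime] [CharP K p] :
    LR (rgd cs hK hφ p) z3 := by
  have : Finite W := finiteW cs
  refine ⟨root3 cs, fun x hx hc u hu v hv => ?_⟩
  rw [cpr3] at hc
  have hu' : (u : GL chevD4.Idx K) ∈ rspan (xG (F := K) hp.inList) {k | k < chevD4.nroots ∧ V chevD4 J k = x} :=
    (show (u : GL chevD4.Idx K) ∈ R chevD4 hp K J (sig φ) x from hu).1
  have hv' : (v : GL chevD4.Idx K) ∈ rspan (xG (F := K) hp.inList) {k | k < chevD4.nroots ∧ V chevD4 J k = z3} :=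
    (show (v : GL chevD4.Idx K) ∈ R chevD4 hp K J (sig φ) z3 from hv).1
  have hz3 : ∀ k < chevD4.nroots, V chevD4 J k = z3 → k = 23 := by decide +kernel
  have step : ∀ t : K, rspan (xG (F := K) hp.inList) {k | k < chevD4.nroots ∧ V chevD4 J k = x} ≤
      Subgroup.centralizer ({xG (F := K) hp.inList 23 t} : Set (GL chevD4.Idx K)) := by
    intro t
    refine rspan_le _ fun r hr w => ?_
    rw [Subgroup.mem_centralizer_singleton_iff]
    rcases nilT r hr.1 with h1 | h1 | ⟨h1, h2⟩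
    · rw [hr.2] at h1; omega
    · subst h1
      rw [xG_add, xG_add, add_comm]
    · by_cases h3 : 23 = r
      · subst h3
        rw [xG_add, xG_add, add_comm]
      · exact (commute_of_nil hp hr.1 lt23 h3 h1 h2 w t).eq
  have h1 : rspan (xG (F := K) hp.inList) {k | k < chevD4.nroots ∧ V chevD4 J k = z3} ≤
      Subgroup.centralizer ({(u : GL chevD4.Idx K)} : Set (GL chevD4.Idx K)) := by
    refine rspan_le _ fun s hs t => ?_
    rw [Subgroup.mem_centralizer_singleton_iff, hz3 s hs.1 hs.2]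
    exact (Subgroup.mem_centralizer_singleton_iff.1 (step t hu')).symm
  exact Subtype.ext (Subgroup.mem_centralizer_singleton_iff.1 (h1 hv')).symm

/-- the torus is abelian -/
theorem T_comm : ∀ s ∈ T K q, ∀ t ∈ T K q, s * t = t * s := by
  intro s hs t ht
  have hs' : (s : GL chevD4.Idx K) ∈ chevD4.diagonalSubgroup K := (Subgroup.mem_subgroupOf.1 hs).1
  have ht' : (t : GL chevD4.Idx K) ∈ chevD4.diagonalSubgroup K := (Subgroup.mem_subgroupOf.1 ht).1
  obtain ⟨χ, hχ⟩ := ChevalleyStructure.HMatDiagAll.mem_torus.1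
    (ChevalleyStructure.HMatDiagAll.diagonalSubgroup_le_torus hp.inList hs')
  obtain ⟨ψ, hψ⟩ := ChevalleyStructure.HMatDiagAll.mem_torus.1
    (ChevalleyStructure.HMatDiagAll.diagonalSubgroup_le_torus hp.inList ht')
  apply Subtype.ext
  apply Units.ext
  rw [Subgroup.coe_mul, Subgroup.coe_mul, Units.val_mul, Units.val_mul, hχ, hψ, Matrix.diagonal_mul_diagonal,
    Matrix.diagonal_mul_diagonal]
  congr 1
  funext i
  exact mul_comm _ _

/-! ### the field -/

theorem exists_trace_ne [Fintype K] (hq : 1 < q) (hK : Fintype.card K = q ^ 3) (hφ : ∀ x, φ x = x ^ q) :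
    ∃ y : K, y + φ y + φ (φ y) ≠ 0 := by
  by_contra hcon
  push Not at hcon
  let P : Polynomial K := Polynomial.X + Polynomial.X ^ q + Polynomial.X ^ (q * q)
  have hqq : q < q * q := by nlinarith
  have hd : P.natDegree ≤ q * q := by
    refine (Polynomial.natDegree_add_le _ _).trans (max_le ((Polynomial.natDegree_add_le _ _).trans (max_le ?_ ?_)) ?_)
    · rw [Polynomial.natDegree_X]; omega
    · rw [Polynomial.natDegree_X_pow]; omega
    · rw [Polynomial.natDegree_X_pow]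
  have hP : P = 0 := by
    apply Polynomial.eq_zero_of_natDegree_lt_card_of_eval_eq_zero P (f := fun t : K => t) (fun a b h => h)
    · intro y
      have h := hcon y
      rw [hφ, hφ, ← pow_mul] at h
      simpa [P] using h
    · rw [hK]
      have : q * q < q ^ 3 := by
        rw [pow_succ, pow_two]
        nlinarith
      omega
  have h1 : P.coeff 1 = 1 := by
    show (Polynomial.X + Polynomial.X ^ q + Polynomial.X ^ (q * q) : Polynomial K).coeff 1 = 1
    rw [Polynomial.coeff_add, Polynomial.coeff_add, Polynomial.coeff_X_one, Polynomial.coeff_X_pow,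
      Polynomial.coeff_X_pow, if_neg (by omega), if_neg (by omega), add_zero, add_zero]
  rw [hP, Polynomial.coeff_zero] at h1
  exact zero_ne_one h1

theorem exists_fix [Fintype K] (hφ : ∀ x, φ x = x ^ q) {n : ℕ} (hK : Fintype.card K = q ^ n) (hq : 4 ≤ q) :
    ∃ d : K, d ≠ 0 ∧ φ d = d ∧ d ≠ 1 ∧ d ^ (2 : ℤ) ≠ 1 := by
  classical
  by_contra hcon
  push Not at hcon
  have h1 := FixedCard.card_fixed (K := K) (show 1 < q by omega) hK
  have h2 : Nat.card {t : K // t ^ q = t} ≤ Nat.card ({0, 1, -1} : Set K) := by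
    refine Nat.card_le_card_of_injective (fun t => ⟨t.1, ?_⟩) ?_
    · by_cases h0 : t.1 = 0
      · left; exact h0
      · by_cases h3 : t.1 = 1
        · right; left; exact h3
        · have h4 := hcon t.1 h0 (by rw [hφ]; exact t.2) h3
          rw [zpow_ofNat, pow_two, mul_self_eq_one_iff] at h4
          right; right; exact h4.resolve_left h3
    · intro a b h
      exact Subtype.ext (congrArg (fun x : ({0, 1, -1} : Set K) => (x : K)) h)
  have h3 : Nat.card ({0, 1, -1} : Set K) ≤ 3 := by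
    have e1 := Set.ncard_insert_le (0 : K) {1, -1}
    have e2 := Set.ncard_insert_le (1 : K) {-1}
    rw [Set.ncard_singleton] at e2
    have e3 : ({0, 1, -1} : Set K).ncard = Nat.card ({0, 1, -1} : Set K) := rfl
    omega
  omega

theorem phi3 [Fintype K] (hK : Fintype.card K = q ^ 3) (hφ : ∀ x, φ x = x ^ q) (a : K) : φ (φ (φ a)) = a := by
  rw [hφ, hφ, hφ, ← pow_mul, ← pow_mul, show q * (q * q) = q ^ 3 by ring, ← hK, FiniteField.pow_card]

theorem ok_short [Fintype K] (hK : Fintype.card K = q ^ 3) (hφ : ∀ x, φ x = x ^ q) {z : Fin 2 → ℤ}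
    (hl : (cl z).length = 3) (a : K) : Ok chevD4 J O φ z a := by
  unfold Ok
  rw [hl]
  exact phi3 hK hφ a

theorem tower [Fintype K] (hK : Fintype.card K = q ^ 3) (hφ : ∀ x, φ x = x ^ q) {c : K} (hc : c ≠ 0) :
    ∃ d s : K, d ≠ 0 ∧ s ≠ 0 ∧ φ s = s ∧ d ^ (2 : ℤ) * s ^ (-1 : ℤ) = c := by
  obtain ⟨k, hk⟩ : ∃ k, q * q + q = 2 * k := by
    rcases Nat.even_or_odd' q with ⟨m, rfl | rfl⟩
    · exact ⟨m * (2 * m) + m, by ring⟩
    · exact ⟨(2 * m + 1) * (m + 1), by ring⟩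
  have hN : c * φ c * φ (φ c) = c ^ (2 * k + 1) := by
    rw [hφ (φ c), hφ, ← pow_mul, ← hk, pow_succ, pow_add]; ring
  refine ⟨c⁻¹ ^ k, (c * φ c * φ (φ c))⁻¹, pow_ne_zero _ (inv_ne_zero hc), ?_, ?_, ?_⟩
  · rw [hN]
    exact inv_ne_zero (pow_ne_zero _ hc)
  · rw [map_inv₀, map_mul, map_mul, phi3 hK hφ]
    congr 1
    ring
  · rw [hN, zpow_neg_one, inv_inv, zpow_ofNat, ← pow_mul, pow_succ, ← mul_assoc, mul_comm k 2, ← mul_pow,
      inv_mul_cancel₀ hc, one_pow, one_mul]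

theorem good [Fintype K] (p : ℕ) [Fact p.Prime] [CharP K p] (hq : IsPrimePow q) (hK : Fintype.card K = q ^ 3)
    (hq4 : 4 ≤ q) : H408.Core.Good p ↥(twistedD4 K q) := by
  obtain ⟨φ, hφ⟩ := D4Fixed.exists_frob hq hK
  have hsimple := (S1071.result hq hK).1
  let cs := CoxeterMatrix.G₂.toCoxeterSystem
  have hW : Finite CoxeterMatrix.G₂.Group := finiteW cs
  have R := rgd cs hK hφ p
  have hG : GG cs isCartan (T K q) (X φ q) = ⊤ := KFacts.RgdRigid.GG_eq_top (G1_eq_top cs hK hφ)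
  have hsr : IsRoot cs isCartan (sr 1) := isRoot_sr cs isCartan 1
  have T' := twC hK hφ
  obtain ⟨c0, c1, c2, c3⟩ := clT
  have ok0 : ∀ a, Ok chevD4 J O φ (sr 1) a := ok_short hK hφ (by rw [c0]; rfl)
  have ok1 : ∀ a, Ok chevD4 J O φ z1 a := ok_short hK hφ (by rw [c1]; rfl)
  have ok2 : ∀ a, Ok chevD4 J O φ z2 a := ok_short hK hφ (by rw [c2]; rfl)
  have hN : ∀ i, ∃ r o, NodeOK chevD4 J L rho i r o ∧ ∀ s ∈ r :: o, ∀ t : K,
      (fun r t => ((eps r : ℤ) : K) * φ t) s t = φ t := fun i =>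
    ⟨_, _, RGDTwNode.D4.nodeOK i, fun s hs t => by
      show ((eps s : ℤ) : K) * φ t = φ t
      rw [RGDTwNode.D4.eps_one i s hs, Int.cast_one, one_mul]⟩
  let xx := RGDTwCoord.x hp J φ dl O (twistedD4 K q)
  have hmem : ∀ g, g ∈ X φ q (sr 1) ↔ ∃ a, xx (sr 1) a = g := fun g =>
    (T'.mem_X cs isCartan p hsr g).trans ⟨fun ⟨a, _, h⟩ => ⟨a, h⟩, fun ⟨a, h⟩ => ⟨a, ok0 a, h⟩⟩
  refine PPGen.good_of_sep (i := 1) R hG T_comm ?_ ?_ ?_ ?_
  · -- `Sep`
    obtain ⟨d, hd, hdφ, hd1, hd2⟩ := exists_fix hφ hK hq4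
    refine sep_fold (cs := cs) (h := isCartan) T' hN p ?_
    intro z hz h0 hne
    obtain ⟨ho, hV, -⟩ := T'.root hz
    obtain ⟨i, hi, e⟩ := tabO _ ho
    have h1 := tab i hi
    rw [e, hV] at h1
    have h00 : (0 : ℤ) ≤ z 0 := h0 0
    have h01 : (0 : ℤ) ≤ z 1 := h0 1
    rcases h1 with h1 | h1 | h1 | h1 | h1
    · exact absurd h1 hne
    · omega
    · omega
    · exact ⟨e0, tab0, d, hd, hdφ, by rw [h1, zpow_one]; exact hd1⟩
    · exact ⟨e0, tab0, d, hd, hdφ, by rw [h1]; exact hd2⟩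
  · -- transitivity
    have h0 : xx (sr 1) 0 = 1 := PPFold.x_zero' (cs := cs) (h := isCartan) T' p hsr
    intro u hu v hv hu1 hv1
    obtain ⟨a, rfl⟩ := (hmem u).1 hu
    obtain ⟨b, rfl⟩ := (hmem v).1 hv
    have ha : a ≠ 0 := by
      rintro rfl
      exact hu1 h0
    have hb : b ≠ 0 := by
      rintro rfl
      exact hv1 h0
    obtain ⟨d, s, hd, hs, hsφ, e⟩ := tower hK hφ (c := b / a) (div_ne_zero hb ha)
    have f1 : ∀ s ∈ RGDTwNode.D4.rep 1 :: RGDTwNode.D4.rest 1, ∀ t : K,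
        (fun r t => ((eps r : ℤ) : K) * φ t) s t = φ t := fun s hs t => by
      show ((eps s : ℤ) : K) * φ t = φ t
      rw [RGDTwNode.D4.eps_one 1 s hs, Int.cast_one, one_mul]
    have f0 : ∀ s ∈ RGDTwNode.D4.rep 0 :: RGDTwNode.D4.rest 0, ∀ t : K,
        (fun r t => ((eps r : ℤ) : K) * φ t) s t = φ t := fun s hs t => by
      show ((eps s : ℤ) : K) * φ t = φ t
      rw [RGDTwNode.D4.eps_one 0 s hs, Int.cast_one, one_mul]
    have hdφ : φ^[(RGDTwNode.D4.rest 1).length + 1] d = d := phi3 hK hφ d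
    have hsφ' : φ^[(RGDTwNode.D4.rest 0).length + 1] s = s := hsφ
    obtain ⟨m1, m2⟩ := T'.hI_mem (RGDTwNode.D4.nodeOK 1) f1 hd hdφ
    obtain ⟨m3, m4⟩ := T'.hI_mem (RGDTwNode.D4.nodeOK 0) f0 hs hsφ'
    have k1 := T'.hI_Y (RGDTwNode.D4.nodeOK 1) f1 hd hdφ hsr (ok0 (s ^ (-1 : ℤ) * a))
    have k2 := T'.hI_Y (RGDTwNode.D4.nodeOK 0) f0 hs hsφ' hsr (ok0 a)
    have hh : (RGDTwCoord.cl chevD4 J O (sr 1)).headD 0 = 18 := by rw [c0]; rfl
    have w1 : wt chevD4 φ (J 1) ((RGDTwCoord.cl chevD4 J O (sr 1)).headD 0) d = d ^ (2 : ℤ) := by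
      rw [hh]
      show d ^ chevD4.cartan ((0 : Fin 4) : ℕ) 18 * ((φ d) ^ chevD4.cartan ((2 : Fin 4) : ℕ) 18 *
        ((φ (φ d)) ^ chevD4.cartan ((3 : Fin 4) : ℕ) 18 * 1)) = _
      rw [wtT.1, wtT.2.1, wtT.2.2.1, zpow_zero, zpow_zero, mul_one, mul_one, mul_one]
    have w2 : wt chevD4 φ (J 0) ((RGDTwCoord.cl chevD4 J O (sr 1)).headD 0) s = s ^ (-1 : ℤ) := by
      rw [hh]
      show s ^ chevD4.cartan ((1 : Fin 4) : ℕ) 18 * 1 = _
      rw [wtT.2.2.2, mul_one]
    rw [w1] at k1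
    rw [w2] at k2
    refine ⟨⟨_, m2⟩ * ⟨_, m4⟩, mul_mem ?_ ?_, ?_⟩
    · exact Subgroup.mem_subgroupOf.2 ⟨m1, m2⟩
    · exact Subgroup.mem_subgroupOf.2 ⟨m3, m4⟩
    · apply Subtype.ext
      rw [Subgroup.coe_mul, Subgroup.coe_mul, Subgroup.coe_inv, Subgroup.coe_mul, T'.coe_x cs isCartan p hsr (ok0 a),
        T'.coe_x cs isCartan p hsr (ok0 b)]
      show hI hp φ (J 1) d * hI hp φ (J 0) s * Y hp J φ dl O (sr 1) a * (hI hp φ (J 1) d * hI hp φ (J 0) s)⁻¹ = _
      have e1 : hI hp φ (J 1) d * hI hp φ (J 0) s * Y hp J φ dl O (sr 1) a *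
          (hI hp φ (J 1) d * hI hp φ (J 0) s)⁻¹ =
          hI hp φ (J 1) d * (hI hp φ (J 0) s * Y hp J φ dl O (sr 1) a * (hI hp φ (J 0) s)⁻¹) *
            (hI hp φ (J 1) d)⁻¹ := by group
      rw [e1, k2.2, k1.2, ← mul_assoc, e, div_mul_cancel₀ _ ha]
  · -- cardinality
    have h1 : Nat.card K ≤ Nat.card (X φ q (sr 1)) := by
      refine Nat.card_le_card_of_injective (fun a => ⟨xx (sr 1) a, (hmem _).2 ⟨a, rfl⟩⟩) ?_
      intro a b h
      exact T'.x_inj cs isCartan p hsr (ok0 a) (ok0 b) (congrArg Subtype.val h)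
    rw [Nat.card_eq_fintype_card, hK] at h1
    have h2 : 4 ^ 3 ≤ q ^ 3 := Nat.pow_le_pow_left hq4 3
    omega
  · -- the long root element
    obtain ⟨b, hb⟩ := exists_trace_ne (show 1 < q by omega) hK hφ
    have r1 := root1 cs
    have r2 := root2 cs
    have r3 := root3 cs
    have hc := T'.comm_Y r1 r2 r3 (by rw [c1, c2, c3]; exact okPT) (ok1 1) (ok2 b)
    rw [c1, c2, c3] at hc
    have e3 : ([23] : List ℕ).headD 0 = 23 := rfl
    rw [e3, tmT] at hc
    have e4 : (List.map (fun p : ℤ × ℕ × ℕ => ((p.1 : ℤ) : K) * (φ^[p.2.1] 1 * φ^[p.2.2] b))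
        [(1, 0, 1), (1, 1, 2), (1, 2, 0)]).sum = b + φ b + φ (φ b) := by
      simp only [List.map_cons, List.map_nil, List.sum_cons, List.sum_nil, Int.cast_one, one_mul,
        iterate_map_one, Function.iterate_zero, id_eq, Function.iterate_one, add_zero]
      show φ b + (φ (φ b) + b) = _
      ring
    rw [e4] at hc
    have hfix : Ok chevD4 J O φ z3 (b + φ b + φ (φ b)) := by
      unfold Ok
      rw [c3]
      show φ (b + φ b + φ (φ b)) = _
      rw [map_add, map_add, phi3 hK hφ]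
      ring
    have hcx : ⁅xx z1 1, xx z2 b⁆ = xx z3 (b + φ b + φ (φ b)) := by
      apply Subtype.ext
      rw [commutatorElement_def, Subgroup.coe_mul, Subgroup.coe_mul, Subgroup.coe_mul, Subgroup.coe_inv,
        Subgroup.coe_inv, T'.coe_x cs isCartan p r1 (ok1 1), T'.coe_x cs isCartan p r2 (ok2 b),
        T'.coe_x cs isCartan p r3 hfix, ← commutatorElement_def]
      exact hc
    refine ⟨cs.simple 0, cs.simple 1 * cs.simple 0, xx z1 1, ?_, xx z2 b, ?_, z3, lr3 hK hφ p, ?_, ?_⟩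
    · rw [rep0 cs]
      exact (T'.mem_X cs isCartan p r1 _).2 ⟨1, ok1 1, rfl⟩
    · rw [rep1 cs]
      exact (T'.mem_X cs isCartan p r2 _).2 ⟨b, ok2 b, rfl⟩
    · rw [hcx]
      exact (T'.mem_X cs isCartan p r3 _).2 ⟨_, hfix, rfl⟩
    · rw [hcx]
      intro h1
      apply hb
      have h0 : xx z3 0 = 1 := PPFold.x_zero' (cs := cs) (h := isCartan) T' p r3
      rw [← h0] at h1
      exact T'.x_inj cs isCartan p r3 hfix (by unfold Ok; exact iterate_map_zero φ _) h1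

end Group

end Cfsg.Agent.H249.PPTwD4
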