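import Cfsg.Agent.H408.Engine
import Cfsg.Agent.H129.CycT2
import Cfsg.Agent.S1054
import Cfsg.Agent.S1063
import Cfsg.Agent.S1064
import Cfsg.Agent.S1065

/-!
# `E₆(2)`, `E₇(2)`, `E₈(2)` have no proper subgroup of index a power of 2 (helper249)

By the numeric engine, with the self-centralising subgroups of order 73 (`Φ₉`), 127 (`Φ₇`), 331 (`Φ₃₀`).
-/

set_option autoImplicit false

namespace Cfsg.Agent.H249.PPEtwo

open Cfsg Cfsg.Lie Cfsg.Agent.H408.Core Cfsg.Agent.H408.Engine Cfsg.Agent.OrdDiv Cfsg.Agent.H129.CycT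

/-- a cyclic subgroup of prime order equal to the centralisers of its elements is self-centralising -/
theorem centralizer_eq {G : Type*} [Group G] {T : Subgroup G} {r : ℕ} (hr : r.Prime) (hc : IsCyclic ↥T)
    (hT : Nat.card T = r) (h : ∀ y ∈ T, y ≠ 1 → Subgroup.centralizer {y} = T) :
    Subgroup.centralizer (T : Set G) = T := by
  have h1 : T ≠ ⊥ := by
    rintro rfl
    rw [Subgroup.card_bot] at hT
    exact hr.one_lt.ne hT
  obtain ⟨y, hy1⟩ := Subgroup.ne_bot_iff_exists_ne_one.1 h1
  have hy : (y : G) ≠ 1 := fun h' => hy1 (Subtype.ext h')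
  refine le_antisymm ?_ ?_
  · have h2 : Subgroup.centralizer (T : Set G) ≤ Subgroup.centralizer {(y : G)} :=
      Subgroup.centralizer_le (Set.singleton_subset_iff.2 y.2)
    rwa [h _ y.2 hy] at h2
  · intro x hx
    rw [Subgroup.mem_centralizer_iff]
    intro z hz
    have hcm := hc.isMulCommutative
    have h3 := hcm.is_comm.comm (⟨x, hx⟩ : ↥T) ⟨z, hz⟩
    exact (congrArg Subtype.val h3).symm

theorem good (T : OrderTable.{0}) (hS : ∀ (X : Type) [Group X] [Finite X] [IsSimpleGroup X], IsKnownSimple' X)
    {D : ChevalleyDatum} {K : Type} [Field K] [Fintype K]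
    (hs : IsSimpleGroup ↥(D.group K)) {n r v : ℕ} (hn : Nat.card ↥(D.group K) = n) (hn0 : n ≠ 0)
    (hr : r.Prime) (hr2 : r ≠ 2) (hE : CycExact ↥(D.group K) r) {l : List (ℕ × ℕ)} (hv : valid l n = true)
    (hpv : ¬ 2 ^ (v + 1) ∣ n) (hchk : chk n l 2 r v [] = true) : Good 2 ↥(D.group K) := by
  have hf : Finite ↥(D.group K) := Nat.finite_of_card_ne_zero (by rwa [hn])
  obtain ⟨R, h1, h2, h3⟩ := hE
  exact good_of_chk T hS Nat.prime_two hr hr2 hn hv h2 (centralizer_eq hr h1 h2 h3) (ex := []) (by simp) hpv hchk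

section

variable (T : OrderTable.{0}) (hS : ∀ (X : Type) [Group X] [Finite X] [IsSimpleGroup X], IsKnownSimple' X)
  {K : Type} [Field K] [Fintype K] (hK : Fintype.card K = 2)

include T hS hK

theorem e6 : Good 2 ↥(chevE6.group K) :=
  good T hS (S1054.result chevE6 (by simp)).1 (n := 214841575522005575270400)
    (by have h := S1063.result hK; norm_num at h; exact h) (by norm_num) (r := 73) (by norm_num) (by norm_num)
    (by
      have h := exact_E6_9 hK (N := 73) (by norm_num)
      norm_num at h
      exact h)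
    (l := [(2, 36), (3, 6), (5, 2), (7, 3), (13, 1), (17, 1), (31, 1), (73, 1)]) (by decide +kernel) (v := 36)
    (by norm_num) (by decide +kernel)

theorem e7 : Good 2 ↥(chevE7.group K) :=
  good T hS (S1054.result chevE7 (by simp)).1 (n := 7997476042075799759100487262680802918400)
    (by have h := S1064.result hK; norm_num at h; exact h) (by norm_num) (r := 127) (by norm_num) (by norm_num)
    (exact_E7_7 hK (by norm_num) (N := 127) (by norm_num))
    (l := [(2, 63), (3, 11), (5, 2), (7, 3), (11, 1), (13, 1), (17, 1), (19, 1), (31, 1), (43, 1), (73, 1), (127, 1)])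
    (by decide +kernel) (v := 63) (by norm_num) (by decide +kernel)

theorem e8 : Good 2 ↥(chevE8.group K) :=
  good T hS (S1054.result chevE8 (by simp)).1
    (n := 337804753143634806261388190614085595079991692242467651576160959909068800000)
    (by have h := S1065.result hK; norm_num at h; exact h) (by norm_num) (r := 331) (by norm_num) (by norm_num)
    (exact_E8_30 hK (N := 331) (by norm_num))
    (l := [(2, 120), (3, 13), (5, 5), (7, 4), (11, 2), (13, 2), (17, 2), (19, 1), (31, 2), (41, 1), (43, 1), (73, 1),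
      (127, 1), (151, 1), (241, 1), (331, 1)]) (by decide +kernel) (v := 120) (by norm_num) (by decide +kernel)

end

end Cfsg.Agent.H249.PPEtwo
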