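import Cfsg.Agent.H249.PPEtwo
import Cfsg.Agent.H225.PPow.ExcE
import Cfsg.Agent.H225.PPow.ChevF
import Cfsg.Agent.H392.FFourTwo.Good
import Cfsg.Agent.H392.GTwoGood
import Cfsg.Agent.H408.PPMain

/-!
# S3608, the row of the untwisted exceptional groups in their own characteristic (helper249)
-/

set_option autoImplicit false

namespace Cfsg.Agent.H249.PPExc

open Cfsg Cfsg.Lie Cfsg.Agent.H408.Core Cfsg.Agent.H408.Idx8 Cfsg.Agent.H408.PPMain Cfsg.Agent.OrdDiv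

universe u

theorem two_le (K : Type) [Field K] [Fintype K] (p : ℕ) [Fact p.Prime] [CharP K p] :
    (Fintype.card K = 2 ∧ p = 2) ∨ (Fintype.card K = 3 ∧ p = 3) ∨ 4 ≤ Fintype.card K := by
  have hp := (Fact.out : p.Prime)
  obtain ⟨n, -, hn⟩ := FiniteField.card K p
  have h2 : 2 ≤ Fintype.card K := Fintype.one_lt_card
  by_cases h4 : 4 ≤ Fintype.card K
  · exact Or.inr (Or.inr h4)
  · have hd : p ∣ Fintype.card K := hn ▸ dvd_pow_self p n.ne_zero
    have h : Fintype.card K = 2 ∨ Fintype.card K = 3 := by omega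
    rcases h with h | h
    · exact Or.inl ⟨h, (Nat.prime_dvd_prime_iff_eq hp Nat.prime_two).1 (h ▸ hd)⟩
    · exact Or.inr (Or.inl ⟨h, (Nat.prime_dvd_prime_iff_eq hp Nat.prime_three).1 (h ▸ hd)⟩)

theorem excChev (T : OrderTable.{0}) (hS : ∀ (X : Type) [Group X] [Finite X] [IsSimpleGroup X], IsKnownSimple' X) :
    Same.{u} fun p G _ => IsExceptionalChevChar p G := by
  rintro p hp G _ _ hs ⟨F, _, _, _, h⟩
  have : Fact p.Prime := ⟨hp⟩
  have hcF : Nat.card F = Fintype.card F := Nat.card_eq_fintype_card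
  have h2 := two_le F p
  rcases h with ⟨h3, ⟨e⟩⟩ | ⟨⟨e⟩⟩ | ⟨⟨e⟩⟩ | ⟨⟨e⟩⟩ | ⟨⟨e⟩⟩
  · refine (Idx.of_good hp ?_).congr e.symm
    rcases h2 with ⟨h2, -⟩ | ⟨h2, rfl⟩ | h2
    · omega
    · exact Cfsg.Agent.H392.GTwoGood.good (by omega)
    · exact Cfsg.Agent.H225.PPow.good_G2 F p (by omega)
  · refine (Idx.of_good hp ?_).congr e.symm
    rcases h2 with ⟨h2, rfl⟩ | ⟨h2, -⟩ | h2
    · exact Cfsg.Agent.H392.FFourTwo.Good.good (by omega)
    · exact Cfsg.Agent.H225.PPow.good_F4 F p (by omega)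
    · exact Cfsg.Agent.H225.PPow.good_F4 F p (by omega)
  · refine (Idx.of_good hp ?_).congr e.symm
    rcases h2 with ⟨h2, rfl⟩ | ⟨h2, -⟩ | h2
    · exact PPEtwo.e6 T hS h2
    · exact Cfsg.Agent.H225.PPow.good_E6 F p (by omega)
    · exact Cfsg.Agent.H225.PPow.good_E6 F p (by omega)
  · refine (Idx.of_good hp ?_).congr e.symm
    rcases h2 with ⟨h2, rfl⟩ | ⟨h2, -⟩ | h2
    · exact PPEtwo.e7 T hS h2
    · exact Cfsg.Agent.H225.PPow.good_E7 F p (by omega)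
    · exact Cfsg.Agent.H225.PPow.good_E7 F p (by omega)
  · refine (Idx.of_good hp ?_).congr e.symm
    rcases h2 with ⟨h2, rfl⟩ | ⟨h2, -⟩ | h2
    · exact PPEtwo.e8 T hS h2
    · exact Cfsg.Agent.H225.PPow.good_E8 F p (by omega)
    · exact Cfsg.Agent.H225.PPow.good_E8 F p (by omega)

end Cfsg.Agent.H249.PPExc
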