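import Cfsg.Agent.H249.PPGen
import Cfsg.Agent.Nodes.RGDTwNode
import Cfsg.Agent.Nodes.RGDTwCoord

/-!
# Separation of a simple root in the folded groups `³D₄(q)`, `²E₆(q)` (helper249)

`te e d` : the torus element of the coweight `e : Fin m → ℤ` and `d` with `φ d = d`; it acts on the root element
`Y z a` by `d ^ Σ e_i cc i z`. `sep_fold` : `Sep` for a simple root from a table of coweights.
-/

set_option autoImplicit false
set_option linter.unusedSectionVars false
set_option maxHeartbeats 400000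

namespace Cfsg.Agent.H249.PPFold

open Subgroup
open CoxeterSystem Cfsg.Agent.ChevalleyStructure.CoxeterGeom Cfsg.Agent.Tits.Roots Cfsg.Agent.Tits.Core
  Cfsg.Agent.Nodes.Reps Cfsg.Agent.Nodes.BNOf Cfsg.Agent.Nodes.RGDTwGen Cfsg.Agent.Nodes.RGDChev
  Cfsg.Agent.Nodes.RGDFold Cfsg.Agent.Nodes.RGDFoldSL Cfsg.Agent.Nodes.RGDTwCoord Cfsg.Agent.H225.PPow
open Cfsg.Lie Cfsg.Agent.ChevalleyStructure Cfsg.Agent.ChevalleyStructure.Elts
  Cfsg.Agent.ChevalleyStructure.TwistedU Cfsg.Agent.ChevalleyStructure.TwistedFix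

universe u

section

variable {D : ChevalleyDatum} {l m : ℕ} {M' : CoxeterMatrix (Fin l)} {hp : IsType D l M'} {K : Type u} [Field K]
  {M : CoxeterMatrix (Fin m)} {A : Fin m → Fin m → ℤ} {J : Fin m → List (Fin l)} {L : List (List ℕ)}
  {W : Type*} [Group W] {cs : CoxeterSystem M W} {h : IsCartan M A}
  {σ : GL D.Idx K →* GL D.Idx K} {ρ ρ' : ℕ → ℕ} {f : ℕ → K → K} {G : Subgroup (GL D.Idx K)} {φ : K →+* K}
  {ε δ : ℕ → ℤ} {O : List (List ℕ)} {dg : ℕ → ℕ → ℕ}

/-- the pairing of the node `i` with the root `s` -/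
def cc (D : ChevalleyDatum) {l m : ℕ} (J : Fin m → List (Fin l)) (i : Fin m) (s : ℕ) : ℤ :=
  ((J i).map fun j : Fin l => D.cartan (j : ℕ) s).sum

/-- the pairing of the coweight `e` with the root `s` -/
def pe (D : ChevalleyDatum) {l m : ℕ} (J : Fin m → List (Fin l)) (e : Fin m → ℤ) (li : List (Fin m)) (s : ℕ) : ℤ :=
  (li.map fun i => e i * cc D J i s).sum

theorem wt_fix (o : List (Fin l)) (s : ℕ) {d : K} (hd : d ≠ 0) (hφ : φ d = d) :
    wt D φ o s d = d ^ (o.map fun j : Fin l => D.cartan (j : ℕ) s).sum := by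
  induction o with
  | nil =>
    rw [List.map_nil, List.sum_nil, zpow_zero]
    rfl
  | cons j o ih =>
    show d ^ D.cartan j s * wt D φ o s (φ d) = _
    rw [hφ, ih, List.map_cons, List.sum_cons, zpow_add₀ hd]

theorem fix_zpow {d : K} (hφ : φ d = d) (k : ℤ) : φ (d ^ k) = d ^ k := by rw [map_zpow₀, hφ]

theorem ok_fix {z : Fin m → ℤ} {d : K} (hφ : φ d = d) : Ok D J O φ z d := by
  unfold Ok
  exact Function.iterate_fixed hφ _

/-- torus elements -/
noncomputable def te (hp : IsType D l M') (J : Fin m → List (Fin l)) (φ : K →+* K) (e : Fin m → ℤ) (d : K)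
    (li : List (Fin m)) : GL D.Idx K := (li.map fun i => hI hp φ (J i) (d ^ e i)).prod

variable (T : TwC hp K M A J L σ ρ ρ' f G φ ε δ O dg)
  (N : ∀ i, ∃ r o, NodeOK D J L ρ i r o ∧ ∀ s ∈ r :: o, ∀ t, f s t = φ t)

include T N

theorem te_mem (e : Fin m → ℤ) {d : K} (hd : d ≠ 0) (hφ : φ d = d) (li : List (Fin m)) :
    te hp J φ e d li ∈ D.diagonalSubgroup K ∧ te hp J φ e d li ∈ G := by
  induction li with
  | nil => exact ⟨one_mem _, one_mem _⟩
  | cons i li ih =>
    obtain ⟨r, o, hN, hf⟩ := N i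
    have h1 := T.hI_mem hN hf (d := d ^ e i) (zpow_ne_zero _ hd)
      (Function.iterate_fixed (fix_zpow hφ _) _)
    have h2 : te hp J φ e d (i :: li) = hI hp φ (J i) (d ^ e i) * te hp J φ e d li := by
      unfold te
      rw [List.map_cons, List.prod_cons]
    rw [h2]
    exact ⟨mul_mem h1.1 ih.1, mul_mem h1.2 ih.2⟩

theorem te_conj (e : Fin m → ℤ) {d : K} (hd : d ≠ 0) (hφ : φ d = d) (li : List (Fin m)) {z : Fin m → ℤ}
    (hz : IsRoot cs h z) {a : K} (ha : Ok D J O φ z a) :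
    te hp J φ e d li * Y hp J φ δ O z a * (te hp J φ e d li)⁻¹ =
      Y hp J φ δ O z (d ^ pe D J e li ((cl D J O z).headD 0) * a) := by
  induction li with
  | nil =>
    have h1 : te hp J φ e d [] = 1 := rfl
    have h2 : pe D J e [] ((cl D J O z).headD 0) = 0 := rfl
    rw [h1, h2, one_mul, inv_one, mul_one, zpow_zero, one_mul]
  | cons i li ih =>
    obtain ⟨r, o, hN, hf⟩ := N i
    have h2 : te hp J φ e d (i :: li) = hI hp φ (J i) (d ^ e i) * te hp J φ e d li := by
      unfold te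
      rw [List.map_cons, List.prod_cons]
    have h3 : te hp J φ e d (i :: li) * Y hp J φ δ O z a * (te hp J φ e d (i :: li))⁻¹ =
        hI hp φ (J i) (d ^ e i) * (te hp J φ e d li * Y hp J φ δ O z a * (te hp J φ e d li)⁻¹) *
          (hI hp φ (J i) (d ^ e i))⁻¹ := by
      rw [h2]; group
    have hok : Ok D J O φ z (d ^ pe D J e li ((cl D J O z).headD 0) * a) := Ok.mul (ok_fix (fix_zpow hφ _)) ha
    rw [h3, ih, (T.hI_Y hN hf (zpow_ne_zero _ hd) (Function.iterate_fixed (fix_zpow hφ _) _) hz hok).2,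
      wt_fix _ _ (zpow_ne_zero _ hd) (fix_zpow hφ _)]
    congr 1
    have h4 : pe D J e (i :: li) ((cl D J O z).headD 0) = e i * cc D J i ((cl D J O z).headD 0) +
        pe D J e li ((cl D J O z).headD 0) := by
      unfold pe
      rw [List.map_cons, List.sum_cons]
    rw [h4, zpow_add₀ hd, zpow_mul, mul_assoc]
    rfl

variable [Finite K] (p : ℕ) [Fact p.Prime] [CharP K p]

include p

omit N in
theorem x_zero' {z : Fin m → ℤ} (hz : IsRoot cs h z) : x hp J φ δ O G z 0 = 1 := by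
  have h0 : Ok D J O φ z 0 := by unfold Ok; exact iterate_map_zero φ _
  have h1 := T.x_add cs h p hz h0 h0
  rwa [add_zero, left_eq_mul] at h1

/-- the element of the torus in the group -/
theorem exists_te (e : Fin m → ℤ) {d : K} (hd : d ≠ 0) (hφ : φ d = d) (li : List (Fin m)) :
    ∃ t ∈ (D.diagonalSubgroup K ⊓ G).subgroupOf G, ∀ z, IsRoot cs h z → ∀ a, Ok D J O φ z a →
      t * x hp J φ δ O G z a * t⁻¹ = x hp J φ δ O G z (d ^ pe D J e li ((cl D J O z).headD 0) * a) := by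
  obtain ⟨h1, h2⟩ := te_mem T N e hd hφ li
  refine ⟨⟨te hp J φ e d li, h2⟩, ?_, fun z hz a ha => ?_⟩
  · rw [Subgroup.mem_subgroupOf]
    exact ⟨h1, h2⟩
  · apply Subtype.ext
    rw [Subgroup.coe_mul, Subgroup.coe_mul, Subgroup.coe_inv, T.coe_x cs h p hz ha,
      T.coe_x cs h p hz (Ok.mul (ok_fix (fix_zpow hφ _)) ha)]
    exact te_conj T N e hd hφ li hz ha

/-- **`Sep` for a simple root from a table of coweights.** -/
theorem sep_fold [Finite W] {i₀ : Fin m}
    (htab : ∀ z, IsRoot cs h z → 0 ≤ z → z ≠ sr i₀ → ∃ e : Fin m → ℤ,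
      pe D J e (List.finRange m) ((cl D J O (sr i₀)).headD 0) = 0 ∧ ∃ d : K, d ≠ 0 ∧ φ d = d ∧
        d ^ pe D J e (List.finRange m) ((cl D J O z).headD 0) ≠ 1) :
    Sep cs h ((D.diagonalSubgroup K ⊓ G).subgroupOf G) (fun z => (R D hp K J σ z).subgroupOf G) (sr i₀) := by
  refine sep_of (Cfsg.Agent.Nodes.RGDFold.rgd cs h T.FD T.FG p) ?_
  intro z hz h0 hne u hu hc
  obtain ⟨e, he, d, hd, hφ, hne1⟩ := htab z hz h0 hne
  obtain ⟨t, ht, hact⟩ := exists_te (cs := cs) (h := h) T N p e hd hφ (List.finRange m)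
  have hcen : ∀ a ∈ (R D hp K J σ (sr i₀)).subgroupOf G, t * a = a * t := by
    intro a ha
    obtain ⟨b, hb, rfl⟩ := (T.mem_X cs h p (isRoot_sr cs h i₀) a).1 ha
    have h1 := hact _ (isRoot_sr cs h i₀) b hb
    rw [he, zpow_zero, one_mul] at h1
    exact mul_inv_eq_iff_eq_mul.1 h1
  have h1 := hc t ht hcen
  obtain ⟨a, ha, rfl⟩ := (T.mem_X cs h p hz u).1 hu
  have h2 := hact z hz a ha
  rw [← h1, mul_inv_cancel_right] at h2
  have h3 := T.x_inj cs h p hz ha (Ok.mul (ok_fix (fix_zpow hφ _)) ha) h2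
  have h4 : a = 0 := by
    by_contra h5
    apply hne1
    have h6 : d ^ pe D J e (List.finRange m) ((cl D J O z).headD 0) * a = 1 * a := by rw [one_mul]; exact h3.symm
    exact mul_right_cancel₀ h5 h6
  rw [h4]
  exact x_zero' (cs := cs) (h := h) T p hz

end

end Cfsg.Agent.H249.PPFold
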