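import Cfsg.Agent.H225.PPow.Main

/-!
# Subgroups of `p`-power index in a group with a root group datum: the case of a separated simple root (helper249)

`good_of_sep` : `T` transitive on `X_i ∖ 1`, `C_U(C_T(X_i)) = X_i`, `|X_i| ≥ 6` and two conjugates of `X_i` with a
nontrivial commutator in a root group of type `LR`: no proper subgroup of `p`-power index.
-/

set_option autoImplicit false
set_option linter.unusedSectionVars false

namespace Cfsg.Agent.H249.PPGen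

open Subgroup
open CoxeterSystem Cfsg.Agent.ChevalleyStructure.CoxeterGeom Cfsg.Agent.Tits.Roots Cfsg.Agent.Tits.Core
  Cfsg.Agent.Tits.Exchange Cfsg.Agent.Nodes.Comb Cfsg.Agent.Nodes.Reps
  Cfsg.Agent.Nodes.BNOf Cfsg.Agent.Nodes.Unique Cfsg.Agent.Nodes.Bruhat Cfsg.Agent.Nodes.Coroot
  Cfsg.Agent.KFacts.RgdTI Cfsg.Agent.H225.PPow
open scoped commutatorElement

variable {I W Y : Type*} [Fintype I] [DecidableEq I] [Group W] [Group Y] {M : CoxeterMatrix I}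
  {cs : CoxeterSystem M W} {A : I → I → ℤ} {h : IsCartan M A} {p : ℕ} {T : Subgroup Y} {n : I → Y}
  {X : (I → ℤ) → Subgroup Y}

/-- three distinct elements -/
theorem exists_ne_ne {G : Type*} [Group G] {V : Subgroup G} (hV : 3 ≤ Nat.card V) (u : G) :
    ∃ y ∈ V, y ≠ 1 ∧ y ≠ u := by
  by_contra hcon
  push Not at hcon
  have h1 : (V : Set G) ⊆ {1, u} := by
    intro y hy
    by_cases h : y = 1
    · left; exact h
    · right; exact hcon y hy h
  have h2 := Set.ncard_le_ncard h1 (Set.toFinite _)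
  have h3 : ({1, u} : Set G).ncard ≤ 2 := by
    refine (Set.ncard_insert_le _ _).trans ?_
    rw [Set.ncard_singleton]
  have h4 : (V : Set G).ncard = Nat.card V := rfl
  omega

theorem cent_of_sep {x₀ : I → ℤ} (hX : 3 ≤ Nat.card (X x₀)) (hs : Sep cs h T X x₀)
    (hreg : ∀ x ∈ X x₀, ∀ y ∈ X x₀, x ≠ 1 → y ≠ 1 → ∃ t ∈ T, t * x * t⁻¹ = y) :
    ∀ u ∈ RGD.Sup X (RGD.Pos cs h), (∀ t ∈ T, u * t = t * u) → u = 1 := by
  intro u hu hc
  have h1 : u ∈ X x₀ := hs u hu fun t ht _ => hc t ht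
  by_contra hu1
  obtain ⟨y, hy, hy1, hyu⟩ := exists_ne_ne hX u
  obtain ⟨t, ht, e⟩ := hreg u h1 y hy hu1 hy1
  apply hyu
  rw [← e, ← hc t ht, mul_inv_cancel_right]

section Fin

variable [Finite W] [Finite Y] [Fact p.Prime] {R : RGD cs h p T n X} {H : Subgroup Y} {k : ℕ}

/-- the group `X (w α_i)` lies in `H` -/
theorem X_le (C : Ctx R H k) (hT : T ≤ H)
    (hU : ∀ u ∈ RGD.Sup X (RGD.Pos cs h), (∀ t ∈ T, u * t = t * u) → u = 1) {x₀ : I → ℤ} (hx : IsRoot cs h x₀)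
    (hreg : ∀ x ∈ X x₀, ∀ y ∈ X x₀, x ≠ 1 → y ≠ 1 → ∃ t ∈ T, t * x * t⁻¹ = y) {c : Y} (hc : c ∈ H)
    (hcX : c ∈ X x₀) (hc1 : c ≠ 1) (w : W) : X (rep cs h w x₀) ≤ H := by
  intro v hv
  obtain ⟨g, hg⟩ := exists_rp cs R.nsys w
  have hgH : g ∈ H := C.N_le hT hU hg
  have h1 : g⁻¹ * v * g ∈ X x₀ := by
    have := R.conj_mem' hg (hx.act w) hv
    rwa [rep_inv_apply] at this
  have h2 : g⁻¹ * v * g ∈ H := by
    by_cases h3 : g⁻¹ * v * g = 1
    · rw [h3]; exact one_mem _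
    · obtain ⟨t, ht, e⟩ := hreg c hcX _ h1 hc1 h3
      rw [← e]
      exact mul_mem (mul_mem (hT ht) hc) (inv_mem (hT ht))
  have h3 := mul_mem (mul_mem hgH h2) (inv_mem hgH)
  have e : g * (g⁻¹ * v * g) * g⁻¹ = v := by group
  rwa [e] at h3

/-- **The theorem.** -/
theorem good_of_sep (R : RGD cs h p T n X) [IsSimpleGroup Y] (hG : GG cs h T X = ⊤)
    (hTc : ∀ s ∈ T, ∀ t ∈ T, s * t = t * s) {i : I} (hs : Sep cs h T X (sr i))
    (hreg : ∀ x ∈ X (sr i), ∀ y ∈ X (sr i), x ≠ 1 → y ≠ 1 → ∃ t ∈ T, t * x * t⁻¹ = y)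
    (h6 : 6 ≤ Nat.card (X (sr i)))
    (hfin : ∃ w w' : W, ∃ u ∈ X (rep cs h w (sr i)), ∃ v ∈ X (rep cs h w' (sr i)), ∃ a, LR R a ∧ ⁅u, v⁆ ∈ X a ∧
      ⁅u, v⁆ ≠ 1) : H408.Core.Good p Y := by
  intro H k hH
  have C : Ctx R H k := ⟨hG, hH⟩
  obtain ⟨g, hg⟩ := C.exists_T_le
  have C' := C.conj g
  have hT : T ≤ H.comap (MulAut.conj g).toMonoidHom := fun t ht => hg t ht
  have hU := cent_of_sep (h := h) (by omega) hs hreg
  obtain ⟨c, hc, hcX, hc1⟩ := C'.panel hT hTc hU hs hreg h6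
  obtain ⟨w, w', u, hu, v, hv, a, L, hm, h1⟩ := hfin
  have hx := isRoot_sr cs h i
  have e := C'.eq_top_of_LR L (z := ⁅u, v⁆) (by
    have hu' := X_le C' hT hU hx hreg hc hcX hc1 w hu
    have hv' := X_le C' hT hU hx hreg hc hcX hc1 w' hv
    rw [commutatorElement_def]
    exact mul_mem (mul_mem (mul_mem hu' hv') (inv_mem hu')) (inv_mem hv')) hm h1
  rw [eq_top_iff]
  intro x _
  have h2 : g⁻¹ * x * g ∈ H.comap (MulAut.conj g).toMonoidHom := by rw [e]; trivial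
  have h3 : g * (g⁻¹ * x * g) * g⁻¹ ∈ H := h2
  have h4 : g * (g⁻¹ * x * g) * g⁻¹ = x := by group
  rwa [h4] at h3

end Fin

end Cfsg.Agent.H249.PPGen
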