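import Cfsg.Agent.H249.PPTor
import Cfsg.Agent.H605.PSLTwoGood
import Cfsg.Agent.LieRecognition.ReeSetup
import Cfsg.Agent.LieRecognition.ReeFinal
import Cfsg.Agent.LieRecognition.ReeThree
import Cfsg.Agent.S1073
import Cfsg.Agent.S1116
import Cfsg.Agent.H408.PPMain

/-!
# `²G₂(q)` has no proper subgroup of `3`-power index (helper249)

`H` of index `3 ^ k`, `j` the involution of the torus `T ≤ H`. `N(T) ≤ H`; `C_G(j) = ⟨j⟩ × PSL₂(q) ≤ H`, so
`g⁻¹ j g ∈ H` implies `g ∈ H`. If `H ∩ U` is not the group `U 0 * 0` of order `q`, then `H` contains an element of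
`Z(U)`, so `H = G`. Otherwise `|G : H| = q²`, `H` has `q² - q + 1` involutions, and `C_G(j)` contains as many.
-/

set_option autoImplicit false
set_option linter.unusedSectionVars false

namespace Cfsg.Agent.H249.PPRee

open Subgroup Cfsg Cfsg.Lie
open Cfsg.Agent.LieRecognition Cfsg.Agent.LieRecognition.ReeAbs Cfsg.Agent.LieRecognition.ReeSylowThree
  Cfsg.Agent.LieRecognition.ReeSplit

/-- `G = P M` -/
theorem card_of_mul {G : Type*} [Group G] [Finite G] {P M : Subgroup G} (hPM : ∀ g, ∃ p ∈ P, ∃ x ∈ M, g = p * x) :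
    Nat.card P = M.index * Nat.card (M.subgroupOf P) := by
  have h1 : MulAction.stabilizer P ((1 : G) : G ⧸ M) = M.subgroupOf P := by
    ext x
    rw [MulAction.mem_stabilizer_iff, mem_subgroupOf]
    show (((x : G) * 1 : G) : G ⧸ M) = ((1 : G) : G ⧸ M) ↔ _
    rw [mul_one, eq_comm, QuotientGroup.eq, inv_one, one_mul]
  have h2 : (MulAction.orbit P ((1 : G) : G ⧸ M)) = Set.univ := by
    rw [Set.eq_univ_iff_forall]
    intro x
    obtain ⟨g, rfl⟩ := QuotientGroup.mk_surjective x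
    obtain ⟨p, hp, x, hx, rfl⟩ := hPM g
    refine ⟨⟨p, hp⟩, ?_⟩
    show ((p * 1 : G) : G ⧸ M) = ((p * x : G) : G ⧸ M)
    rw [QuotientGroup.eq]
    rwa [mul_one, inv_mul_cancel_left]
  have h3 := MulAction.index_stabilizer P ((1 : G) : G ⧸ M)
  rw [h1, h2, Set.ncard_univ] at h3
  have h4 := Subgroup.card_mul_index (M.subgroupOf P)
  rw [h3] at h4
  rw [← h4, mul_comm]
  rfl

variable {K : Type*} [Field K] [Fintype K] {G : Type*} [Group G] [Finite G] {m : ℕ}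
  {U : K → K → K → G} {h : Kˣ → G} {n : G}

theorem q27 (hm : 1 ≤ m) : 27 ≤ 3 ^ (2 * m + 1) := by
  calc 27 = 3 ^ 3 := rfl
    _ ≤ _ := Nat.pow_le_pow_right (by norm_num) (by omega)

theorem exists_a (hm : 1 ≤ m) (hK : Fintype.card K = 3 ^ (2 * m + 1)) : ∃ a : Kˣ, a ≠ 1 ∧ a ≠ -1 := by
  classical
  have h27 := q27 hm
  by_contra hcon
  push Not at hcon
  have h1 : (Finset.univ : Finset Kˣ) ⊆ {1, -1} := by
    intro a _
    by_cases ha : a = 1
    · simp [ha]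
    · simp [hcon a ha]
  have h2 := Finset.card_le_card h1
  have h3 : ({1, -1} : Finset Kˣ).card ≤ 2 := Finset.card_le_two
  rw [Finset.card_univ, Fintype.card_units, hK] at h2
  omega

variable (D : Data m U h n)

include D

theorem tor (hK : Fintype.card K = 3 ^ (2 * m + 1)) : PPTor.Tor 3 (uSub D) (hSub D) := by
  have hcG := ReeFinal.card_of_data D hK
  have hcU := card_uSub D
  rw [hK] at hcU
  have h3 : 3 ∣ 3 ^ (2 * m + 1) := dvd_pow_self 3 (by omega)
  have hpos : 1 ≤ 3 ^ (2 * m + 1) := Nat.one_le_pow _ _ (by norm_num)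
  refine ⟨Nat.prime_three, ?_, IsPGroup.of_card (n := (2 * m + 1) * 3) (by rw [hcU, ← pow_mul]), ?_, ?_⟩
  · have h1 := Subgroup.card_mul_index (uSub D)
    rw [hcG, hcU, mul_assoc] at h1
    have h2 := Nat.eq_of_mul_eq_mul_left (by positivity) h1
    rw [h2]
    intro hd
    rcases Nat.prime_three.dvd_mul.1 hd with hd | hd
    · omega
    · have h4 : 3 ∣ (3 ^ (2 * m + 1)) ^ 3 := dvd_pow h3 (by norm_num)
      omega
  · intro t ht
    obtain ⟨a, rfl⟩ := (mem_hSub D).1 ht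
    rw [mem_normalizer_iff]
    intro x
    refine ⟨fun hx => h_conj_mem D a hx, fun hx => ?_⟩
    have h1 := h_conj_mem D a⁻¹ hx
    rwa [D.h_inv, inv_inv, show (h a)⁻¹ * (h a * x * (h a)⁻¹) * h a = x by group] at h1
  · rw [card_hSub D, hK]
    omega

/-- `C_U(T) = 1` -/
theorem cent (hm : 1 ≤ m) (hK : Fintype.card K = 3 ^ (2 * m + 1)) {u : G} (hu : u ∈ uSub D)
    (hc : ∀ t ∈ hSub D, u * t = t * u) : u = 1 := by
  obtain ⟨t, x, v, rfl⟩ := (mem_uSub D).1 hu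
  obtain ⟨a, ha1, ha2⟩ := exists_a (K := K) hm hK
  have h1 := hc (h a) ((mem_hSub D).2 ⟨a, rfl⟩)
  rw [D.h_U] at h1
  obtain ⟨e1, e2, e3⟩ := U_injective D (mul_right_cancel h1)
  by_cases hz : t = 0 ∧ x = 0 ∧ v = 0
  · obtain ⟨rfl, rfl, rfl⟩ := hz
    exact D.U_zero
  · rcases ReeThree.unit_of_fix hK a t x v hz e1.symm e2.symm e3.symm with h2 | h2
    · exact absurd h2 ha1
    · exact absurd h2 ha2

theorem norm_n : n ∈ normalizer (hSub D : Set G) := by
  have key : ∀ x ∈ hSub D, n * x * n⁻¹ ∈ hSub D := by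
    intro x hx
    obtain ⟨a, rfl⟩ := (mem_hSub D).1 hx
    refine (mem_hSub D).2 ⟨a⁻¹, ?_⟩
    rw [D.n_h, mul_inv_cancel_right]
  rw [mem_normalizer_iff]
  intro x
  refine ⟨fun h => key x h, fun h => ?_⟩
  have h1 := key _ h
  rwa [show n * (n * x * n⁻¹) * n⁻¹ = x by
    rw [D.n_inv]
    calc n * (n * x * n) * n = (n * n) * x * (n * n) := by group
      _ = x := by rw [D.n_n, one_mul, mul_one]] at h1

/-- elements of `U` commuting with `j` -/
theorem cent_j (hK : Fintype.card K = 3 ^ (2 * m + 1)) {u : G} (hu : u ∈ uSub D) (hc : u * h (-1) = h (-1) * u) :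
    ∃ s, u = U 0 s 0 := by
  obtain ⟨t, x, v, rfl⟩ := (mem_uSub D).1 hu
  rw [D.inv_mul_U] at hc
  obtain ⟨e1, e2, e3⟩ := U_injective D (mul_right_cancel hc)
  exact ⟨x, by rw [D.neg_eq_self hK e1.symm, D.neg_eq_self hK e3.symm]⟩

theorem j_comm (s : K) : U 0 s 0 * h (-1) = h (-1) * U 0 s 0 := by rw [D.inv_mul_U, neg_zero]

theorem sl2_up (hK : Fintype.card K = 3 ^ (2 * m + 1)) (s : K) : D.sl2 hK (Lib.SL2Hom.up s) = U 0 s 0 := by
  rw [Data.sl2, Lib.SL2Hom.hom_up]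

section

variable {H : Subgroup G} {k : ℕ} (hH : H.index = 3 ^ k) (hT : hSub D ≤ H)

include hH hT

/-- `g⁻¹ j g ∈ H` -/
theorem of_conj (hK : Fintype.card K = 3 ^ (2 * m + 1)) {g : G} (hg : g⁻¹ * h (-1) * g ∈ H) :
    ∃ s, ∃ x ∈ H, g = U 0 s 0 * x := by
  have hj : h (-1) ∈ hSub D := (mem_hSub D).2 ⟨_, rfl⟩
  obtain ⟨u, hu, x, hx, hc, e⟩ := (tor D hK).exists_cent_mul hH (Y₀ := zpowers (h (-1))) (zpowers_le.2 hj)
    (zpowers_le.2 (hT hj)) (g := g) (by
      intro y hy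
      obtain ⟨i, rfl⟩ := mem_zpowers_iff.1 hy
      have h1 : g⁻¹ * h (-1) ^ i * g = (g⁻¹ * h (-1) * g) ^ i := by
        have := (conj_zpow (i := i) (a := g⁻¹) (b := h (-1))).symm
        rwa [inv_inv] at this
      rw [h1]
      exact zpow_mem hg i)
  obtain ⟨s, rfl⟩ := cent_j D hK hu (hc _ (mem_zpowers _))
  exact ⟨s, x, hx, e⟩

/-- `PSL₂(q) ≤ H` -/
theorem sl2_le (hm : 1 ≤ m) (hK : Fintype.card K = 3 ^ (2 * m + 1)) (A : Matrix.SpecialLinearGroup (Fin 2) K) :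
    D.sl2 hK A ∈ H := by
  have h3 : Fact (Nat.Prime 3) := ⟨Nat.prime_three⟩
  have hch := charP_three hK
  have h27 := q27 hm
  have hadd : ∀ s t : K, Lib.SL2Hom.up s * Lib.SL2Hom.up t = Lib.SL2Hom.up (s + t) := by
    intro s t
    apply Subtype.ext
    rw [Matrix.SpecialLinearGroup.coe_mul]
    show !![1, s; 0, 1] * !![1, t; 0, 1] = !![1, s + t; 0, 1]
    rw [Matrix.mul_fin_two]
    congr 1
    simp [add_comm]
  have hzero : Lib.SL2Hom.up (0 : K) = 1 := by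
    apply Subtype.ext
    show !![1, 0; 0, 1] = (1 : Matrix (Fin 2) (Fin 2) K)
    exact Matrix.one_fin_two.symm
  let P : Subgroup (Matrix.SpecialLinearGroup (Fin 2) K) :=
    { carrier := {A | ∃ s, A = Lib.SL2Hom.up s}
      one_mem' := ⟨0, hzero.symm⟩
      mul_mem' := by
        rintro _ _ ⟨s, rfl⟩ ⟨t, rfl⟩
        exact ⟨s + t, hadd s t⟩
      inv_mem' := by
        rintro _ ⟨s, rfl⟩
        refine ⟨-s, ?_⟩
        rw [inv_eq_iff_mul_eq_one, hadd, add_neg_cancel, hzero] }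
  have hP : Nat.card P ∣ 3 ^ (2 * m + 1) := by
    have : Nat.card P = Nat.card K := by
      refine (Nat.card_congr (Equiv.ofBijective (fun s => (⟨Lib.SL2Hom.up s, s, rfl⟩ : P)) ⟨?_, ?_⟩)).symm
      · intro a b hab
        have h1 := congrArg (fun A : P => (A : Matrix.SpecialLinearGroup (Fin 2) K).1 0 1) hab
        simpa [Lib.SL2Hom.up] using h1
      · rintro ⟨_, s, rfl⟩
        exact ⟨s, rfl⟩
    rw [this, Nat.card_eq_fintype_card, hK]
  have hmul : ∀ A : Matrix.SpecialLinearGroup (Fin 2) K, ∃ p ∈ P, ∃ x ∈ H.comap (D.sl2 hK), A = p * x := by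
    intro A
    have h1 := D.inv_comm_sl2 hK A
    obtain ⟨s, x, hx, e⟩ := of_conj D hH hT hK (g := D.sl2 hK A) (by
      rw [mul_assoc, h1, inv_mul_cancel_left]
      exact hT ((mem_hSub D).2 ⟨_, rfl⟩))
    refine ⟨Lib.SL2Hom.up s, ⟨s, rfl⟩, (Lib.SL2Hom.up s)⁻¹ * A, ?_, by group⟩
    show D.sl2 hK ((Lib.SL2Hom.up s)⁻¹ * A) ∈ H
    rw [map_mul, map_inv, sl2_up, e, inv_mul_cancel_left]
    exact hx
  have h1 := card_of_mul hmul
  have h2 : (H.comap (D.sl2 hK)).index ∣ 3 ^ (2 * m + 1) := (Dvd.intro _ h1.symm).trans hP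
  obtain ⟨i, -, hi⟩ := (Nat.dvd_prime_pow Nat.prime_three).1 h2
  have h4 := H605.PSLTwoGood.good_sl (F := K) (p := 3) (by
    rw [hK]
    simp only [Finset.mem_insert, Finset.mem_singleton, not_or]
    omega) _ i hi
  have h5 : A ∈ H.comap (D.sl2 hK) := by rw [h4]; trivial
  exact h5

theorem centj_le (hm : 1 ≤ m) (hK : Fintype.card K = 3 ^ (2 * m + 1)) : centralizer ({h (-1)} : Set G) ≤ H := by
  intro g hg
  have hj : h (-1) ∈ H := hT ((mem_hSub D).2 ⟨_, rfl⟩)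
  obtain ⟨A, rfl | rfl⟩ := (D.mem_centralizer_iff hK g).1 (mem_centralizer_singleton_iff.1 hg).symm
  · exact sl2_le D hH hT hm hK A
  · exact mul_mem hj (sl2_le D hH hT hm hK A)

/-- **fusion** -/
theorem mem_of_conj (hm : 1 ≤ m) (hK : Fintype.card K = 3 ^ (2 * m + 1)) {g : G} (hg : g⁻¹ * h (-1) * g ∈ H) :
    g ∈ H := by
  obtain ⟨s, x, hx, rfl⟩ := of_conj D hH hT hK hg
  exact mul_mem (centj_le D hH hT hm hK (mem_centralizer_singleton_iff.2 (j_comm D s))) hx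

/-- `H ∩ U` -/
theorem inf_U [IsSimpleGroup G] (hm : 1 ≤ m) (hK : Fintype.card K = 3 ^ (2 * m + 1)) (hHt : H ≠ ⊤) {u : G}
    (hu : u ∈ uSub D) (huH : u ∈ H) : ∃ s, u = U 0 s 0 := by
  have hkey : ∀ v, U 0 0 v ∈ H → v = 0 := by
    intro v hv
    by_contra hv0
    apply hHt
    refine PPTor.eq_top_of_central (p := 3) (k := k) Nat.prime_three hH hv ?_ ?_
    · rw [← D.U_zero]
      intro h1
      exact hv0 (U_injective D h1).2.2
    · intro hd
      apply (tor D hK).ix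
      refine hd.trans (index_dvd_of_le ?_)
      rintro _ ⟨t', u', v', rfl⟩
      rw [mem_centralizer_singleton_iff, D.U_mul, D.U_mul]
      have h0 : (0 : K) ^ (3 ^ (m + 1)) = 0 := zero_pow (by positivity)
      rw [h0]
      congr 1 <;> ring
  obtain ⟨t, x, v, rfl⟩ := (mem_uSub D).1 hu
  have ht : t = 0 := by
    have h1 : U t x v ^ 3 ∈ H := pow_mem huH 3
    rw [U_cube D hK] at h1
    have h2 := hkey _ h1
    rw [neg_eq_zero] at h2
    by_contra ht
    exact absurd h2 (mul_ne_zero (pow_ne_zero _ ht) (pow_ne_zero _ ht))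
  subst ht
  have h0 : (0 : K) ^ (3 ^ (m + 1)) = 0 := zero_pow (by positivity)
  have h1 : U 0 x v = U 0 x 0 * U 0 0 v := by
    rw [D.U_mul, h0]
    congr 1 <;> ring
  have h2 : U 0 x 0 ∈ H := centj_le D hH hT hm hK (mem_centralizer_singleton_iff.2 (j_comm D x))
  have h3 : U 0 0 v ∈ H := by
    have h4 : U 0 0 v = (U 0 x 0)⁻¹ * U 0 x v := by rw [h1, inv_mul_cancel_left]
    rw [h4]
    exact mul_mem (inv_mem h2) huH
  exact ⟨x, by rw [hkey v h3]⟩

/-- the order of `H` -/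
theorem card_H [IsSimpleGroup G] (hm : 1 ≤ m) (hK : Fintype.card K = 3 ^ (2 * m + 1)) (hHt : H ≠ ⊤) :
    Nat.card H = 3 ^ (2 * m + 1) * (3 ^ (2 * m + 1) - 1) * ((3 ^ (2 * m + 1)) ^ 3 + 1) := by
  have h1 := card_of_mul (P := uSub D) (M := H) fun g => (tor D hK).exists_mul hH g
  have h2 : Nat.card (H.subgroupOf (uSub D)) = Nat.card K := by
    refine (Nat.card_congr (Equiv.ofBijective (fun s : K => (⟨⟨U 0 s 0, (mem_uSub D).2 ⟨_, _, _, rfl⟩⟩,
      mem_subgroupOf.2 (centj_le D hH hT hm hK (mem_centralizer_singleton_iff.2 (j_comm D s)))⟩ :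
        H.subgroupOf (uSub D))) ⟨?_, ?_⟩)).symm
    · intro a b hab
      have h3 : U 0 a 0 = U 0 b 0 := congrArg (fun x : H.subgroupOf (uSub D) => ((x : uSub D) : G)) hab
      exact (U_injective D h3).2.1
    · rintro ⟨⟨u, hu⟩, huH⟩
      obtain ⟨s, hs⟩ := inf_U D hH hT hm hK hHt hu (mem_subgroupOf.1 huH)
      exact ⟨s, Subtype.ext (Subtype.ext hs.symm)⟩
  rw [card_uSub D, h2, Nat.card_eq_fintype_card, hK] at h1
  have h3 := Subgroup.card_mul_index H
  rw [ReeFinal.card_of_data D hK] at h3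
  have hpos : 0 < 3 ^ (2 * m + 1) := by positivity
  set q := 3 ^ (2 * m + 1) with hq
  have h4 : H.index = q * q := by
    apply Nat.eq_of_mul_eq_mul_right hpos
    rw [← h1]; ring
  rw [h4] at h3
  apply Nat.eq_of_mul_eq_mul_right (Nat.mul_pos hpos hpos)
  rw [h3]; ring

end

theorem card_cent (hK : Fintype.card K = 3 ^ (2 * m + 1)) :
    Nat.card (centralizer ({h (-1)} : Set G)) = 3 ^ (2 * m + 1) * (3 ^ (2 * m + 1) - 1) * (3 ^ (2 * m + 1) + 1) := by
  obtain ⟨e⟩ := D.centralizer_iso hK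
  rw [Nat.card_congr e.toEquiv, Nat.card_prod]
  have h1 := Cfsg.Agent.ClassicalGeometry.PSL2Basic.card_PSL2_gcd K
  rw [hK] at h1
  have hodd : Odd (3 ^ (2 * m + 1)) := Odd.pow (by decide)
  have h2 : Nat.gcd 2 (3 ^ (2 * m + 1) - 1) = 2 := by
    apply Nat.gcd_eq_left
    obtain ⟨a, ha⟩ := hodd
    omega
  rw [h2] at h1
  have h3 : Nat.card (Multiplicative (ZMod 2)) = 2 := by
    rw [Nat.card_eq_fintype_card]; rfl
  rw [h3, mul_comm, h1]
  have hpos : 0 < 3 ^ (2 * m + 1) := by positivity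
  set q := 3 ^ (2 * m + 1) with hq
  obtain ⟨a, ha⟩ : ∃ a, q = a + 1 := ⟨q - 1, by omega⟩
  rw [ha, Nat.add_sub_cancel]
  have h4 : (a + 1) ^ 2 - 1 = a * (a + 1 + 1) := by
    have : (a + 1) ^ 2 = a * (a + 1 + 1) + 1 := by ring
    rw [this, Nat.add_sub_cancel]
  rw [h4]; ring

/-- the involutions of `C_G(j)` -/
theorem card_inv (hK : Fintype.card K = 3 ^ (2 * m + 1)) :
    3 ^ (2 * m + 1) * (3 ^ (2 * m + 1) - 1) + 1 ≤
      Nat.card {x : G // x ≠ 1 ∧ x * x = 1 ∧ x * h (-1) = h (-1) * x} := by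
  let f : Option (K × Kˣ) → {x : G // x ≠ 1 ∧ x * x = 1 ∧ x * h (-1) = h (-1) * x} := fun o => match o with
    | none => ⟨h (-1), D.inv_ne_one hK, D.inv_sq, rfl⟩
    | some (s, a) => ⟨U 0 s 0 * h a * n * U 0 (-s) 0, by
        refine ⟨?_, ?_, ?_⟩
        · intro h1
          have h2 : U 0 0 0 * h 1 = U 0 s 0 * h a * n * U 0 (-s) 0 := by rw [h1, D.U_zero, D.h_one, one_mul]
          exact D.ne _ _ _ _ _ _ _ _ _ _ _ h2
        · rw [D.U_neg]
          calc U 0 s 0 * h a * n * (U 0 s 0)⁻¹ * (U 0 s 0 * h a * n * (U 0 s 0)⁻¹) =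
              U 0 s 0 * (h a * (n * h a) * n) * (U 0 s 0)⁻¹ := by group
            _ = U 0 s 0 * (h a * (h a⁻¹ * n) * n) * (U 0 s 0)⁻¹ := by rw [D.n_h]
            _ = U 0 s 0 * ((h a * h a⁻¹) * (n * n)) * (U 0 s 0)⁻¹ := by group
            _ = 1 := by rw [← D.h_mul, mul_inv_cancel, D.h_one, D.n_n]; group
        · calc U 0 s 0 * h a * n * U 0 (-s) 0 * h (-1) = U 0 s 0 * h a * n * (U 0 (-s) 0 * h (-1)) := by group
            _ = U 0 s 0 * h a * n * (h (-1) * U 0 (-s) 0) := by rw [j_comm D]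
            _ = U 0 s 0 * h a * (n * h (-1)) * U 0 (-s) 0 := by group
            _ = U 0 s 0 * h a * (h (-1) * n) * U 0 (-s) 0 := by rw [D.inv_mul_n]
            _ = U 0 s 0 * (h a * h (-1)) * n * U 0 (-s) 0 := by group
            _ = U 0 s 0 * (h (-1) * h a) * n * U 0 (-s) 0 := by rw [D.h_comm]
            _ = (U 0 s 0 * h (-1)) * h a * n * U 0 (-s) 0 := by group
            _ = (h (-1) * U 0 s 0) * h a * n * U 0 (-s) 0 := by rw [j_comm D]
            _ = _ := by group⟩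
  have hf : Function.Injective f := by
    rintro (_ | ⟨s, a⟩) (_ | ⟨s', a'⟩) he
    · rfl
    · exfalso
      have h1 : h (-1) = U 0 s' 0 * h a' * n * U 0 (-s') 0 := congrArg Subtype.val he
      have h2 : U 0 0 0 * h (-1) = U 0 s' 0 * h a' * n * U 0 (-s') 0 := by rw [D.U_zero, one_mul]; exact h1
      exact D.ne _ _ _ _ _ _ _ _ _ _ _ h2
    · exfalso
      have h1 : U 0 s 0 * h a * n * U 0 (-s) 0 = h (-1) := congrArg Subtype.val he
      have h2 : U 0 0 0 * h (-1) = U 0 s 0 * h a * n * U 0 (-s) 0 := by rw [D.U_zero, one_mul]; exact h1.symm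
      exact D.ne _ _ _ _ _ _ _ _ _ _ _ h2
    · have h1 : U 0 s 0 * h a * n * U 0 (-s) 0 = U 0 s' 0 * h a' * n * U 0 (-s') 0 := congrArg Subtype.val he
      obtain ⟨-, e1, -, e2, -⟩ := D.inj₂ _ _ _ _ _ _ _ _ _ _ _ _ _ _ h1
      rw [e1, e2]
  have h1 := Nat.card_le_card_of_injective f hf
  rwa [Finite.card_option, Nat.card_prod, Nat.card_units, Nat.card_eq_fintype_card, hK] at h1

/-- **The theorem for the abstract data.** -/
theorem good_data [IsSimpleGroup G] (hm : 1 ≤ m) (hK : Fintype.card K = 3 ^ (2 * m + 1)) (hG : commutator G = ⊤) :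
    H408.Core.Good 3 G := by
  classical
  have hch := charP_three hK
  -- one class of involutions
  obtain ⟨e⟩ := D.centralizer_iso hK
  have hc := ReeCent.centData (D.inv_ne_one hK) D.inv_sq e ReePSL.klein
  have hS8 : ∀ S : Sylow 2 G, Nat.card S = 8 ∧ ∀ x ∈ S, x * x = 1 :=
    fun S => D.sylow_two hK (ReeFinal.card_of_data D hK) S
  have hconj : ∀ t : G, t ≠ 1 → t * t = 1 → ∃ g, g * h (-1) * g⁻¹ = t := fun t h1 h2 =>
    ReeInv.isConj_involution hc ReePSL.klein hG hS8 h1 h2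
  intro H k hH
  obtain ⟨g0, hg0⟩ := (tor D hK).exists_T_le hH
  refine PPTor.eq_top_of_conj (g := g0) ?_
  have hH' := PPTor.index_conj hH g0
  have hT : hSub D ≤ H.comap (MulAut.conj g0).toMonoidHom := fun t ht => hg0 t ht
  generalize H.comap (MulAut.conj g0).toMonoidHom = M at hH' hT
  by_contra hMt
  have hjM : h (-1) ∈ M := hT ((mem_hSub D).2 ⟨_, rfl⟩)
  have hnM : n ∈ M := (tor D hK).norm_le hH' hT (fun u hu hc => cent D hm hK hu hc) (norm_n D)
  -- the involutions of `M` are conjugate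
  have hconjM : ∀ t ∈ M, t ≠ 1 → t * t = 1 → ∃ g ∈ M, g * h (-1) * g⁻¹ = t := by
    intro t ht h1 h2
    obtain ⟨g, hg⟩ := hconj t h1 h2
    have h3 : g⁻¹ ∈ M := mem_of_conj D hH' hT hm hK (g := g⁻¹) (by rw [inv_inv, hg]; exact ht)
    exact ⟨g, by simpa using inv_mem h3, hg⟩
  have hCM := centj_le D hH' hT hm hK
  -- counting
  have h1 := ReeInv.card_orbit_conj M (h (-1))
  rw [inf_eq_right.2 hCM, card_cent D hK, card_H D hH' hT hm hK hMt] at h1
  have h2 := card_inv D hK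
  let f : {x : G // x ≠ 1 ∧ x * x = 1 ∧ x * h (-1) = h (-1) * x} → {y : G // ∃ n ∈ M, n * h (-1) * n⁻¹ = y} :=
    fun x => ⟨x.1, hconjM x.1 (hCM (mem_centralizer_singleton_iff.2 x.2.2.2)) x.2.1 x.2.2.1⟩
  have hfi : Function.Injective f := by
    intro a b hab
    exact Subtype.ext (congrArg (fun y : {y : G // ∃ n ∈ M, n * h (-1) * n⁻¹ = y} => (y : G)) hab)
  have h3 := Nat.card_le_card_of_injective f hfi
  have h4 : Nat.card {y : G // ∃ n ∈ M, n * h (-1) * n⁻¹ = y} = 3 ^ (2 * m + 1) * (3 ^ (2 * m + 1) - 1) + 1 := by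
    have h27 := q27 hm
    generalize Nat.card {y : G // ∃ n ∈ M, n * h (-1) * n⁻¹ = y} = c at h1
    generalize 3 ^ (2 * m + 1) = q at h1 h27
    obtain ⟨a, rfl⟩ : ∃ a, q = a + 1 := ⟨q - 1, by omega⟩
    rw [Nat.add_sub_cancel] at h1 ⊢
    have h5 : (a + 1) * a * ((a + 1) ^ 3 + 1) = ((a + 1) * a * (a + 1 + 1)) * ((a + 1) * a + 1) := by ring
    rw [h5, mul_comm c] at h1
    have ha : 0 < a := by omega
    exact (Nat.eq_of_mul_eq_mul_left (by positivity) h1).symm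
  have h5 : Nat.card {x : G // x ≠ 1 ∧ x * x = 1 ∧ x * h (-1) = h (-1) * x} =
      Nat.card {y : G // ∃ n ∈ M, n * h (-1) * n⁻¹ = y} := by omega
  have hfs : Function.Bijective f := (Nat.bijective_iff_injective_and_card f).2 ⟨hfi, h5⟩
  have hcomm : ∀ y ∈ M, y ≠ 1 → y * y = 1 → y * h (-1) = h (-1) * y := by
    intro y hy h1 h2
    obtain ⟨x, hx⟩ := hfs.2 ⟨y, hconjM y hy h1 h2⟩
    have h3 : x.1 = y := congrArg (fun y : {y : G // ∃ n ∈ M, n * h (-1) * n⁻¹ = y} => (y : G)) hx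
    rw [← h3]
    exact x.2.2.2
  -- the contradiction
  obtain ⟨a, ha1, ha2⟩ := exists_a (K := K) hm hK
  obtain ⟨g, hg, hgn⟩ := hconjM n hnM D.n_ne_one D.n_n
  have hy : h a * n ∈ M := mul_mem (hT ((mem_hSub D).2 ⟨a, rfl⟩)) hnM
  have hy1 : h a * n ≠ 1 := by
    intro h6
    have h7 : U 0 0 0 * h 1 = U 0 0 0 * h a * n * U 0 0 0 := by
      rw [D.U_zero, D.h_one, one_mul, one_mul, mul_one, h6]
    exact D.ne _ _ _ _ _ _ _ _ _ _ _ h7
  have hy2 : (h a * n) * (h a * n) = 1 := by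
    calc (h a * n) * (h a * n) = h a * (n * h a) * n := by group
      _ = h a * (h a⁻¹ * n) * n := by rw [D.n_h]
      _ = (h a * h a⁻¹) * (n * n) := by group
      _ = 1 := by rw [← D.h_mul, mul_inv_cancel, D.h_one, D.n_n, one_mul]
  have h6 := hcomm (g⁻¹ * (h a * n) * g) (mul_mem (mul_mem (inv_mem hg) hy) hg) (by
      intro h7
      apply hy1
      have : h a * n = g * (g⁻¹ * (h a * n) * g) * g⁻¹ := by group
      rw [this, h7]; group) (by
      calc g⁻¹ * (h a * n) * g * (g⁻¹ * (h a * n) * g) = g⁻¹ * ((h a * n) * (h a * n)) * g := by group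
        _ = 1 := by rw [hy2]; group)
  have h7 : (h a * n) * n = n * (h a * n) := by
    rw [← hgn]
    calc (h a * (g * h (-1) * g⁻¹)) * (g * h (-1) * g⁻¹) = (h a * (g * h (-1) * g⁻¹)) * (g * h (-1) * g⁻¹) := rfl
      _ = g * ((g⁻¹ * (h a * (g * h (-1) * g⁻¹)) * g) * h (-1)) * g⁻¹ := by group
      _ = g * (h (-1) * (g⁻¹ * (h a * (g * h (-1) * g⁻¹)) * g)) * g⁻¹ := by
        rw [hgn, h6]
      _ = _ := by group
  have h8 : h a = h a⁻¹ := by
    have h9 : (h a * n) * n = h a := by rw [mul_assoc, D.n_n, mul_one]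
    have h10 : n * (h a * n) = h a⁻¹ := by
      calc n * (h a * n) = (n * h a) * n := by group
        _ = h a⁻¹ * n * n := by rw [D.n_h]
        _ = h a⁻¹ := by rw [mul_assoc, D.n_n, mul_one]
    rw [← h9, h7, h10]
  have h9 : a = a⁻¹ := (h_eq_iff D).1 h8
  have h10 : a ^ 2 = 1 := by rw [pow_two]; nth_rw 2 [h9]; exact mul_inv_cancel a
  rcases eq_one_or_neg_one_of_sq h10 with h11 | h11
  · exact ha1 h11
  · exact ha2 h11

omit D

/-- **`²G₂(q)`.** -/
theorem good {X : Type*} [Group X] (h : IsoRee X) : H408.Core.Good 3 X := by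
  obtain ⟨K, iK, iFin, m, hm, hK, ⟨e⟩⟩ := h
  obtain ⟨U, h, n, D⟩ := ChevalleyStructure.Ree.Data.exists_data (K := K) hK
  have hfin : Finite ↥(Lie.twistedG2 K (3 ^ m)) := ReeSylowThree.finite D
  have hs : IsSimpleGroup ↥(Lie.twistedG2 K (3 ^ m)) := (Cfsg.Agent.S1073.result hm hK).1
  have hg := good_data D hm hK (Cfsg.Agent.S1116.result hK hm)
  intro H k hH
  have h1 : (H.map e.toMonoidHom).index = 3 ^ k := by rw [← hH]; exact Subgroup.index_map_equiv H e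
  have h2 := hg _ k h1
  rw [eq_top_iff]
  intro x _
  have h3 : e x ∈ H.map e.toMonoidHom := by rw [h2]; trivial
  obtain ⟨y, hy, hy'⟩ := h3
  have h4 : y = x := e.injective hy'
  exact h4 ▸ hy

open Cfsg.Agent.H408.Idx8 Cfsg.Agent.H408.PPMain

universe u

/-- the field `ree` of `SameRows` -/
theorem ree : Same.{u} fun p G _ => p = 3 ∧ Lie.IsoRee G := by
  rintro p hp G _ _ hs ⟨rfl, h⟩
  exact Idx.of_good hp (good h)

end Cfsg.Agent.H249.PPRee
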