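import Cfsg.Agent.H249.PPTor
import Cfsg.Agent.SuzukiRankOne.SzModel
import Cfsg.Agent.S1162
import Cfsg.Agent.S1163
import Cfsg.Agent.H408.PPMain

/-!
# `Sz(q)` has no proper subgroup of `2`-power index (helper249)
-/

set_option autoImplicit false

namespace Cfsg.Agent.H249.PPSz

open Subgroup Cfsg Cfsg.Lie Cfsg.Agent.LieRecognition.SzMatrix Cfsg.Agent.SuzukiRankOne.SzModel

section

set_option linter.unusedSectionVars false

variable {F : Type} [Field F] [Finite F] {θ : F →+* F} {e : ℕ} (H : Good F θ e)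

/-- `C_U(T) = 1` -/
theorem cent {c : Fˣ} (hc : c ≠ 1) {u : ↥(Cfsg.Lie.Sz F e)} (hu : u ∈ H.unip)
    (h : ∀ t ∈ (diag H).range, u * t = t * u) : u = 1 := by
  obtain ⟨a, b, rfl⟩ := (H.mem_unip_iff u).1 hu
  obtain ⟨k, hk, h1, h2⟩ := exists_kap H c
  have h3 := h (kap H c) (by rw [hk]; exact ⟨k, rfl⟩)
  have h4 := kap_conj H c a b
  rw [← h3, mul_inv_cancel_right] at h4
  obtain ⟨h5, h6⟩ := H.u_inj h4
  have hc1 : (c : F) ≠ 1 := fun h => hc (Units.ext h)
  have hc0 : (c : F) ≠ 0 := c.ne_zero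
  have hb : b = 0 := by
    by_contra hb
    apply hc1
    have : b * 1 = b * c := by rw [mul_one]; exact h6
    exact (mul_left_cancel₀ hb this).symm
  have ha : a = 0 := by
    by_contra ha
    have h7 : θ (c : F) = c := by
      have h8 : a * 1 = a * (θ c * (c : F)⁻¹) := by rw [mul_one, ← mul_assoc]; exact h5
      have h9 := mul_left_cancel₀ ha h8
      rw [eq_mul_inv_iff_mul_eq₀ hc0, one_mul] at h9
      exact h9.symm
    have h8 := H.sq (c : F)
    rw [h7, h7] at h8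
    apply hc1
    rw [pow_two] at h8
    exact mul_left_cancel₀ hc0 (by rw [← h8, mul_one])
  rw [ha, hb, H.u_zero]

theorem norm_w : H.w ∈ normalizer ((diag H).range : Set ↥(Cfsg.Lie.Sz F e)) := by
  have key : ∀ x ∈ (diag H).range, H.w * x * (H.w)⁻¹ ∈ (diag H).range := by
    rintro _ ⟨k, rfl⟩
    refine ⟨k⁻¹, ?_⟩
    rw [diag_apply, diag_apply, H.w_mul_d, mul_inv_cancel_right]
  rw [mem_normalizer_iff]
  intro x
  refine ⟨fun h => key x h, fun h => ?_⟩
  have h1 := key _ h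
  rwa [show H.w * (H.w * x * (H.w)⁻¹) * (H.w)⁻¹ = x by
    rw [H.w_inv]
    calc H.w * (H.w * x * H.w) * H.w = (H.w * H.w) * x * (H.w * H.w) := by group
      _ = x := by rw [H.w_mul_w, one_mul, mul_one]] at h1

theorem w_eq : H.w = H.u 1 0 * H.w * H.u 0 1 * (H.u 1 0 * H.w)⁻¹ := by
  have h := relation H
  have h1 : H.w * H.u 0 1 * (H.w)⁻¹ = (H.u 1 0)⁻¹ * H.w * H.u 1 0 := by rw [H.w_inv]; exact h
  calc H.w = H.u 1 0 * ((H.u 1 0)⁻¹ * H.w * H.u 1 0) * (H.u 1 0)⁻¹ := by group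
    _ = H.u 1 0 * (H.w * H.u 0 1 * (H.w)⁻¹) * (H.u 1 0)⁻¹ := by rw [h1]
    _ = _ := by group

theorem u_central {x : ↥(Cfsg.Lie.Sz F e)} (hx : x ∈ H.unip) : x * H.u 0 1 = H.u 0 1 * x := by
  obtain ⟨a, b, rfl⟩ := (H.mem_unip_iff x).1 hx
  rw [H.u_mul, H.u_mul, map_zero, mul_zero, zero_mul, add_zero, add_zero, add_zero, zero_add, add_comm b]

theorem u_ne : H.u 0 1 ≠ 1 := by
  rw [← H.u_zero]
  intro h
  exact one_ne_zero (H.u_inj h).2

end

theorem index_cent {G : Type*} [Group G] {p : ℕ} {U : Subgroup G} (hU : ¬ p ∣ U.index) {x g : G}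
    (hx : ∀ u ∈ U, u * x = x * u) : ¬ p ∣ (centralizer ({g * x * g⁻¹} : Set G)).index := by
  have h1 : ¬ p ∣ (centralizer ({x} : Set G)).index := fun h => hU (h.trans (index_dvd_of_le fun u hu =>
    mem_centralizer_singleton_iff.2 (hx u hu)))
  have h6 : (centralizer ({x} : Set G)).map (MulAut.conj g).toMonoidHom = centralizer ({g * x * g⁻¹} : Set G) := by
    ext y
    rw [mem_centralizer_singleton_iff]
    constructor
    · rintro ⟨y, hy, rfl⟩
      have hy' : y * x = x * y := mem_centralizer_singleton_iff.1 hy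
      show g * y * g⁻¹ * (g * x * g⁻¹) = g * x * g⁻¹ * (g * y * g⁻¹)
      calc g * y * g⁻¹ * (g * x * g⁻¹) = g * (y * x) * g⁻¹ := by group
        _ = g * (x * y) * g⁻¹ := by rw [hy']
        _ = _ := by group
    · intro hy
      refine ⟨g⁻¹ * y * g, ?_, ?_⟩
      · show g⁻¹ * y * g ∈ centralizer ({x} : Set G)
        rw [mem_centralizer_singleton_iff]
        calc g⁻¹ * y * g * x = g⁻¹ * (y * (g * x * g⁻¹)) * g := by group
          _ = g⁻¹ * (g * x * g⁻¹ * y) * g := by rw [hy]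
          _ = _ := by group
      · show g * (g⁻¹ * y * g) * g⁻¹ = y
        group
  have h7 : ((centralizer ({x} : Set G)).map (MulAut.conj g).toMonoidHom).index =
      (centralizer ({x} : Set G)).index := index_map_equiv _ (MulAut.conj g)
  rw [← h6, h7]
  exact h1

/-- **`Sz(q)`.** -/
theorem good {F : Type} [Field F] [Fintype F] {m : ℕ} (hm : 1 ≤ m) (hF : Fintype.card F = 2 ^ (2 * m + 1)) :
    H408.Core.Good 2 ↥(Lie.Sz F (2 ^ (m + 1))) := by
  have hp : Fact (Nat.Prime 2) := ⟨Nat.prime_two⟩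
  have hfin : Finite ↥(Lie.Sz F (2 ^ (m + 1))) := inferInstance
  have hs : IsSimpleGroup ↥(Cfsg.Lie.Sz F (2 ^ (m + 1))) := Cfsg.Agent.S1162.result hm hF
  have K := Cfsg.Agent.LieRecognition.SzMatrix.good hF
  have hcF : Nat.card F = 2 ^ (2 * m + 1) := by rw [Nat.card_eq_fintype_card, hF]
  have h8 : 2 ^ 3 ≤ 2 ^ (2 * m + 1) := Nat.pow_le_pow_right (by norm_num) (by omega)
  have hev : Even (2 ^ (2 * m + 1)) := even_two.pow_of_ne_zero (by omega)
  have hcU : Nat.card K.unip = (2 ^ (2 * m + 1)) ^ 2 := by rw [K.card_unip, hcF]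
  have hU2 : IsPGroup 2 K.unip := IsPGroup.of_card (n := (2 * m + 1) * 2) (by rw [hcU, ← pow_mul])
  have hcard := (Cfsg.Agent.S1163.result hm hF).1
  have hodd1 : Odd (2 ^ (2 * m + 1) - 1) := Nat.Even.sub_odd (by omega) hev odd_one
  have hix : ¬ 2 ∣ K.unip.index := by
    have h1 := Subgroup.card_mul_index K.unip
    rw [hcard, hcU, mul_assoc] at h1
    have h2 := Nat.eq_of_mul_eq_mul_left (by positivity) h1
    rw [h2, ← even_iff_two_dvd, Nat.not_even_iff_odd]
    exact hodd1.mul ((hev.pow_of_ne_zero (by norm_num)).add_one)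
  have hT : ¬ 2 ∣ Nat.card (diag K).range := by
    have h1 : Nat.card (diag K).range = Nat.card Fˣ := by
      refine (Nat.card_congr (Equiv.ofBijective (fun k => (⟨diag K k, k, rfl⟩ : (diag K).range)) ⟨?_, ?_⟩)).symm
      · intro a b h
        exact K.d_inj (congrArg Subtype.val h)
      · rintro ⟨_, k, rfl⟩
        exact ⟨k, rfl⟩
    rw [h1, Nat.card_units, hcF, ← even_iff_two_dvd, Nat.not_even_iff_odd]
    exact hodd1
  obtain ⟨c, hc⟩ : ∃ c : Fˣ, c ≠ 1 := by
    have h1 : 1 < Nat.card Fˣ := by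
      rw [Nat.card_units, hcF]
      omega
    have h2 : Nontrivial Fˣ := Finite.one_lt_card_iff_nontrivial.1 h1
    exact exists_ne 1
  have C : PPTor.Tor 2 K.unip (diag K).range := by
    refine ⟨Nat.prime_two, hix, hU2, ?_, hT⟩
    rintro _ ⟨k, rfl⟩
    rw [mem_normalizer_iff]
    intro x
    refine ⟨fun h => K.borel_normalizes _ (K.d_mem_borel k) x h, fun h => ?_⟩
    have h1 := K.borel_normalizes (K.d k)⁻¹ (inv_mem (K.d_mem_borel k)) _ h
    have h2 : (K.d k)⁻¹ * (diag K k * x * (diag K k)⁻¹) * ((K.d k)⁻¹)⁻¹ = x := by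
      rw [diag_apply]; group
    rwa [h2] at h1
  refine C.good_of_norm (fun u hu h => cent K hc hu h) (norm_w K) ?_ ?_
  · intro h
    have h1 := K.w_not_mem_borel
    rw [h] at h1
    exact h1 (one_mem _)
  · rw [w_eq K]
    exact index_cent hix fun u hu => u_central K hu

open Cfsg.Agent.H408.Idx8 Cfsg.Agent.H408.PPMain

universe u

/-- the field `suzuki` of `SameRows` -/
theorem suzuki : Same.{u} fun p G _ => p = 2 ∧ Lie.IsoSuzuki G := by
  rintro p hp G _ _ hs ⟨rfl, F, _, _, m, hm, hF, ⟨e⟩⟩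
  exact (Idx.of_good hp (good hm hF)).congr e.symm

end Cfsg.Agent.H249.PPSz
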