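import Cfsg.Agent.H408.Core
import Cfsg.Agent.Solvable.Glauberman

/-!
# Subgroups of `p`-power index: the torus argument (helper249)

`U` a Sylow `p`-subgroup of `G`, `T` a `p'`-group normalising `U`, `H.index = p ^ k`:

* `exists_T_le` : `T` is conjugate into `H`;
* `exists_cent_mul` : `Y₀ ≤ H ⊓ T` and `g⁻¹ Y₀ g ≤ H` imply `g ∈ C_U(Y₀) H`;
* `norm_le` : if `C_U(T) = 1` and `T ≤ H` then `N(T) ≤ H`;
* `good_of_norm` : if moreover `N(T)` contains an element `z ≠ 1` with `p ∤ |G : C(z)|` and `G` is simple, then no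
  proper subgroup of `G` has `p`-power index.
-/

set_option autoImplicit false

namespace Cfsg.Agent.H249.PPTor

open Subgroup

variable {G : Type*} [Group G] [Finite G] {p : ℕ}

/-- the setting -/
structure Tor (p : ℕ) (U T : Subgroup G) : Prop where
  pr : p.Prime
  ix : ¬ p ∣ U.index
  pg : IsPGroup p U
  nm : T ≤ normalizer (U : Set G)
  cp : ¬ p ∣ Nat.card T

variable {U T : Subgroup G}

theorem Tor.cop (C : Tor p U T) {Y : Subgroup G} (hY : Y ≤ T) : (Nat.card Y).Coprime (Nat.card U) := by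
  have : Fact p.Prime := ⟨C.pr⟩
  obtain ⟨n, hn⟩ := C.pg.exists_card_eq
  rw [hn]
  refine Nat.Coprime.pow_right _ (Nat.Coprime.symm ((Nat.Prime.coprime_iff_not_dvd C.pr).2 fun h => C.cp ?_))
  exact h.trans (Subgroup.card_dvd_of_le hY)

theorem Tor.sol (C : Tor p U T) : Group.IsSolvable U := by
  have : Fact p.Prime := ⟨C.pr⟩
  have : Group.IsNilpotent U := C.pg.isNilpotent
  infer_instance

variable {H : Subgroup G} {k : ℕ}

theorem Tor.exists_mul (C : Tor p U T) (hH : H.index = p ^ k) (g : G) : ∃ u ∈ U, ∃ x ∈ H, g = u * x := by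
  have hc : H.index.Coprime U.index := by
    rw [hH]
    exact Nat.Coprime.pow_left _ ((Nat.Prime.coprime_iff_not_dvd C.pr).2 C.ix)
  obtain ⟨x, hx, u, hu, e⟩ := H408.Core.exists_mul hc g⁻¹
  refine ⟨u⁻¹, inv_mem hu, x⁻¹, inv_mem hx, ?_⟩
  rw [← inv_inv g, e, mul_inv_rev]

theorem Tor.exists_T_le (C : Tor p U T) (hH : H.index = p ^ k) : ∃ g : G, ∀ t ∈ T, g * t * g⁻¹ ∈ H := by
  obtain ⟨u, hu, hf⟩ := Solvable.Glauberman.exists_smul_fixed T U C.nm (C.cop le_rfl) (Or.inr C.sol)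
    (X := G ⧸ H) ((1 : G) : G ⧸ H) (by
      intro a ha
      obtain ⟨v, hv, x, hx, e⟩ := C.exists_mul hH a
      refine ⟨v, hv, ?_⟩
      rw [MulAction.Quotient.smul_mk, MulAction.Quotient.smul_mk, smul_eq_mul, smul_eq_mul, mul_one, mul_one,
        QuotientGroup.eq]
      have e1 : a⁻¹ * v = x⁻¹ := by rw [e]; group
      rw [e1]
      exact inv_mem hx)
  refine ⟨u⁻¹, fun t ht => ?_⟩
  have h1 := hf t ht
  rw [MulAction.Quotient.smul_mk, MulAction.Quotient.smul_mk, smul_eq_mul, smul_eq_mul, mul_one, eq_comm,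
    QuotientGroup.eq] at h1
  rw [inv_inv]
  have e1 : u⁻¹ * t * u = u⁻¹ * (t * u) := by group
  rw [e1]
  exact h1

/-- **Fixed points**: `g ∈ C_U(Y₀) H`. -/
theorem Tor.exists_cent_mul (C : Tor p U T) (hH : H.index = p ^ k) {Y₀ : Subgroup G} (h1 : Y₀ ≤ T) (h2 : Y₀ ≤ H)
    {g : G} (hg : ∀ y ∈ Y₀, g⁻¹ * y * g ∈ H) : ∃ u ∈ U, ∃ x ∈ H, (∀ y ∈ Y₀, u * y = y * u) ∧ g = u * x := by
  obtain ⟨v, hv, x, hx, e⟩ := C.exists_mul hH g
  obtain ⟨c, hc, hcc, e2⟩ := Solvable.Glauberman.exists_centralizer_smul Y₀ U (h1.trans C.nm) (C.cop h1)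
    (Or.inr C.sol) (X := G ⧸ H) ((1 : G) : G ⧸ H) ((g : G) : G ⧸ H)
    (by
      intro a ha
      rw [MulAction.Quotient.smul_mk, smul_eq_mul, mul_one, QuotientGroup.eq, mul_one]
      exact inv_mem (h2 ha))
    (by
      intro a ha
      rw [MulAction.Quotient.smul_mk, smul_eq_mul, QuotientGroup.eq]
      have := inv_mem (hg a ha)
      have e1 : (a * g)⁻¹ * g = (g⁻¹ * a * g)⁻¹ := by group
      rw [e1]
      exact this)
    hv (by
      rw [MulAction.Quotient.smul_mk, smul_eq_mul, mul_one, QuotientGroup.eq, e]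
      have e1 : v⁻¹ * (v * x) = x := by group
      rw [e1]; exact hx)
  rw [MulAction.Quotient.smul_mk, smul_eq_mul, mul_one, QuotientGroup.eq] at e2
  refine ⟨c, hc, c⁻¹ * g, e2, fun y hy => (Subgroup.mem_centralizer_iff.1 hcc y hy).symm, by group⟩

/-- `N(T) ≤ H` -/
theorem Tor.norm_le (C : Tor p U T) (hH : H.index = p ^ k) (hT : T ≤ H)
    (hU : ∀ u ∈ U, (∀ t ∈ T, u * t = t * u) → u = 1) : normalizer (T : Set G) ≤ H := by
  intro g hg
  obtain ⟨u, hu, x, hx, hc, e⟩ := C.exists_cent_mul hH (Y₀ := T) le_rfl hT (g := g) (fun t ht => by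
    have h1 : g⁻¹ ∈ normalizer (T : Set G) := inv_mem hg
    have h2 := (mem_normalizer_iff.1 h1 t).1 ht
    rw [inv_inv] at h2
    exact hT h2)
  rw [hU u hu hc, one_mul] at e
  rw [e]
  exact hx

/-- conjugating `H` -/
theorem index_conj (hH : H.index = p ^ k) (g : G) : (H.comap (MulAut.conj g).toMonoidHom).index = p ^ k := by
  rw [← hH]
  exact index_comap_of_surjective _ (MulAut.conj g).surjective

theorem eq_top_of_conj {g : G} (h : H.comap (MulAut.conj g).toMonoidHom = ⊤) : H = ⊤ := by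
  rw [eq_top_iff]
  intro x _
  have h2 : g⁻¹ * x * g ∈ H.comap (MulAut.conj g).toMonoidHom := by rw [h]; trivial
  have h3 : g * (g⁻¹ * x * g) * g⁻¹ ∈ H := h2
  have h4 : g * (g⁻¹ * x * g) * g⁻¹ = x := by group
  rwa [h4] at h3

/-- a nontrivial element with centraliser of index prime to `p` -/
theorem eq_top_of_central [IsSimpleGroup G] (hp : p.Prime) (hH : H.index = p ^ k) {z : G} (hz : z ∈ H) (hz1 : z ≠ 1)
    (hzc : ¬ p ∣ (centralizer ({z} : Set G)).index) : H = ⊤ := by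
  have h1 := H408.Core.normalClosure_le hp hH hzc hz
  have h2 : normalClosure ({z} : Set G) = ⊤ := by
    rcases (inferInstance : (normalClosure ({z} : Set G)).Normal).eq_bot_or_eq_top with h3 | h3
    · exfalso
      apply hz1
      have h4 : z ∈ normalClosure ({z} : Set G) := subset_normalClosure rfl
      rw [h3, mem_bot] at h4
      exact h4
    · exact h3
  rw [h2] at h1
  exact top_le_iff.1 h1

/-- **The theorem.** -/
theorem Tor.good_of_norm [IsSimpleGroup G] (C : Tor p U T) (hU : ∀ u ∈ U, (∀ t ∈ T, u * t = t * u) → u = 1) {z : G}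
    (hz : z ∈ normalizer (T : Set G)) (hz1 : z ≠ 1) (hzc : ¬ p ∣ (centralizer ({z} : Set G)).index) :
    H408.Core.Good p G := by
  intro H k hH
  obtain ⟨g, hg⟩ := C.exists_T_le hH
  have hH' := index_conj hH g
  have h1 := C.norm_le hH' (fun t ht => hg t ht) hU hz
  exact eq_top_of_conj (eq_top_of_central C.pr hH' h1 hz1 hzc)

end Cfsg.Agent.H249.PPTor
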