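import Cfsg.Agent.H408.Engine
import Cfsg.Agent.H129.TwD4Cyc
import Cfsg.Agent.S1067
import Cfsg.Agent.S1071
import Cfsg.Agent.H249.PPTwD4

/-!
# `³D₄(2)`, `³D₄(3)` have no proper subgroup of `p`-power index, `q` a power of `p` (helper249)
-/

set_option autoImplicit false

namespace Cfsg.Agent.H249.PPTwD4

open Cfsg Cfsg.Lie Cfsg.Agent.H408.Core Cfsg.Agent.H408.Engine Cfsg.Agent.OrdDiv

universe u

theorem small (T : OrderTable.{0}) (hS : ∀ (X : Type) [Group X] [Finite X] [IsSimpleGroup X], IsKnownSimple' X)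
    {K : Type} [Field K] [Fintype K] {q : ℕ} (hq : IsPrimePow q) (hK : Fintype.card K = q ^ 3)
    {p n v : ℕ} (hp : p.Prime) (hr : (q ^ 4 - q ^ 2 + 1).Prime) (hrp : q ^ 4 - q ^ 2 + 1 ≠ p)
    (hn : q ^ 12 * (q ^ 2 - 1) * (q ^ 6 - 1) * (q ^ 8 + q ^ 4 + 1) = n)
    {l : List (ℕ × ℕ)} (hv : valid l n = true) (hpv : ¬ p ^ (v + 1) ∣ n)
    (hchk : chk n l p (q ^ 4 - q ^ 2 + 1) v [] = true) : Good p ↥(twistedD4 K q) := by
  have hs : IsSimpleGroup ↥(twistedD4 K q) := (S1071.result hq hK).1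
  have hf : Finite ↥(twistedD4 K q) := Nat.finite_of_card_ne_zero (by
    rw [S1067.result hq hK, hn]
    rintro rfl
    exact hpv (dvd_zero _))
  obtain ⟨R, -, hR1, hR2⟩ := Cfsg.Agent.H129.TwD4Cyc.coxeter_torus hq hK
  have hcard : Nat.card ↥(twistedD4 K q) = n := by rw [S1067.result hq hK, hn]
  exact good_of_chk T hS hp hr hrp hcard hv hR1 hR2 (ex := []) (by simp) hpv hchk

theorem two (T : OrderTable.{0}) (hS : ∀ (X : Type) [Group X] [Finite X] [IsSimpleGroup X], IsKnownSimple' X)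
    {K : Type} [Field K] [Fintype K] (hK : Fintype.card K = 2 ^ 3) : Good 2 ↥(twistedD4 K 2) :=
  small T hS Nat.prime_two.isPrimePow hK Nat.prime_two (by norm_num) (by norm_num) (n := 211341312) (by norm_num)
    (l := [(2, 12), (3, 4), (7, 2), (13, 1)]) (by decide +kernel) (v := 12) (by norm_num) (by decide +kernel)

theorem three (T : OrderTable.{0}) (hS : ∀ (X : Type) [Group X] [Finite X] [IsSimpleGroup X], IsKnownSimple' X)
    {K : Type} [Field K] [Fintype K] (hK : Fintype.card K = 3 ^ 3) : Good 3 ↥(twistedD4 K 3) :=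
  small T hS Nat.prime_three.isPrimePow hK Nat.prime_three (by norm_num) (by norm_num) (n := 20560831566912)
    (by norm_num) (l := [(2, 6), (3, 12), (7, 2), (13, 2), (73, 1)]) (by decide +kernel) (v := 12) (by norm_num)
    (by decide +kernel)

/-- **All `³D₄(q)`.** -/
theorem all (T : OrderTable.{0}) (hS : ∀ (X : Type) [Group X] [Finite X] [IsSimpleGroup X], IsKnownSimple' X)
    {K : Type} [Field K] [Fintype K] {q : ℕ} (p : ℕ) [hp : Fact p.Prime] [hcp : CharP K p] (hq : IsPrimePow q)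
    (hK : Fintype.card K = q ^ 3) : Good p ↥(twistedD4 K q) := by
  by_cases h4 : 4 ≤ q
  · exact good p hq hK h4
  · have h2 := hq.two_le
    have hpq : p ∣ q := by
      obtain ⟨n, -, hn⟩ := FiniteField.card K p
      rw [hK] at hn
      exact hp.out.dvd_of_dvd_pow (hn ▸ dvd_pow_self p n.ne_zero)
    have h : q = 2 ∨ q = 3 := by omega
    rcases h with rfl | rfl
    · obtain rfl := (Nat.prime_dvd_prime_iff_eq hp.out Nat.prime_two).1 hpq
      exact two T hS hK
    · obtain rfl := (Nat.prime_dvd_prime_iff_eq hp.out Nat.prime_three).1 hpq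
      exact three T hS hK

end Cfsg.Agent.H249.PPTwD4
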