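import Cfsg.Agent.H249.PPTor
import Cfsg.Agent.KFacts.TwF4.AutNorm
import Cfsg.Agent.KFacts.TwF4.TorEx
import Cfsg.Agent.S1072
import Cfsg.Agent.H408.PPMain

/-!
# `²F₄(q)` has no proper subgroup of `2`-power index (helper249)
-/

set_option autoImplicit false

namespace Cfsg.Agent.H249.PPTwF4

open Cfsg.Agent.KFacts.TwF4 Cfsg.Agent.KFacts.TwF4.Full Cfsg.Agent.KFacts.TwF4.Arc
open Cfsg.Agent.KFacts.TwF4.Inv Cfsg.Agent.KFacts.TwF4.SylU
open Cfsg.Agent.SplitTwo Cfsg.Agent.SplitTwo.ZS Cfsg.Agent.TitsThree.RankTwoZ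
open Cfsg.Agent.SplitTwo.RootSysZ Subgroup Cfsg Cfsg.Lie

universe u

set_option linter.unusedSectionVars false

variable {F : Type*} [Field F] [Finite F] {σ : F →+* F} {G : Type u} [Group G] [Finite G] (S : Full σ G)

/-- the torus argument -/
theorem tor (hF : ∃ c : Fˣ, c ≠ 1) (hR : S.R.p = 2) : PPTor.Tor 2 (J S.XZ 1 8) S.T := by
  have hfact : Fact (Nat.Prime 2) := ⟨Nat.prime_two⟩
  obtain ⟨P, hP⟩ := exists_sylow S hF hR
  refine ⟨Nat.prime_two, hP ▸ P.not_dvd_index, hP ▸ P.isPGroup', fun t ht => ?_, ?_⟩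
  · rw [mem_normalizer_iff]
    intro x
    refine ⟨fun h => S.T_conj_J ht h, fun h => ?_⟩
    have h1 := S.T_conj_J (inv_mem ht) h
    rwa [inv_inv, show t⁻¹ * (t * x * t⁻¹) * t = x by group] at h1
  · have h1 := AutNorm.odd_T S
    rw [← even_iff_two_dvd, Nat.not_even_iff_odd]
    exact h1

/-- `C_U(T) = 1` -/
theorem cent (hF : ∃ c : Fˣ, c ≠ 1) {u : G} (hu : u ∈ J S.XZ 1 8) (hc : ∀ t ∈ S.T, u * t = t * u) : u = 1 := by
  obtain ⟨w, hw⟩ := hF
  have hc' : ∀ t ∈ S.T, t * u * t⁻¹ = u := fun t ht => by rw [← hc t ht, mul_inv_cancel_right]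
  obtain ⟨t, ht, -, hf⟩ := TorEx.exists_tt S hw 8
  have h1 := S.fix_J_of ht (a := 1) (b := 8) (k := 8) (by norm_num) (fun j h1 h2 h3 x hx hx' =>
    hf j (by omega) x hx hx') hu (hc' t ht)
  obtain ⟨t', ht', -, hf'⟩ := TorEx.exists_tt S hw 1
  exact hf' 8 (by norm_num) u h1 (hc' t' ht')

theorem index_cent (hF : ∃ c : Fˣ, c ≠ 1) (hR : S.R.p = 2) : ¬ 2 ∣ (centralizer ({S.n2} : Set G)).index := by
  have hfact : Fact (Nat.Prime 2) := ⟨Nat.prime_two⟩
  obtain ⟨P, hP⟩ := exists_sylow S hF hR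
  -- the element `e 2 0 1`
  have h1 : J S.XZ 1 8 ≤ centralizer ({S.e 2 0 1} : Set G) := by
    rw [S.centralizer_z (z := S.e 2 0 1) ⟨1, rfl⟩ (fun h => one_ne_zero (S.e_eq_one h).2)]
    exact J_mono (by norm_num) (by norm_num)
  have h2 : ¬ 2 ∣ (centralizer ({S.e 2 0 1} : Set G)).index := fun h =>
    P.not_dvd_index (h.trans (index_dvd_of_le (hP ▸ h1)))
  -- conjugacy
  have h3 : ∃ g : G, g * S.e 2 0 1 * g⁻¹ = S.n2 := by
    refine ⟨S.e 0 1 0 * S.rot ^ (2 : ℤ), ?_⟩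
    have h4 := S.ck_e 2 2 0 1
    rw [S.ck_apply] at h4
    have h5 : (2 : ZMod 8) + ((2 : ℤ) : ZMod 8) = 4 := by decide
    rw [h5] at h4
    rw [n2_word' S, ← h4]
    group
  obtain ⟨g, hg⟩ := h3
  have h6 : (centralizer ({S.e 2 0 1} : Set G)).map (MulAut.conj g).toMonoidHom = centralizer ({S.n2} : Set G) := by
    ext x
    rw [mem_centralizer_singleton_iff]
    constructor
    · rintro ⟨y, hy, rfl⟩
      have hy' : y * S.e 2 0 1 = S.e 2 0 1 * y := mem_centralizer_singleton_iff.1 hy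
      show g * y * g⁻¹ * S.n2 = S.n2 * (g * y * g⁻¹)
      rw [← hg]
      calc g * y * g⁻¹ * (g * S.e 2 0 1 * g⁻¹) = g * (y * S.e 2 0 1) * g⁻¹ := by group
        _ = g * (S.e 2 0 1 * y) * g⁻¹ := by rw [hy']
        _ = _ := by group
    · intro hx
      refine ⟨g⁻¹ * x * g, ?_, ?_⟩
      · show g⁻¹ * x * g ∈ centralizer ({S.e 2 0 1} : Set G)
        rw [mem_centralizer_singleton_iff]
        rw [← hg] at hx
        calc g⁻¹ * x * g * S.e 2 0 1 = g⁻¹ * (x * (g * S.e 2 0 1 * g⁻¹)) * g := by group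
          _ = g⁻¹ * (g * S.e 2 0 1 * g⁻¹ * x) * g := by rw [hx]
          _ = _ := by group
      · show g * (g⁻¹ * x * g) * g⁻¹ = x
        group
  have h7 : ((centralizer ({S.e 2 0 1} : Set G)).map (MulAut.conj g).toMonoidHom).index =
      (centralizer ({S.e 2 0 1} : Set G)).index := index_map_equiv _ (MulAut.conj g)
  rw [← h6, h7]
  exact h2

theorem good_full [IsSimpleGroup G] (hF : ∃ c : Fˣ, c ≠ 1) (hR : S.R.p = 2) : H408.Core.Good 2 G := by
  refine (tor S hF hR).good_of_norm (fun u hu hc => cent S hF hu hc) (z := S.n2) ?_ ?_ (index_cent S hF hR)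
  · have key : ∀ x ∈ S.T, S.n2 * x * S.n2⁻¹ ∈ S.T := by
      intro x hx
      obtain ⟨c, d, rfl⟩ := S.mem_T.1 hx
      rw [S.n2_h]
      exact S.mem_T.2 ⟨_, _, rfl⟩
    have h2 : S.n2⁻¹ = S.n2 := inv_eq_of_mul_eq_one_left S.n2_sq
    rw [mem_normalizer_iff]
    intro x
    refine ⟨fun h => key x h, fun h => ?_⟩
    have h1 := key _ h
    rwa [show S.n2 * (S.n2 * x * S.n2⁻¹) * S.n2⁻¹ = x by
      rw [h2]
      calc S.n2 * (S.n2 * x * S.n2) * S.n2 = (S.n2 * S.n2) * x * (S.n2 * S.n2) := by group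
        _ = x := by rw [S.n2_sq, one_mul, mul_one]] at h1
  · rw [n2_word' S]
    intro h
    have h1 : S.e 4 0 1 = 1 := by
      have h2 := congrArg (fun x => (S.e 0 1 0)⁻¹ * x * S.e 0 1 0) h
      simpa [mul_assoc] using h2
    exact one_ne_zero (S.e_eq_one h1).2

/-- **`²F₄(q)`.** -/
theorem good {X : Type*} [Group X] (h : Iso2F4 X) : H408.Core.Good 2 X := by
  obtain ⟨F, _, _, m, hm, hK, ⟨e⟩⟩ := h
  obtain ⟨φ, hφ⟩ := Cfsg.Agent.ChevalleyStructure.TwF4.TwistedFix.exists_rln hK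
  have := Cfsg.Agent.ChevalleyStructure.TwF4.Twisted.charP_two hK
  have hfin : Finite ↥(twistedF4 F (2 ^ m)) := inferInstance
  have hF : ∃ c : Fˣ, c ≠ 1 := by
    have h1 : 1 < Nat.card Fˣ := by
      rw [Nat.card_units, Nat.card_eq_fintype_card, hK]
      have : 2 ^ 3 ≤ 2 ^ (2 * m + 1) := Nat.pow_le_pow_right (by norm_num) (by omega)
      omega
    have h2 : Nontrivial Fˣ := Finite.one_lt_card_iff_nontrivial.1 h1
    exact exists_ne 1
  obtain ⟨S, hS⟩ : ∃ S : Full φ ↥(twistedF4 F (2 ^ m)), S.R.p = 2 :=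
    ⟨Cfsg.Agent.KFacts.TwF4.Inst.full hK hφ, rfl⟩
  have hs : IsSimpleGroup ↥(twistedF4 F (2 ^ m)) := (Cfsg.Agent.S1072.result hm hK).1
  have hg := good_full S hF hS
  intro H k hH
  have h1 : (H.map e.toMonoidHom).index = 2 ^ k := by rw [← hH]; exact Subgroup.index_map_equiv H e
  have h2 := hg _ k h1
  rw [eq_top_iff]
  intro x _
  have h3 : e x ∈ H.map e.toMonoidHom := by rw [h2]; trivial
  obtain ⟨y, hy, hy'⟩ := h3
  have h4 : y = x := e.injective hy'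
  exact h4 ▸ hy

open Cfsg.Agent.H408.Idx8 Cfsg.Agent.H408.PPMain

/-- the field `ff` of `SameRows` -/
theorem ff : Same.{u} fun p G _ => p = 2 ∧ Lie.Iso2F4 G := by
  rintro p hp G _ _ hs ⟨rfl, h⟩
  exact Idx.of_good hp (good h)

end Cfsg.Agent.H249.PPTwF4
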