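import Mathlib

/-!
# 2-transitive sets of functions on a symplectic space over `F₂` (helper249, HUB H1, export for `Sp_2m(2)`)

`V` is an elementary abelian 2-group of order `q²` with a nondegenerate symmetric sign bicharacter `s`
(`s v v = 1`), `F x` (`x ∈ Ω`) are `0,1`-valued functions on `V` with constant two point sums.
Then `g = 1 - 2 F x` satisfies `g (v + w) = g v * g w * s v w` (`main`).
-/

set_option autoImplicit false
set_option linter.unusedSectionVars false

namespace Cfsg.Agent.H249.SpComb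

variable {V : Type*} [AddCommGroup V] [Fintype V] {Ω : Type*} [Fintype Ω]

/-- a nondegenerate symmetric sign bicharacter on an elementary abelian 2-group of order `q²` -/
structure Sg (s : V → V → ℤ) (q : ℤ) : Prop where
  two : ∀ v : V, v + v = 0
  val : ∀ u v, s u v = 1 ∨ s u v = -1
  add : ∀ u v w, s u (v + w) = s u v * s u w
  symm : ∀ u v, s u v = s v u
  self : ∀ v, s v v = 1
  nondeg : ∀ v, v ≠ 0 → ∃ u, s v u = -1
  card : (Fintype.card V : ℤ) = q ^ 2

namespace Sg

variable {s : V → V → ℤ} {q : ℤ} (S : Sg s q)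

include S

theorem sq (u v : V) : s u v * s u v = 1 := by
  rcases S.val u v with h | h <;> rw [h] <;> norm_num

theorem zero_right (u : V) : s u 0 = 1 := by
  have h := S.add u 0 0
  rw [add_zero] at h
  rcases S.val u 0 with h1 | h1
  · exact h1
  · rw [h1] at h; norm_num at h

theorem zero_left (u : V) : s 0 u = 1 := by rw [S.symm, S.zero_right]

theorem add_left (u v w : V) : s (u + v) w = s u w * s v w := by
  rw [S.symm, S.add, S.symm w u, S.symm w v]

theorem add_cancel (u v : V) : u + (u + v) = v := by rw [← add_assoc, S.two, zero_add]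

theorem sum_shift (u : V) (φ : V → ℤ) : ∑ v, φ (u + v) = ∑ v, φ v :=
  Equiv.sum_comp (Equiv.addLeft u) φ

theorem sum_eq {v : V} (hv : v ≠ 0) : ∑ w, s v w = 0 := by
  obtain ⟨u, hu⟩ := S.nondeg v hv
  have h1 : ∑ w, s v w = - ∑ w, s v w := by
    conv_lhs => rw [← S.sum_shift u]
    rw [← Finset.sum_neg_distrib]
    refine Finset.sum_congr rfl fun w _ => ?_
    rw [S.add, hu, neg_one_mul]
  linarith

theorem sum_zero : ∑ w, s 0 w = q ^ 2 := by
  rw [Finset.sum_congr rfl fun w _ => S.zero_left w, Finset.sum_const, nsmul_eq_mul, mul_one, Finset.card_univ,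
    S.card]

theorem add_eq_zero {u v : V} : u + v = 0 ↔ u = v := by
  constructor
  · intro h
    rw [← S.add_cancel u v, h, add_zero]
  · rintro rfl; exact S.two u

theorem sum_mul (u v : V) [DecidableEq V] : ∑ w, s u w * s w v = if u = v then q ^ 2 else 0 := by
  have h : ∀ w, s u w * s w v = s (u + v) w := fun w => by rw [S.add_left, S.symm w v]
  rw [Finset.sum_congr rfl fun w _ => h w]
  split_ifs with huv
  · rw [S.add_eq_zero.2 huv, S.sum_zero]
  · exact S.sum_eq fun h => huv (S.add_eq_zero.1 h)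

/-- Fourier inversion -/
theorem inversion (φ : V → ℤ) (u : V) : ∑ v, (∑ w, φ w * s w v) * s v u = q ^ 2 * φ u := by
  classical
  have h1 : ∀ v, (∑ w, φ w * s w v) * s v u = ∑ w, φ w * (s w v * s v u) := by
    intro v
    rw [Finset.sum_mul]
    exact Finset.sum_congr rfl fun w _ => by ring
  rw [Finset.sum_congr rfl fun v _ => h1 v, Finset.sum_comm]
  have h2 : ∀ w, ∑ v, φ w * (s w v * s v u) = if w = u then φ w * q ^ 2 else 0 := by
    intro w
    rw [← Finset.mul_sum, S.sum_mul]
    split_ifs <;> simp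
  rw [Finset.sum_congr rfl fun w _ => h2 w, Finset.sum_ite_eq' Finset.univ u]
  simp [mul_comm]

/-- three conditions -/
theorem exists_mid (hq : 0 < q) {v w w' : V} (hv : v ≠ 0) (hw : w ≠ 0) (hw' : w' ≠ 0) (hvw : v ≠ w)
    (hvw' : v ≠ w') : ∃ u, s v u = 1 ∧ s w u = -1 ∧ s w' u = -1 := by
  by_contra hcon
  push Not at hcon
  have h0 : ∀ u, (1 + s v u) * (1 - s w u) * (1 - s w' u) = 0 := by
    intro u
    rcases S.val v u with h1 | h1
    · rcases S.val w u with h2 | h2
      · rw [h2]; ring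
      · rcases S.val w' u with h3 | h3
        · rw [h3]; ring
        · exact absurd h3 (hcon u h1 h2)
    · rw [h1]; ring
  have hnn : ∀ z, 0 ≤ ∑ u, s z u := by
    intro z
    by_cases hz : z = 0
    · rw [hz, S.sum_zero]; positivity
    · rw [S.sum_eq hz]
  have h1 : ∀ u, (1 + s v u) * (1 - s w u) * (1 - s w' u) = 1 + s v u - s w u - s w' u - s (v + w) u -
      s (v + w') u + s (w + w') u + s (v + w + w') u := by
    intro u
    simp only [S.add_left]
    ring
  have h2 : ∑ u, (1 + s v u) * (1 - s w u) * (1 - s w' u) = 0 := Finset.sum_eq_zero fun u _ => h0 u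
  rw [Finset.sum_congr rfl fun u _ => h1 u] at h2
  simp only [Finset.sum_add_distrib, Finset.sum_sub_distrib] at h2
  rw [S.sum_eq hv, S.sum_eq hw, S.sum_eq hw', S.sum_eq (fun e => hvw (S.add_eq_zero.1 e)),
    S.sum_eq (fun e => hvw' (S.add_eq_zero.1 e)), Finset.sum_const, nsmul_eq_mul, mul_one, Finset.card_univ,
    S.card] at h2
  have h3 := hnn (w + w')
  have h4 := hnn (v + w + w')
  nlinarith

end Sg

/-- the hypotheses -/
structure Cfg (s : V → V → ℤ) (q : ℤ) (F : Ω → V → ℤ) (h l f f1 f2 : ℤ) : Prop extends Sg s q where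
  fval : ∀ x v, F x v = 0 ∨ F x v = 1
  fzero : ∀ x, F x 0 = 0
  Hh : ∀ x, ∑ v, F x v = h
  Hl : ∀ x y, x ≠ y → ∑ v, F x v * F y v = l
  Hf : ∀ v, v ≠ 0 → ∑ x, F x v = f
  H1 : ∀ u v, u ≠ 0 → v ≠ 0 → u ≠ v → s u v = 1 → ∑ x, F x u * F x v = f1
  H2 : ∀ u v, s u v = -1 → ∑ x, F x u * F x v = f2
  clos : ∀ x u v, F x u = 1 → F x v = 1 → s u v = -1 → F x (u + v) = 1

namespace Cfg

variable {s : V → V → ℤ} {q : ℤ} {F : Ω → V → ℤ} {h l f f1 f2 : ℤ} (C : Cfg s q F h l f f1 f2)

include C

theorem fsq (x : Ω) (v : V) : F x v * F x v = F x v := by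
  rcases C.fval x v with h1 | h1 <;> rw [h1] <;> norm_num

/-- the transform -/
def θ (_ : Cfg s q F h l f f1 f2) (x : Ω) (v : V) : ℤ := ∑ w, F x w * s w v

theorem θ_zero (x : Ω) : C.θ x 0 = h := by
  unfold θ
  rw [← C.Hh x]
  exact Finset.sum_congr rfl fun w _ => by rw [C.zero_right, mul_one]

/-- the Gram matrix on `V ∖ 0` -/
theorem gram {w v : V} [DecidableEq V] (hw : w ≠ 0) (hv : v ≠ 0) : 2 * ∑ y, F y w * F y v =
    2 * (f - f1) * (if w = v then 1 else 0) + (f1 + f2) + (f1 - f2) * s w v := by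
  by_cases hwv : w = v
  · subst hwv
    rw [if_pos rfl, C.self, Finset.sum_congr rfl fun y _ => C.fsq y w, C.Hf w hw]
    ring
  · rw [if_neg hwv]
    rcases C.val w v with h1 | h1
    · rw [C.H1 w v hw hv hwv h1, h1]; ring
    · rw [C.H2 w v h1, h1]; ring

theorem sum_FF (x : Ω) [DecidableEq Ω] (y : Ω) : ∑ v, F x v * F y v = (h - l) * (if x = y then 1 else 0) + l := by
  by_cases hxy : x = y
  · subst hxy
    rw [if_pos rfl, Finset.sum_congr rfl fun v _ => C.fsq x v, C.Hh]; ring
  · rw [if_neg hxy, C.Hl x y hxy]; ring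

/-- the basic relation -/
theorem rel (x : Ω) {v : V} (hv : v ≠ 0) :
    2 * (h - l) * F x v + 2 * l * f = 2 * (f - f1) * F x v + (f1 + f2) * h + (f1 - f2) * C.θ x v := by
  classical
  have e1 : ∑ w, F x w * (2 * ∑ y, F y w * F y v) = 2 * (h - l) * F x v + 2 * l * f := by
    have h1 : ∀ w, F x w * (2 * ∑ y, F y w * F y v) = ∑ y, 2 * F y v * (F x w * F y w) := by
      intro w
      rw [Finset.mul_sum, Finset.mul_sum]
      exact Finset.sum_congr rfl fun y _ => by ring
    rw [Finset.sum_congr rfl fun w _ => h1 w, Finset.sum_comm]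
    have h2 : ∀ y, ∑ w, 2 * F y v * (F x w * F y w) =
        (if x = y then 2 * (h - l) * F y v else 0) + 2 * l * F y v := by
      intro y
      rw [← Finset.mul_sum, C.sum_FF]
      split_ifs <;> ring
    rw [Finset.sum_congr rfl fun y _ => h2 y, Finset.sum_add_distrib, ← Finset.mul_sum, C.Hf v hv,
      Finset.sum_ite_eq Finset.univ x]
    simp
  have e2 : ∑ w, F x w * (2 * ∑ y, F y w * F y v) =
      2 * (f - f1) * F x v + (f1 + f2) * h + (f1 - f2) * C.θ x v := by
    have h1 : ∀ w, F x w * (2 * ∑ y, F y w * F y v) =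
        (if w = v then 2 * (f - f1) * F x w else 0) + (f1 + f2) * F x w + (f1 - f2) * (F x w * s w v) := by
      intro w
      by_cases hw : w = 0
      · rw [hw, C.fzero]; simp
      · rw [C.gram hw hv]
        split_ifs <;> ring
    rw [Finset.sum_congr rfl fun w _ => h1 w, Finset.sum_add_distrib, Finset.sum_add_distrib, ← Finset.mul_sum,
      ← Finset.mul_sum, C.Hh, Finset.sum_ite_eq' Finset.univ v]
    simp only [Finset.mem_univ, if_true, θ]
  rw [← e1, e2]

/-- `n h = (q² - 1) f` -/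
theorem eq_nh : (Fintype.card Ω : ℤ) * h = (q ^ 2 - 1) * f := by
  classical
  have e1 : ∑ x, ∑ v, F x v = ∑ v, ∑ x, F x v := Finset.sum_comm
  rw [Finset.sum_congr rfl fun x _ => C.Hh x, Finset.sum_const, nsmul_eq_mul, Finset.card_univ,
    ← Finset.add_sum_erase _ _ (Finset.mem_univ (0 : V))] at e1
  have e2 : ∑ v ∈ Finset.univ.erase (0 : V), ∑ x, F x v = (q ^ 2 - 1) * f := by
    rw [Finset.sum_congr rfl fun v hv => C.Hf v (Finset.ne_of_mem_erase hv), Finset.sum_const, nsmul_eq_mul,
      Finset.card_erase_of_mem (Finset.mem_univ _), Finset.card_univ, Nat.cast_sub Fintype.card_pos, C.card]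
    push_cast
    ring
  have e3 : ∑ x, F x 0 = 0 := Finset.sum_eq_zero fun x _ => C.fzero x
  rw [e2, e3, zero_add] at e1
  exact e1

/-- `(h - l) + n l = h f` -/
theorem eq_nl (x : Ω) : (h - l) + Fintype.card Ω * l = h * f := by
  classical
  have e1 : ∑ y, ∑ v, F x v * F y v = ∑ v, ∑ y, F x v * F y v := Finset.sum_comm
  rw [Finset.sum_congr rfl fun y _ => C.sum_FF x y, Finset.sum_add_distrib, ← Finset.mul_sum,
    Finset.sum_ite_eq Finset.univ x, Finset.sum_const, nsmul_eq_mul, Finset.card_univ] at e1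
  simp only [Finset.mem_univ, if_true, mul_one] at e1
  rw [e1]
  have e2 : ∀ v, ∑ y, F x v * F y v = F x v * f := by
    intro v
    rw [← Finset.mul_sum]
    by_cases hv : v = 0
    · rw [hv, C.fzero, zero_mul, zero_mul]
    · rw [C.Hf v hv]
  rw [Finset.sum_congr rfl fun v _ => e2 v, ← Finset.sum_mul, C.Hh]

/-- the functions are different -/
theorem h_ne_l {x₀ : Ω} {v₁ v₂ : V} (hv₁ : F x₀ v₁ = 1) (hv₂ : v₂ ≠ 0) (hv₂' : F x₀ v₂ = 0) : h ≠ l := by
  intro hhl
  -- all the functions agree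
  have key : ∀ y v, F y v = F x₀ v := by
    intro y
    by_cases hy : y = x₀
    · intro v; rw [hy]
    have e1 : ∑ v, F x₀ v * F y v = h := by rw [C.Hl x₀ y (Ne.symm hy), hhl]
    have e2 : ∑ v, (F x₀ v - F x₀ v * F y v) = 0 := by
      rw [Finset.sum_sub_distrib, C.Hh, e1, sub_self]
    have e3 : ∑ v, (F y v - F x₀ v * F y v) = 0 := by
      rw [Finset.sum_sub_distrib, C.Hh, e1, sub_self]
    have n1 : ∀ v ∈ Finset.univ, 0 ≤ F x₀ v - F x₀ v * F y v := by
      intro v _
      rcases C.fval x₀ v with h1 | h1 <;> rcases C.fval y v with h2 | h2 <;> rw [h1, h2] <;> norm_num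
    have n2 : ∀ v ∈ Finset.univ, 0 ≤ F y v - F x₀ v * F y v := by
      intro v _
      rcases C.fval x₀ v with h1 | h1 <;> rcases C.fval y v with h2 | h2 <;> rw [h1, h2] <;> norm_num
    intro v
    have a1 := (Finset.sum_eq_zero_iff_of_nonneg n1).1 e2 v (Finset.mem_univ v)
    have a2 := (Finset.sum_eq_zero_iff_of_nonneg n2).1 e3 v (Finset.mem_univ v)
    linarith
  have hv1 : v₁ ≠ 0 := by
    rintro rfl
    rw [C.fzero] at hv₁
    exact zero_ne_one hv₁
  have h1 := C.Hf v₁ hv1
  have h2 := C.Hf v₂ hv₂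
  rw [Finset.sum_congr rfl fun x _ => key x v₁, hv₁, Finset.sum_const, nsmul_eq_mul, mul_one] at h1
  rw [Finset.sum_congr rfl fun x _ => key x v₂, hv₂', Finset.sum_const_zero] at h2
  have h3 : 0 < Fintype.card Ω := Fintype.card_pos_iff.2 ⟨x₀⟩
  rw [← h2, Finset.card_univ] at h1
  have : (Fintype.card Ω : ℤ) ≠ 0 := by exact_mod_cast h3.ne'
  exact this h1

theorem f1_ne_f2 {x₀ : Ω} {v₁ v₂ : V} (hv₁ : F x₀ v₁ = 1) (hv₂ : v₂ ≠ 0) (hv₂' : F x₀ v₂ = 0)
    (hn : (Fintype.card Ω : ℤ) ≠ q ^ 2 - 1) : f1 ≠ f2 := by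
  intro h12
  subst h12
  have hv1 : v₁ ≠ 0 := by
    rintro rfl
    rw [C.fzero] at hv₁
    exact zero_ne_one hv₁
  have r1 := C.rel x₀ hv1
  have r2 := C.rel x₀ hv₂
  rw [hv₁, sub_self, zero_mul] at r1
  rw [hv₂', sub_self, zero_mul] at r2
  have e1 := C.eq_nh
  have e2 := C.eq_nl x₀
  have e3 := C.h_ne_l hv₁ hv₂ hv₂'
  -- `h - l = f - f1`
  have e4 : h - l = f - f1 := by linarith
  -- sum over the Gram matrix: `f h = f + f1 (q² - 2)`
  have e5 : l * f = f1 * h := by linarith
  -- `(n - 1) δ = h (n - f)`, `(q² - 2) δ = ...`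
  apply hn
  have hδ : h - l ≠ 0 := sub_ne_zero.2 e3
  have hf : f ≠ 0 := by
    intro hf0
    rw [hf0, mul_zero] at e1
    have h3 : (Fintype.card Ω : ℤ) ≠ 0 := by
      have : 0 < Fintype.card Ω := Fintype.card_pos_iff.2 ⟨x₀⟩
      exact_mod_cast this.ne'
    have h4 : h = 0 := (mul_eq_zero.1 e1).resolve_left h3
    have h5 := C.Hh x₀
    have h6 : F x₀ v₁ ≤ ∑ v, F x₀ v := by
      refine Finset.single_le_sum (f := fun v => F x₀ v) (fun v _ => ?_) (Finset.mem_univ v₁)
      rcases C.fval x₀ v with h | h <;> rw [h] <;> norm_num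
    rw [h5, h4, hv₁] at h6
    norm_num at h6
  -- from `e5`: l f = f2 h = (f - (h - l)) h  => ...
  have e6 : (h - l) * (h - f) = 0 := by
    have : f1 = f - (h - l) := by linarith
    rw [this] at e5
    -- l f = (f - δ) h = f h - δ h ; l = h - δ : h f - δ f = f h - δ h
    linear_combination e5
  have e7 : h = f := by
    rcases mul_eq_zero.1 e6 with h7 | h7
    · exact absurd h7 hδ
    · linarith
  rw [e7] at e1
  exact mul_right_cancel₀ hf e1

/-- the transform is an affine function of `F x` -/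
theorem exists_par {x₀ : Ω} {v₁ v₂ : V} (hv₁ : F x₀ v₁ = 1) (hv₂ : v₂ ≠ 0) (hv₂' : F x₀ v₂ = 0)
    (hn : (Fintype.card Ω : ℤ) ≠ q ^ 2 - 1) : ∃ σ β : ℤ, (∀ x v, v ≠ 0 → C.θ x v = σ * F x v + β) ∧
      σ ^ 2 = q ^ 2 ∧ h = β * (1 - σ) := by
  classical
  have hv1 : v₁ ≠ 0 := by
    rintro rfl
    rw [C.fzero] at hv₁
    exact zero_ne_one hv₁
  have hb : f1 - f2 ≠ 0 := sub_ne_zero.2 (C.f1_ne_f2 hv₁ hv₂ hv₂' hn)
  set β : ℤ := C.θ x₀ v₂ with hβ
  set σ : ℤ := C.θ x₀ v₁ - β with hσ
  have r1 := C.rel x₀ hv1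
  have r2 := C.rel x₀ hv₂
  rw [hv₁] at r1
  rw [hv₂'] at r2
  have key : ∀ x v, v ≠ 0 → C.θ x v = σ * F x v + β := by
    intro x v hv
    have r := C.rel x hv
    apply mul_left_cancel₀ hb
    linear_combination -r + F x v * (r1 - r2) + r2
  refine ⟨σ, β, key, ?_⟩
  -- apply the transform once more
  have inv := C.inversion (fun w => F x₀ w)
  have h2 : ∀ u, u ≠ 0 → q ^ 2 * F x₀ u = h + σ * C.θ x₀ u - β := by
    intro u hu
    have h3 := inv u
    have h4 : ∀ v, (∑ w, F x₀ w * s w v) * s v u =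
        σ * (F x₀ v * s v u) + β * s v u + (if v = 0 then h - β else 0) := by
      intro v
      by_cases hv : v = 0
      · subst hv
        have h5 := C.θ_zero x₀
        unfold θ at h5
        rw [h5, C.zero_left, C.fzero, if_pos rfl]
        ring
      · have h5 := key x₀ v hv
        unfold θ at h5
        rw [h5, if_neg hv]
        ring
    rw [Finset.sum_congr rfl fun v _ => h4 v, Finset.sum_add_distrib, Finset.sum_add_distrib, ← Finset.mul_sum,
      ← Finset.mul_sum, Finset.sum_ite_eq' Finset.univ (0 : V)] at h3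
    have h6 : ∑ v, s v u = 0 := by
      rw [Finset.sum_congr rfl fun v _ => C.symm v u]
      exact C.sum_eq hu
    rw [h6] at h3
    simp only [Finset.mem_univ, if_true] at h3
    unfold θ
    linear_combination -h3
  have a1 := h2 v₁ hv1
  have a2 := h2 v₂ hv₂
  rw [key _ _ hv1, hv₁] at a1
  rw [key _ _ hv₂, hv₂'] at a2
  constructor
  · linear_combination a2 - a1
  · linear_combination -a2

/-- there are perpendicular pairs -/
theorem exists_perp (hq : 2 < q) {u : V} (hu : u ≠ 0) : ∃ v, v ≠ 0 ∧ u ≠ v ∧ s u v = 1 := by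
  classical
  by_contra hcon
  push Not at hcon
  have h1 : ∀ v, s u v = -1 + (if v = 0 then 2 else 0) + (if v = u then 2 else 0) := by
    intro v
    by_cases hv : v = 0
    · subst hv
      rw [C.zero_right, if_pos rfl, if_neg (Ne.symm hu)]
      norm_num
    · by_cases hvu : v = u
      · subst hvu
        rw [C.self, if_neg hv, if_pos rfl]; norm_num
      · rw [if_neg hv, if_neg hvu]
        rcases C.val u v with h2 | h2
        · exact absurd h2 (hcon v hv (Ne.symm hvu))
        · rw [h2]; norm_num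
  have h2 := C.sum_eq hu
  rw [Finset.sum_congr rfl fun v _ => h1 v, Finset.sum_add_distrib, Finset.sum_add_distrib,
    Finset.sum_ite_eq' Finset.univ (0 : V), Finset.sum_ite_eq' Finset.univ u, Finset.sum_const, nsmul_eq_mul,
    Finset.card_univ, C.card] at h2
  simp only [Finset.mem_univ, if_true] at h2
  nlinarith

/-- the equations for `f1`, `f2` -/
theorem par2 {σ β : ℤ} (key : ∀ x v, v ≠ 0 → C.θ x v = σ * F x v + β) (hq : 2 < q) {u : V} (hu : u ≠ 0) :
    f - 2 * f1 = σ * f1 + β * f ∧ -f = σ * f2 + β * f := by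
  classical
  have main : ∀ v, v ≠ 0 → u ≠ v → 2 * (σ * (∑ x, F x u * F x v) + β * f) = 2 * (f - f1) * s u v - 2 * f1 := by
    intro v hv huv
    have e1 : ∑ x, F x u * C.θ x v = σ * (∑ x, F x u * F x v) + β * f := by
      have : ∀ x, F x u * C.θ x v = σ * (F x u * F x v) + β * F x u := fun x => by rw [key x v hv]; ring
      rw [Finset.sum_congr rfl fun x _ => this x, Finset.sum_add_distrib, ← Finset.mul_sum, ← Finset.mul_sum,
        C.Hf u hu]
    have e2 : 2 * ∑ x, F x u * C.θ x v = ∑ w, (2 * ∑ x, F x u * F x w) * s w v := by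
      unfold θ
      have : ∀ x, F x u * ∑ w, F x w * s w v = ∑ w, F x u * F x w * s w v := fun x => by
        rw [Finset.mul_sum]
        exact Finset.sum_congr rfl fun w _ => by ring
      rw [Finset.sum_congr rfl fun x _ => this x, Finset.sum_comm, Finset.mul_sum]
      refine Finset.sum_congr rfl fun w _ => ?_
      rw [← Finset.sum_mul]
      ring
    have e3 : ∀ w, (2 * ∑ x, F x u * F x w) * s w v = (if u = w then 2 * (f - f1) * s w v else 0) +
        (f1 + f2) * s w v + (f1 - f2) * (s u w * s w v) - (if w = 0 then 2 * f1 * s w v else 0) := by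
      intro w
      by_cases hw : w = 0
      · subst hw
        have : ∑ x, F x u * F x 0 = 0 := Finset.sum_eq_zero fun x _ => by rw [C.fzero, mul_zero]
        rw [this, if_neg hu, if_pos rfl, C.zero_right]
        ring
      · rw [C.gram hu hw, if_neg hw]
        split_ifs <;> ring
    rw [Finset.sum_congr rfl fun w _ => e3 w, Finset.sum_sub_distrib, Finset.sum_add_distrib,
      Finset.sum_add_distrib, ← Finset.mul_sum, ← Finset.mul_sum, Finset.sum_ite_eq Finset.univ u,
      Finset.sum_ite_eq' Finset.univ (0 : V), C.sum_mul, if_neg huv] at e2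
    have h6 : ∑ w, s w v = 0 := by
      rw [Finset.sum_congr rfl fun w _ => C.symm w v]
      exact C.sum_eq hv
    rw [h6, e1, C.zero_left] at e2
    simp only [Finset.mem_univ, if_true] at e2
    linear_combination e2
  constructor
  · obtain ⟨v, hv, huv, hs⟩ := C.exists_perp hq hu
    have h1 := main v hv huv
    rw [C.H1 u v hu hv huv hs, hs] at h1
    linarith
  · obtain ⟨v, hs⟩ := C.nondeg u hu
    have hv : v ≠ 0 := by
      rintro rfl
      rw [C.zero_right] at hs
      norm_num at hs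
    have huv : u ≠ v := by
      rintro rfl
      rw [C.self] at hs
      norm_num at hs
    have h1 := main v hv huv
    rw [C.H2 u v hs, hs] at h1
    linarith

/-- the parameters -/
theorem params {x₀ : Ω} {v₁ v₂ : V} (hv₁ : F x₀ v₁ = 1) (hv₂ : v₂ ≠ 0) (hv₂' : F x₀ v₂ = 0)
    (hn : (Fintype.card Ω : ℤ) ≠ q ^ 2 - 1) (hq : 2 < q) : ∃ ε h' : ℤ, (ε = 1 ∨ ε = -1) ∧ 0 < h' ∧
      (∀ x v, v ≠ 0 → C.θ x v = ε * (q * F x v - h')) ∧ h = h' * (q - ε) ∧ 2 * f = q * h' ∧
      f1 * (q + 2 * ε) = f * (ε + h') := by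
  obtain ⟨σ, β, key, hσ, hh⟩ := C.exists_par hv₁ hv₂ hv₂' hn
  have hv1 : v₁ ≠ 0 := by
    rintro rfl
    rw [C.fzero] at hv₁
    exact zero_ne_one hv₁
  obtain ⟨hB, hC⟩ := C.par2 key hq hv1
  obtain ⟨ε, h', hε, rfl, rfl⟩ : ∃ ε h' : ℤ, (ε = 1 ∨ ε = -1) ∧ σ = ε * q ∧ β = -ε * h' := by
    rcases sq_eq_sq_iff_eq_or_eq_neg.1 hσ with h1 | h1
    · exact ⟨1, -β, Or.inl rfl, by rw [h1]; ring, by ring⟩
    · exact ⟨-1, β, Or.inr rfl, by rw [h1]; ring, by ring⟩
  have hhh : h = h' * (q - ε) := by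
    rcases hε with rfl | rfl
    · linear_combination hh
    · linear_combination hh
  -- positivity of `h`, `f`
  have hpos : 0 < h := by
    have h5 := C.Hh x₀
    have h6 : F x₀ v₁ ≤ ∑ v, F x₀ v := by
      refine Finset.single_le_sum (f := fun v => F x₀ v) (fun v _ => ?_) (Finset.mem_univ v₁)
      rcases C.fval x₀ v with h | h <;> rw [h] <;> norm_num
    rw [h5, hv₁] at h6
    linarith
  have hεq : 0 < q - ε := by rcases hε with rfl | rfl <;> linarith
  have hεq' : 0 < q + ε := by rcases hε with rfl | rfl <;> linarith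
  have hεq2 : 0 < q + 2 * ε := by rcases hε with rfl | rfl <;> linarith
  have hh'pos : 0 < h' := by
    by_contra hcon
    push Not at hcon
    have := mul_nonpos_of_nonpos_of_nonneg hcon hεq.le
    rw [hhh] at hpos
    linarith
  have hcard : 0 < (Fintype.card Ω : ℤ) := by
    have : 0 < Fintype.card Ω := Fintype.card_pos_iff.2 ⟨x₀⟩
    exact_mod_cast this
  have e1 := C.eq_nh
  have e2 := C.eq_nl x₀
  generalize (Fintype.card Ω : ℤ) = n at e1 e2 hn hcard
  have hfpos : 0 < f := by
    have h1 : 0 < n * h := mul_pos hcard hpos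
    rw [e1] at h1
    have h2 : 0 < q ^ 2 - 1 := by nlinarith
    exact (pos_iff_pos_of_mul_pos h1).1 h2
  have hB' : f1 * (q + 2 * ε) = f * (ε + h') := by
    rcases hε with rfl | rfl
    · linear_combination -hB
    · linear_combination hB
  have hC' : q * f2 = f * (h' - ε) := by
    rcases hε with rfl | rfl
    · linear_combination -hC
    · linear_combination hC
  refine ⟨ε, h', hε, hh'pos, ?_, hhh, ?_, hB'⟩
  · intro x v hv
    rw [key x v hv]; ring
  · -- `δ (q + 2 ε) = 2 f (q + ε - h')`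
    have r1 := C.rel x₀ hv1
    have r2 := C.rel x₀ hv₂
    rw [key x₀ v₁ hv1, hv₁] at r1
    rw [key x₀ v₂ hv₂, hv₂'] at r2
    have r3 : 2 * (h - l) = 2 * (f - f1) + (f1 - f2) * (ε * q) := by linear_combination r1 - r2
    have r4 : (h - l) * (q + 2 * ε) = 2 * f * (q + ε - h') := by
      have : 2 * ((h - l) * (q + 2 * ε)) = 2 * (2 * f * (q + ε - h')) := by
        rcases hε with rfl | rfl
        · linear_combination (q + 2) * r3 + (q - 2) * hB' - (q + 2) * hC'
        · linear_combination (q - 2) * r3 + (-q - 2) * hB' + (q - 2) * hC'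
      exact mul_left_cancel₀ two_ne_zero this
    have hne : q + ε - h' ≠ 0 := by
      intro h0
      rw [h0, mul_zero] at r4
      rcases mul_eq_zero.1 r4 with h5 | h5
      · exact C.h_ne_l hv₁ hv₂ hv₂' (sub_eq_zero.1 h5)
      · exact hεq2.ne' h5
    have r5 : n * h' = (q + ε) * f := by
      apply mul_left_cancel₀ hεq.ne'
      rw [hhh] at e1
      rcases hε with rfl | rfl
      · linear_combination e1
      · linear_combination e1
    have r6 : 2 * (n - 1) = (q - ε) * (q + 2 * ε) := by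
      have h1 : (n - 1) * (h - l) = h * (n - f) := by linear_combination e2 * (-1)
      have h2 : f * (q + ε - h') * h' * (2 * (n - 1)) = f * (q + ε - h') * h' * ((q - ε) * (q + 2 * ε)) := by
        have h3 : f * (q + ε - h') * h' * (2 * (n - 1)) = h' * ((n - 1) * ((h - l) * (q + 2 * ε))) := by
          rw [r4]; ring
        have h4 : h' * ((n - 1) * ((h - l) * (q + 2 * ε))) = h' * (h * (n - f)) * (q + 2 * ε) := by
          rw [← h1]; ring
        rw [h3, h4]
        rw [hhh]
        linear_combination h' * (q - ε) * (q + 2 * ε) * r5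
      exact mul_left_cancel₀ (mul_ne_zero (mul_ne_zero hfpos.ne' hne) hh'pos.ne') h2
    have r7 : 2 * n = q * (q + ε) := by
      rcases hε with rfl | rfl
      · linear_combination r6
      · linear_combination r6
    apply mul_left_cancel₀ hεq'.ne'
    linear_combination h' * r7 - 2 * r5

/-! ### the closure property -/

theorem sum_perp_shift (φ : V → ℤ) (v : V) : ∑ w, (1 - s w v) * φ (v + w) = ∑ w, (1 - s w v) * φ w := by
  rw [← C.sum_shift v (fun w => (1 - s w v) * φ w)]
  refine Finset.sum_congr rfl fun w _ => ?_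
  rw [C.add_left, C.self, one_mul]

theorem add_le_one {x : Ω} {v w : V} (hv : F x v = 0) (hs : s w v = -1) : F x w + F x (v + w) ≤ 1 := by
  rcases C.fval x w with h1 | h1
  · rcases C.fval x (v + w) with h2 | h2 <;> rw [h1, h2] <;> norm_num
  · rcases C.fval x (v + w) with h2 | h2
    · rw [h1, h2]; norm_num
    · exfalso
      have h3 : s w (v + w) = -1 := by rw [C.add, C.self, hs]; norm_num
      have h4 := C.clos x w (v + w) h1 h2 h3
      have h5 : w + (v + w) = v := by rw [add_comm v w, C.add_cancel]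
      rw [h5, hv] at h4
      exact zero_ne_one h4

theorem sum_one_sub {v : V} (hv : v ≠ 0) : ∑ w, (1 - s w v) = q ^ 2 := by
  rw [Finset.sum_sub_distrib, Finset.sum_congr rfl fun w _ => C.symm w v, C.sum_eq hv, sub_zero, Finset.sum_const,
    nsmul_eq_mul, mul_one, Finset.card_univ, C.card]

theorem sum_one_sub_mul (x : Ω) (v : V) : ∑ w, (1 - s w v) * F x w = h - C.θ x v := by
  unfold θ
  rw [← C.Hh x, ← Finset.sum_sub_distrib]
  exact Finset.sum_congr rfl fun w _ => by ring

/-- sum of the defects -/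
theorem sum_defect (x : Ω) {v : V} (hv0 : v ≠ 0) :
    ∑ w, (1 - s w v) * (1 - F x w - F x (v + w)) = q ^ 2 - 2 * (h - C.θ x v) := by
  have h1 : ∀ w, (1 - s w v) * (1 - F x w - F x (v + w)) =
      (1 - s w v) - (1 - s w v) * F x w - (1 - s w v) * F x (v + w) := fun w => by ring
  rw [Finset.sum_congr rfl fun w _ => h1 w, Finset.sum_sub_distrib, Finset.sum_sub_distrib,
    C.sum_perp_shift (fun w => F x w), C.sum_one_sub_mul, C.sum_one_sub hv0]
  ring

theorem defect_nonneg {x : Ω} {v : V} (hv : F x v = 0) (w : V) : 0 ≤ (1 - s w v) * (1 - F x w - F x (v + w)) := by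
  rcases C.val w v with h1 | h1
  · rw [h1]; norm_num
  · have := C.add_le_one (x := x) (w := w) hv h1
    rw [h1]
    linarith

/-- the convolution square -/
theorem conv (x : Ω) {v : V} (hv : v ≠ 0) {ε h' : ℤ} (hε : ε = 1 ∨ ε = -1)
    (key : ∀ x v, v ≠ 0 → C.θ x v = ε * (q * F x v - h')) :
    q ^ 2 * ∑ w, F x w * F x (v + w) = h ^ 2 - h' ^ 2 + (q ^ 2 - 2 * q * h') * C.θ x v := by
  classical
  set c : V → ℤ := fun z => ∑ w, F x w * F x (z + w) with hc
  have h1 : ∀ u, ∑ z, c z * s z u = C.θ x u * C.θ x u := by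
    intro u
    have e1 : ∀ z, c z * s z u = ∑ w, F x w * (F x (z + w) * s z u) := by
      intro z
      rw [hc, Finset.sum_mul]
      exact Finset.sum_congr rfl fun w _ => by ring
    rw [Finset.sum_congr rfl fun z _ => e1 z, Finset.sum_comm]
    have e2 : ∀ w, ∑ z, F x w * (F x (z + w) * s z u) = F x w * s w u * C.θ x u := by
      intro w
      rw [← Finset.mul_sum]
      have e3 : ∑ z, F x (z + w) * s z u = ∑ z, F x z * s (w + z) u := by
        rw [← C.sum_shift w (fun z => F x (z + w) * s z u)]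
        refine Finset.sum_congr rfl fun z _ => ?_
        have : w + z + w = z := by rw [add_comm (w + z) w, C.add_cancel]
        rw [this]
      rw [e3]
      unfold θ
      rw [mul_assoc, Finset.mul_sum (a := s w u)]
      congr 1
      refine Finset.sum_congr rfl fun z _ => ?_
      rw [C.add_left]; ring
    rw [Finset.sum_congr rfl fun w _ => e2 w, ← Finset.sum_mul]
    rfl
  have h2 := C.inversion c v
  rw [Finset.sum_congr rfl fun u _ => by rw [h1 u]] at h2
  have h3 : ∀ u, C.θ x u * C.θ x u * s u v = (q ^ 2 - 2 * q * h') * (F x u * s u v) + h' ^ 2 * s u v +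
      (if u = 0 then h ^ 2 - h' ^ 2 else 0) := by
    intro u
    by_cases hu : u = 0
    · subst hu
      rw [C.θ_zero, C.zero_left, C.fzero, if_pos rfl]; ring
    · rw [key x u hu, if_neg hu]
      have h4 := C.fsq x u
      rcases hε with rfl | rfl
      · linear_combination q ^ 2 * s u v * h4
      · linear_combination q ^ 2 * s u v * h4
  rw [Finset.sum_congr rfl fun u _ => h3 u, Finset.sum_add_distrib, Finset.sum_add_distrib, ← Finset.mul_sum,
    ← Finset.mul_sum, Finset.sum_ite_eq' Finset.univ (0 : V)] at h2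
  have h6 : ∑ w, s w v = 0 := by
    rw [Finset.sum_congr rfl fun w _ => C.symm w v]
    exact C.sum_eq hv
  rw [h6] at h2
  simp only [Finset.mem_univ, if_true] at h2
  rw [← h2]
  unfold θ
  ring

/-- **the parameters are the standard ones** -/
theorem params_std {x₀ : Ω} {v₁ v₂ : V} (hv₁ : F x₀ v₁ = 1) (hv₂ : v₂ ≠ 0) (hv₂' : F x₀ v₂ = 0)
    (hn : (Fintype.card Ω : ℤ) ≠ q ^ 2 - 1) {r : ℤ} (hr : q = 2 * r) (hr4 : 4 ≤ r) (hr5 : r ≠ 5) :
    ∃ ε : ℤ, (ε = 1 ∨ ε = -1) ∧ (∀ x v, v ≠ 0 → C.θ x v = ε * r * (2 * F x v - 1)) ∧ h = r * (q - ε) := by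
  have hq : 2 < q := by linarith
  obtain ⟨ε, h', hε, hpos, key, hhh, h2f, hB⟩ := C.params hv₁ hv₂ hv₂' hn hq
  have hv1 : v₁ ≠ 0 := by
    rintro rfl
    rw [C.fzero] at hv₁
    exact zero_ne_one hv₁
  have hle : 2 * h' ≤ q := by
    have h1 := C.sum_defect x₀ hv₂
    have h2 : 0 ≤ ∑ w, (1 - s w v₂) * (1 - F x₀ w - F x₀ (v₂ + w)) :=
      Finset.sum_nonneg fun w _ => C.defect_nonneg hv₂' w
    rw [h1, key _ _ hv₂, hv₂', hhh] at h2
    have h3 : 0 ≤ q * (q - 2 * h') := by
      rcases hε with rfl | rfl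
      · linarith
      · linarith
    have h4 : 0 ≤ q - 2 * h' := by
      by_contra hcon
      push Not at hcon
      have := mul_neg_of_pos_of_neg (by linarith : (0 : ℤ) < q) hcon
      linarith
    linarith
  have hge : 0 ≤ (2 * h' - q) * (h' - 3 * ε) := by
    have h1 := C.conv x₀ hv1 hε key
    set c : ℤ := ∑ w, F x₀ w * F x₀ (v₁ + w) with hc
    have h2 : h - C.θ x₀ v₁ ≤ 2 * c := by
      rw [← C.sum_one_sub_mul, hc, Finset.mul_sum]
      refine Finset.sum_le_sum fun w _ => ?_
      rcases C.val w v₁ with h3 | h3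
      · rw [h3]
        rcases C.fval x₀ w with h4 | h4 <;> rcases C.fval x₀ (v₁ + w) with h5 | h5 <;> rw [h4, h5] <;> norm_num
      · rw [h3]
        rcases C.fval x₀ w with h4 | h4
        · rw [h4]; norm_num
        · have h5 := C.clos x₀ v₁ w hv₁ h4 (by rw [C.symm, h3])
          rw [h4, h5]; norm_num
    rw [key _ _ hv1, hv₁, hhh] at h1 h2
    have h3 : q * q * c = q * q * (h' ^ 2 - 3 * ε * h' + ε * q) := by
      rcases hε with rfl | rfl
      · linear_combination h1
      · linear_combination h1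
    have h4 : c = h' ^ 2 - 3 * ε * h' + ε * q :=
      mul_left_cancel₀ (mul_ne_zero (by linarith) (by linarith)) h3
    rw [h4] at h2
    rcases hε with rfl | rfl
    · nlinarith
    · nlinarith
  have hh' : 2 * h' = q := by
    by_contra hne
    have hlt : 2 * h' < q := lt_of_le_of_ne hle hne
    have h1 : h' - 3 * ε ≤ 0 := by
      by_contra hcon
      push Not at hcon
      have := mul_neg_of_neg_of_pos (by linarith : 2 * h' - q < 0) hcon
      linarith
    rcases hε with rfl | rfl
    · -- `h' ∈ {1, 2, 3}`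
      subst hr
      have h2 : 2 * f1 * (r + 1) = r * (h' * (h' + 1)) := by
        have : 2 * (2 * f1 * (r + 1)) = 2 * (r * (h' * (h' + 1))) := by
          linear_combination 2 * hB + (1 + h') * h2f
        exact mul_left_cancel₀ two_ne_zero this
      have h3 : (r + 1) * (h' * (h' + 1) - 2 * f1) = h' * (h' + 1) := by linear_combination -h2
      have h4 : h' = 1 ∨ h' = 2 ∨ h' = 3 := by omega
      rcases h4 with rfl | rfl | rfl
      · have h5 : (r + 1) * (1 - f1) = 1 := by linarith
        have h6 : (r + 1) ∣ 1 := ⟨_, h5.symm⟩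
        have := Int.le_of_dvd (by norm_num) h6
        linarith
      · have h5 : (r + 1) * (3 - f1) = 3 := by linarith
        have h6 : (r + 1) ∣ 3 := ⟨_, h5.symm⟩
        have := Int.le_of_dvd (by norm_num) h6
        linarith
      · have h5 : (r + 1) * (6 - f1) = 6 := by linarith
        have h6 : (r + 1) ∣ 6 := ⟨_, h5.symm⟩
        have h7 := Int.le_of_dvd (by norm_num) h6
        have h8 : r = 4 := by omega
        rw [h8] at h6
        norm_num at h6
    · linarith
  have hh'r : h' = r := by linarith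
  subst hh'r
  refine ⟨ε, hε, fun x v hv => ?_, hhh⟩
  rw [key x v hv, ← hh']
  ring

/-! ### the functions are quadratic -/

section Quad

variable {ε r : ℤ} (hε : ε = 1 ∨ ε = -1) (hr : q = 2 * r) (hr4 : 4 ≤ r)
  (key : ∀ x v, v ≠ 0 → C.θ x v = ε * r * (2 * F x v - 1)) (hh : h = r * (q - ε))

include hε hr hr4 key hh

theorem add_eq_one {x : Ω} {v w : V} (hv0 : v ≠ 0) (hv : F x v = 0) (hs : s w v = -1) :
    F x w + F x (v + w) = 1 := by
  have h1 := C.sum_defect x hv0
  have h2 : q ^ 2 - 2 * (h - C.θ x v) = 0 := by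
    rw [key x v hv0, hv, hh, hr]; ring
  rw [h2] at h1
  have h3 := (Finset.sum_eq_zero_iff_of_nonneg fun w _ => C.defect_nonneg hv w).1 h1 w (Finset.mem_univ w)
  rw [hs] at h3
  linarith

/-- hyperbolic pairs -/
theorem quad_neg (x : Ω) {v w : V} (hs : s v w = -1) :
    1 - 2 * F x (v + w) = -((1 - 2 * F x v) * (1 - 2 * F x w)) := by
  have hv0 : v ≠ 0 := by
    rintro rfl
    rw [C.zero_left] at hs
    norm_num at hs
  have hw0 : w ≠ 0 := by
    rintro rfl
    rw [C.zero_right] at hs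
    norm_num at hs
  have hs' : s w v = -1 := by rw [C.symm]; exact hs
  rcases C.fval x v with h1 | h1
  · have h2 := C.add_eq_one hε hr hr4 key hh hv0 h1 hs'
    rw [h1]; linear_combination -2 * h2
  · rcases C.fval x w with h2 | h2
    · have h3 := C.add_eq_one hε hr hr4 key hh hw0 h2 hs
      rw [add_comm w v, h1] at h3
      rw [h1, h2]; linear_combination -2 * h3
    · rw [C.clos x v w h1 h2 hs, h1, h2]; norm_num

theorem gsq (x : Ω) (v : V) : (1 - 2 * F x v) * (1 - 2 * F x v) = 1 := by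
  rcases C.fval x v with h1 | h1 <;> rw [h1] <;> norm_num

/-- the defect is constant -/
theorem e_const_aux (x : Ω) {v w u : V} (hw : s v w = 1) (hu : s v u = 1) (hwu : s w u = -1) :
    (1 - 2 * F x (v + w)) * (1 - 2 * F x w) = (1 - 2 * F x (v + u)) * (1 - 2 * F x u) := by
  have h1 := C.quad_neg hε hr hr4 key hh x (v := v + w) (w := u) (by rw [C.add_left, hu, hwu]; norm_num)
  have h2 := C.quad_neg hε hr hr4 key hh x (v := v + u) (w := w) (by rw [C.add_left, hw, C.symm, hwu]; norm_num)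
  have h3 : v + w + u = v + u + w := by abel
  rw [h3] at h1
  have h4 : (1 - 2 * F x (v + w)) * (1 - 2 * F x u) = (1 - 2 * F x (v + u)) * (1 - 2 * F x w) := by linarith
  have h5 := C.gsq hε hr hr4 key hh x w
  have h6 := C.gsq hε hr hr4 key hh x u
  calc (1 - 2 * F x (v + w)) * (1 - 2 * F x w)
      = ((1 - 2 * F x (v + w)) * (1 - 2 * F x u)) * (1 - 2 * F x u) * (1 - 2 * F x w) := by
        linear_combination -(1 - 2 * F x (v + w)) * (1 - 2 * F x w) * h6
    _ = ((1 - 2 * F x (v + u)) * (1 - 2 * F x w)) * (1 - 2 * F x u) * (1 - 2 * F x w) := by rw [h4]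
    _ = _ := by linear_combination (1 - 2 * F x (v + u)) * (1 - 2 * F x u) * h5

theorem e_const (x : Ω) {v w w' : V} (hv : v ≠ 0) (hw : w ≠ 0) (hw' : w' ≠ 0) (hvw : v ≠ w) (hvw' : v ≠ w')
    (h1 : s v w = 1) (h2 : s v w' = 1) :
    (1 - 2 * F x (v + w)) * (1 - 2 * F x w) = (1 - 2 * F x (v + w')) * (1 - 2 * F x w') := by
  obtain ⟨u, hu1, hu2, hu3⟩ := C.exists_mid (by linarith) hv hw hw' hvw hvw'
  rw [C.e_const_aux hε hr hr4 key hh x h1 hu1 hu2, C.e_const_aux hε hr hr4 key hh x h2 hu1 hu3]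

theorem sum_perp_g (x : Ω) {v : V} (hv : v ≠ 0) :
    ∑ w, (1 + s w v) * (1 - 2 * F x w) = q ^ 2 - 2 * h - 2 * C.θ x v := by
  have h1 : ∀ w, (1 + s w v) * (1 - 2 * F x w) = 1 + s v w - 2 * F x w - 2 * (F x w * s w v) := by
    intro w
    rw [C.symm v w]; ring
  rw [Finset.sum_congr rfl fun w _ => h1 w]
  simp only [Finset.sum_add_distrib, Finset.sum_sub_distrib, ← Finset.mul_sum]
  rw [C.sum_eq hv, C.Hh, Finset.sum_const, nsmul_eq_mul, mul_one, Finset.card_univ, C.card]
  unfold θ
  ring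

/-- perpendicular pairs, first case -/
theorem quad_pos_aux (x : Ω) {v w : V} (hv : v ≠ 0) (hFv : F x v = 0) (hw : w ≠ 0) (hvw : v ≠ w)
    (hs : s v w = 1) : (1 - 2 * F x (v + w)) * (1 - 2 * F x w) = 1 := by
  classical
  by_contra hne
  -- the defect is `-1`
  have hm1 : (1 - 2 * F x (v + w)) * (1 - 2 * F x w) = -1 := by
    rcases C.fval x (v + w) with h1 | h1 <;> rcases C.fval x w with h2 | h2 <;> rw [h1, h2] at hne ⊢ <;>
      first | norm_num; done | (exact absurd (by norm_num) hne)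
  have h1 : ∀ u, (1 + s u v) * ((1 - 2 * F x u) + (1 - 2 * F x (v + u))) =
      (if u = 0 then 4 else 0) + (if u = v then 4 else 0) := by
    intro u
    by_cases hu0 : u = 0
    · subst hu0
      rw [if_pos rfl, if_neg (Ne.symm hv), C.zero_left, C.fzero, add_zero, hFv]; norm_num
    · by_cases huv : u = v
      · subst huv
        rw [if_neg hu0, if_pos rfl, C.self, C.two, C.fzero, hFv]; norm_num
      · rw [if_neg hu0, if_neg huv]
        rcases C.val u v with h2 | h2
        · have h3 := C.e_const hε hr hr4 key hh x hv hu0 hw (Ne.symm huv) hvw (by rw [C.symm]; exact h2) hs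
          rw [hm1] at h3
          have h4 : (1 - 2 * F x u) + (1 - 2 * F x (v + u)) = 0 := by
            rcases C.fval x (v + u) with h5 | h5 <;> rcases C.fval x u with h6 | h6 <;> rw [h5, h6] at h3 ⊢ <;>
              first | norm_num; done | (norm_num at h3; done)
          rw [h4, mul_zero, add_zero]
        · rw [h2]; ring
  have h2 : ∑ u, (1 + s u v) * ((1 - 2 * F x u) + (1 - 2 * F x (v + u))) = 8 := by
    rw [Finset.sum_congr rfl fun u _ => h1 u, Finset.sum_add_distrib, Finset.sum_ite_eq' Finset.univ (0 : V),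
      Finset.sum_ite_eq' Finset.univ v]
    simp
  have h3 : ∑ u, (1 + s u v) * (1 - 2 * F x (v + u)) = ∑ u, (1 + s u v) * (1 - 2 * F x u) := by
    rw [← C.sum_shift v (fun u => (1 + s u v) * (1 - 2 * F x u))]
    refine Finset.sum_congr rfl fun u _ => ?_
    rw [C.add_left, C.self, one_mul]
  have h4 := C.sum_perp_g hε hr hr4 key hh x hv
  simp only [mul_add, Finset.sum_add_distrib] at h2
  rw [h3, h4, key x v hv, hFv, hh, hr] at h2
  rcases hε with rfl | rfl
  · have : 8 * r = 8 := by linear_combination h2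
    linarith
  · have : 8 * r = -8 := by linear_combination -h2
    linarith

/-- perpendicular pairs -/
theorem quad_pos (x : Ω) {v w : V} (hv : v ≠ 0) (hw : w ≠ 0) (hvw : v ≠ w) (hs : s v w = 1) :
    1 - 2 * F x (v + w) = (1 - 2 * F x v) * (1 - 2 * F x w) := by
  classical
  have hg := C.gsq hε hr hr4 key hh x w
  rcases C.fval x v with hFv | hFv
  · have h1 := C.quad_pos_aux hε hr hr4 key hh x hv hFv hw hvw hs
    rw [hFv]
    linear_combination (1 - 2 * F x w) * h1 - (1 - 2 * F x (v + w)) * hg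
  · -- a point `w₁` perpendicular to `v` with `F w₁ = 0`
    obtain ⟨w₁, hw₁, hvw₁, hs₁, hF₁⟩ : ∃ w₁, w₁ ≠ 0 ∧ v ≠ w₁ ∧ s v w₁ = 1 ∧ F x w₁ = 0 := by
      by_contra hcon
      push Not at hcon
      have h1 : ∀ u, (1 + s u v) * ((1 - 2 * F x u) + 1) = (if u = 0 then 4 else 0) := by
        intro u
        by_cases hu0 : u = 0
        · subst hu0
          rw [if_pos rfl, C.zero_left, C.fzero]; norm_num
        · rw [if_neg hu0]
          rcases C.val u v with h2 | h2
          · have h3 : F x u = 1 := by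
              by_cases huv : v = u
              · rw [← huv, hFv]
              · exact (C.fval x u).resolve_left (hcon u hu0 huv (by rw [C.symm]; exact h2))
            rw [h3]; ring
          · rw [h2]; ring
      have h2 : ∑ u, (1 + s u v) * ((1 - 2 * F x u) + 1) = 4 := by
        rw [Finset.sum_congr rfl fun u _ => h1 u, Finset.sum_ite_eq' Finset.univ (0 : V)]
        simp
      have h4 := C.sum_perp_g hε hr hr4 key hh x hv
      have h5 : ∑ u, (1 + s u v) = q ^ 2 := by
        rw [Finset.sum_add_distrib, Finset.sum_congr rfl fun u _ => C.symm u v, C.sum_eq hv, add_zero,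
          Finset.sum_const, nsmul_eq_mul, mul_one, Finset.card_univ, C.card]
      simp only [mul_add, mul_one, Finset.sum_add_distrib] at h2 h5
      rw [h4, key x v hv, hFv, hh, hr] at h2
      rw [hr] at h5
      have h6 : 4 * (r * r) = 4 := by linear_combination h2 - h5
      nlinarith
    have h1 := C.e_const hε hr hr4 key hh x hv hw hw₁ hvw hvw₁ hs hs₁
    have h2 := C.quad_pos_aux hε hr hr4 key hh x hw₁ hF₁ hv (Ne.symm hvw₁) (by rw [C.symm]; exact hs₁)
    rw [add_comm w₁ v, hFv] at h2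
    rw [hF₁] at h1
    rw [hFv]
    have h3 : 1 - 2 * F x (v + w₁) = -1 := by linarith
    rw [h3] at h1
    linear_combination (1 - 2 * F x w) * h1 - (1 - 2 * F x (v + w)) * hg

theorem quad (x : Ω) (v w : V) : 1 - 2 * F x (v + w) = (1 - 2 * F x v) * (1 - 2 * F x w) * s v w := by
  by_cases hv : v = 0
  · subst hv
    rw [zero_add, C.fzero, C.zero_left]; ring
  by_cases hw : w = 0
  · subst hw
    rw [add_zero, C.fzero, C.zero_right]; ring
  by_cases hvw : v = w
  · subst hvw
    rw [C.two, C.fzero, C.self, C.gsq hε hr hr4 key hh]; ring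
  rcases C.val v w with hs | hs
  · rw [hs, mul_one]
    exact C.quad_pos hε hr hr4 key hh x hv hw hvw hs
  · rw [hs, mul_neg_one]
    exact C.quad_neg hε hr hr4 key hh x hs

end Quad

/-- **Main theorem.** -/
theorem main {x₀ : Ω} {v₁ v₂ : V} (hv₁ : F x₀ v₁ = 1) (hv₂ : v₂ ≠ 0) (hv₂' : F x₀ v₂ = 0)
    (hn : (Fintype.card Ω : ℤ) ≠ q ^ 2 - 1) {r : ℤ} (hr : q = 2 * r) (hr4 : 4 ≤ r) (hr5 : r ≠ 5) :
    (∀ x v w, 1 - 2 * F x (v + w) = (1 - 2 * F x v) * (1 - 2 * F x w) * s v w) ∧
      ∀ x y, (∀ v, F x v = F y v) → x = y := by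
  obtain ⟨ε, hε, key, hh⟩ := C.params_std hv₁ hv₂ hv₂' hn hr hr4 hr5
  refine ⟨C.quad hε hr hr4 key hh, fun x y hxy => ?_⟩
  by_contra hne
  have h1 := C.Hl x y hne
  have h2 : ∀ v, F x v * F y v = F x v := fun v => by rw [← hxy v, C.fsq]
  rw [Finset.sum_congr rfl fun v _ => h2 v, C.Hh] at h1
  exact C.h_ne_l hv₁ hv₂ hv₂' h1

end Cfg

end Cfsg.Agent.H249.SpComb
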