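import Cfsg.Agent.H249.SpComb
import Cfsg.Agent.H384.TwoTransRed
import Cfsg.Agent.H392.LongRoot
import Cfsg.Agent.ClassicalGeometry.SympAutOddA
import Cfsg.Agent.ClassicalGeometry.SympAutExists

/-!
# HUB H1, phase 2: the 2-transitive actions with socle `Sp_2m(2)`, `m ≥ 3` (helper249)

`main`, `main'` : the points are quadratic forms polarising to the symplectic form, with the natural action.
-/

set_option autoImplicit false
set_option linter.unusedSectionVars false
set_option linter.unusedTactic false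

open Cfsg
open scoped Matrix

namespace Cfsg.Agent.H249.SpTwo

open Cfsg.Agent.ClassicalGeometry.SympBasic
open Cfsg.Agent.ClassicalGeometry.SympSiegel
open Cfsg.Agent.ClassicalGeometry.SympAutExists
open Cfsg.Agent.H384.TwoTrans
open Cfsg.Agent.H249.SpComb
open MulAction

universe u v w

section F2

variable {F : Type w} [Field F] [Fintype F] {m : ℕ}

local notation "V" => (Fin m ⊕ Fin m → F)
local notation "Sp" => Matrix.symplecticGroup (Fin m) F
local notation "f" => sympForm m F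

theorem F_cases (hF : Fintype.card F = 2) (a : F) : a = 0 ∨ a = 1 := by
  classical
  by_contra hcon
  push Not at hcon
  have h1 : ({0, 1, a} : Finset F).card = 3 := by
    rw [Finset.card_insert_of_notMem, Finset.card_insert_of_notMem, Finset.card_singleton]
    · rw [Finset.mem_singleton]; exact hcon.2.symm
    · rw [Finset.mem_insert, Finset.mem_singleton, not_or]
      exact ⟨zero_ne_one, hcon.1.symm⟩
  have h2 := Finset.card_le_univ ({0, 1, a} : Finset F)
  omega

theorem F_two (hF : Fintype.card F = 2) : (1 : F) + 1 = 0 := by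
  rcases F_cases hF ((1 : F) + 1) with h | h
  · exact h
  · exact absurd (add_eq_left.1 h) one_ne_zero

theorem F_add_self (hF : Fintype.card F = 2) (a : F) : a + a = 0 := by
  rcases F_cases hF a with h | h
  · rw [h, add_zero]
  · rw [h, F_two hF]

theorem F_neg (hF : Fintype.card F = 2) (a : F) : -a = a :=
  neg_eq_of_add_eq_zero_left (F_add_self hF a)

theorem V_add_self (hF : Fintype.card F = 2) (v : V) : v + v = 0 := by
  funext i
  exact F_add_self hF (v i)

theorem f_symm (hF : Fintype.card F = 2) (u v : V) : f u v = f v u := by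
  rw [sympForm_swap, F_neg hF]

open Classical in
/-- the sign of `f u v` -/
noncomputable def sg (m : ℕ) (F : Type w) [Field F] (u v : Fin m ⊕ Fin m → F) : ℤ :=
  if sympForm m F u v = 0 then 1 else -1

theorem sg_pos {u v : V} (h : f u v = 0) : sg m F u v = 1 := if_pos h

theorem sg_neg {u v : V} (h : f u v ≠ 0) : sg m F u v = -1 := if_neg h

theorem sg_eq_one {u v : V} : sg m F u v = 1 ↔ f u v = 0 := by
  by_cases h : f u v = 0
  · simp [sg_pos h, h]
  · simp [sg_neg h, h]

theorem sg_eq_neg {u v : V} : sg m F u v = -1 ↔ f u v ≠ 0 := by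
  by_cases h : f u v = 0
  · simp [sg_pos h, h]
  · simp [sg_neg h, h]

theorem f_eq_one (hF : Fintype.card F = 2) {u v : V} (h : f u v ≠ 0) : f u v = 1 :=
  (F_cases hF _).resolve_left h

theorem isSg (hF : Fintype.card F = 2) : Sg (sg m F) ((2 : ℤ) ^ m) where
  two := V_add_self hF
  val u v := by
    by_cases h : f u v = 0
    · exact Or.inl (sg_pos h)
    · exact Or.inr (sg_neg h)
  add u v w := by
    by_cases h1 : f u v = 0
    · by_cases h2 : f u w = 0
      · rw [sg_pos h1, sg_pos h2, sg_pos (by rw [sympForm_add_right, h1, h2, add_zero])]; norm_num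
      · rw [sg_pos h1, sg_neg h2, sg_neg (by rw [sympForm_add_right, h1, zero_add]; exact h2)]; norm_num
    · by_cases h2 : f u w = 0
      · rw [sg_neg h1, sg_pos h2, sg_neg (by rw [sympForm_add_right, h2, add_zero]; exact h1)]; norm_num
      · rw [sg_neg h1, sg_neg h2, sg_pos (by
          rw [sympForm_add_right, f_eq_one hF h1, f_eq_one hF h2, F_two hF])]; norm_num
  symm u v := by
    unfold sg
    rw [f_symm hF]
  self v := sg_pos (sympForm_self v)
  nondeg v hv := by
    by_contra hcon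
    push Not at hcon
    apply hv
    apply eq_zero_of_forall_sympForm_right
    intro w
    by_contra h
    exact hcon w (sg_neg h)
  card := by
    rw [Fintype.card_fun, Fintype.card_sum, Fintype.card_fin, hF]
    push_cast
    rw [← pow_mul, mul_two]

/-- the symplectic group is transitive on the pairs of distinct orthogonal vectors -/
theorem exists_perp_pair (hF : Fintype.card F = 2) {u v u' v' : V} (hu : u ≠ 0) (hv : v ≠ 0) (huv : u ≠ v)
    (h : f u v = 0) (hu' : u' ≠ 0) (hv' : v' ≠ 0) (huv' : u' ≠ v') (h' : f u' v' = 0) :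
    ∃ s : Sp, s • u = u' ∧ s • v = v' := by
  obtain ⟨s, -, hs⟩ := exists_transvGroup_mulVec_eq hu hu'
  replace hs : s • u = u' := hs
  -- inside the orthogonal space of `u'`
  have step : ∀ {x y z : V}, f x y = 0 → f x z = 0 → f y z ≠ 0 → ∃ t : Sp, t • x = x ∧ t • y = z := by
    intro x y z hxy hxz hyz
    refine ⟨transv (y + z) 1, ?_, ?_⟩
    · rw [transv_smul, sympForm_add_right, hxy, hxz, add_zero, mul_zero, zero_smul, add_zero]
    · rw [transv_smul, sympForm_add_right, sympForm_self, zero_add, one_mul, f_eq_one hF hyz, one_smul,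
        ← add_assoc, V_add_self hF, zero_add]
  have hsv : s • v ≠ 0 := smul_ne_zero' s hv
  have h1 : f u' (s • v) = 0 := by rw [← hs, form_smul, h]
  have hne : u' ≠ s • v := by
    intro e
    apply huv
    rw [← hs] at e
    exact smul_left_cancel s e
  obtain ⟨y, hy1, hy2, hy3⟩ := (isSg (m := m) hF).exists_mid (by positivity) hu' hsv hv' hne huv'
  rw [sg_eq_one] at hy1
  rw [sg_eq_neg] at hy2 hy3
  obtain ⟨t₁, ht₁, ht₁'⟩ := step h1 hy1 hy2
  obtain ⟨t₂, ht₂, ht₂'⟩ := step hy1 h' (by rwa [f_symm hF])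
  refine ⟨t₂ * t₁ * s, ?_, ?_⟩
  · rw [mul_smul, mul_smul, hs, ht₁, ht₂]
  · rw [mul_smul, mul_smul, ht₁', ht₂']

/-- transvections are distinct modulo the centre -/
theorem eq_of_transv (hF : Fintype.card F = 2) {v w : V} (hv : v ≠ 0) (hw : w ≠ 0)
    (h : transv v (1 : F) = transv w 1) : v = w := by
  obtain ⟨a, ha⟩ := transv_eq_transv hv one_ne_zero h
  rcases F_cases hF a with h1 | h1
  · rw [h1, zero_smul] at ha; exact absurd ha hw
  · rw [h1, one_smul] at ha; exact ha.symm

theorem pr_injective (hF : Fintype.card F = 2) (hm : 1 ≤ m) : Function.Injective (pr (F := F) (m := m)) := by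
  intro g h hgh
  obtain ⟨a, ha⟩ := smul_of_mem_center (pr_eq_iff.1 hgh)
  have h1 := sq_eq_one_of_center hm ha
  have h2 : a = 1 := by
    rcases F_cases hF a with h3 | h3
    · rw [h3, mul_zero] at h1; exact absurd h1 zero_ne_one
    · exact h3
  have h3 : g⁻¹ * h = 1 := by
    apply ext_smul
    intro v
    rw [ha, h2, one_smul, one_smul]
  exact (inv_mul_eq_one.1 h3)

end F2

section main

variable {G : Type u} {Ω : Type v} [Group G] [MulAction G Ω] {T : Subgroup G}
variable {F : Type w} [Field F] [Fintype F] {m : ℕ} (e : ↥T ≃* PSp m F)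

local notation "V" => (Fin m ⊕ Fin m → F)
local notation "Sp" => Matrix.symplecticGroup (Fin m) F
local notation "f" => sympForm m F

/-- the symplectic group inside `G` -/
def tau : Sp →* G := T.subtype.comp (e.symm.toMonoidHom.comp (QuotientGroup.mk' _))

theorem tau_apply (s : Sp) : tau e s = ((e.symm (pr s) : T) : G) := rfl

theorem tau_mem (s : Sp) : tau e s ∈ T := (e.symm (pr s)).2

/-- the transvection -/
def tr (v : V) : G := tau e (transv v 1)

theorem tau_conj (s : Sp) (v : V) : tau e s * tr e v * (tau e s)⁻¹ = tr e (s • v) := by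
  unfold tr
  rw [← map_mul, ← map_inv, ← map_mul, conj_transv]

theorem tau_injective (hF : Fintype.card F = 2) (hm : 1 ≤ m) : Function.Injective (tau e) := by
  intro s t h
  apply pr_injective hF hm
  apply e.symm.injective
  exact Subtype.ext h

theorem exists_tau (g : G) (hg : g ∈ T) : ∃ s : Sp, tau e s = g := by
  obtain ⟨s, hs⟩ := pr_surj (e ⟨g, hg⟩)
  refine ⟨s, ?_⟩
  rw [tau_apply, hs, e.symm_apply_apply]

theorem tr_injective (hF : Fintype.card F = 2) (hm : 1 ≤ m) {v w : V} (hv : v ≠ 0) (hw : w ≠ 0)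
    (h : tr e v = tr e w) : v = w :=
  eq_of_transv hF hv hw (tau_injective e hF hm h)

theorem tr_ne_one (hF : Fintype.card F = 2) (hm : 1 ≤ m) {v : V} (hv : v ≠ 0) : tr e v ≠ 1 := by
  intro h
  have h1 : tau e (transv v 1) = tau e 1 := by rw [map_one]; exact h
  exact transv_ne_one hv one_ne_zero (tau_injective e hF hm h1)

/-- elements of `G` permute the transvections -/
theorem exists_conj [T.Normal] (hF : Fintype.card F = 2) (hm : 3 ≤ m) (g : G) :
    ∀ v : V, v ≠ 0 → ∃ w : V, w ≠ 0 ∧ g * tr e v * g⁻¹ = tr e w := by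
  intro v hv
  let α : MulAut (PSp m F) := (e.symm.trans (MulAut.conjNormal (H := T) g)).trans e
  obtain ⟨w, hw, c, hc, h⟩ := Cfsg.Agent.ClassicalGeometry.SympAutOddA.recog (F := F) (m := m) (by omega)
    (Or.inl hm) α v hv 1 one_ne_zero
  have hc1 : c = 1 := (F_cases hF c).resolve_left hc
  subst hc1
  refine ⟨w, hw, ?_⟩
  have h1 : e (MulAut.conjNormal (H := T) g (e.symm (pr (transv v 1)))) = pr (transv w 1) := h
  have h2 : MulAut.conjNormal (H := T) g (e.symm (pr (transv v 1))) = e.symm (pr (transv w 1)) := by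
    rw [← h1, e.symm_apply_apply]
  have h3 := congrArg (Subtype.val) h2
  rw [MulAut.conjNormal_apply] at h3
  exact h3

open Classical in
/-- the indicator function of the fixed points of the transvections -/
noncomputable def Fx (x : Ω) (v : V) : ℤ := if v = 0 then 0 else if tr e v • x = x then 1 else 0

theorem Fx_zero (x : Ω) : Fx e x 0 = 0 := if_pos rfl

theorem Fx_eq_one {x : Ω} {v : V} : Fx e x v = 1 ↔ v ≠ 0 ∧ tr e v • x = x := by
  unfold Fx
  split_ifs with h1 h2 <;> simp_all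

theorem Fx_val (x : Ω) (v : V) : Fx e x v = 0 ∨ Fx e x v = 1 := by
  unfold Fx
  split_ifs <;> simp

theorem Fx_ext {x y : Ω} {v w : V} (h : (v ≠ 0 ∧ tr e v • x = x) ↔ (w ≠ 0 ∧ tr e w • y = y)) :
    Fx e x v = Fx e y w := by
  rcases Fx_val e x v with h1 | h1 <;> rcases Fx_val e y w with h2 | h2
  · rw [h1, h2]
  · rw [Fx_eq_one] at h2
    rw [← h, ← Fx_eq_one] at h2
    rw [h1] at h2
    exact absurd h2 zero_ne_one
  · rw [Fx_eq_one] at h1
    rw [h, ← Fx_eq_one] at h1
    rw [h2] at h1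
    exact absurd h1 zero_ne_one
  · rw [h1, h2]

theorem Fx_tau (s : Sp) (x : Ω) (v : V) : Fx e (tau e s • x) (s • v) = Fx e x v := by
  apply Fx_ext
  rw [← tau_conj, ← mul_smul, inv_mul_cancel_right, mul_smul, smul_left_cancel_iff, ne_eq, smul_eq_zero_iff']

/-- an element of `G` acts through a permutation of `V` -/
theorem exists_sigma [T.Normal] (hF : Fintype.card F = 2) (hm : 3 ≤ m) (g : G) :
    ∃ σ : Equiv.Perm V, ∀ (x : Ω) (v : V), Fx e (g • x) (σ v) = Fx e x v := by
  classical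
  choose! σ hσ hg using exists_conj e hF hm g
  let σ' : V → V := fun v => if v = 0 then 0 else σ v
  have h0 : σ' 0 = 0 := if_pos rfl
  have h1 : ∀ {v : V}, v ≠ 0 → σ' v = σ v := fun h => if_neg h
  have hne : ∀ v : V, σ' v = 0 ↔ v = 0 := by
    intro v
    constructor
    · intro h
      by_contra hv
      rw [h1 hv] at h
      exact hσ v hv h
    · rintro rfl; exact h0
  have hinj : Function.Injective σ' := by
    intro v w h
    by_cases hv : v = 0
    · rw [(hne v).2 hv] at h
      rw [hv, (hne w).1 h.symm]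
    · by_cases hw : w = 0
      · rw [(hne w).2 hw] at h
        exact absurd ((hne v).1 h) hv
      · rw [h1 hv, h1 hw] at h
        apply tr_injective e hF (by omega) hv hw
        have h2 := hg v hv
        rw [h, ← hg w hw, mul_left_inj, mul_right_inj] at h2
        exact h2
  have hbij : Function.Bijective σ' := (Finite.injective_iff_bijective).1 hinj
  refine ⟨Equiv.ofBijective σ' hbij, fun x v => ?_⟩
  rw [Equiv.ofBijective_apply]
  apply Fx_ext
  by_cases hv : v = 0
  · simp [hv, h0]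
  · rw [h1 hv, ← hg v hv, ← mul_smul, inv_mul_cancel_right, mul_smul, smul_left_cancel_iff]
    simp [hv, hσ v hv]

variable (A : AS G Ω T)

include A in
/-- **The configuration.** -/
theorem exists_cfg [Fintype Ω] (hF : Fintype.card F = 2) (hm : 3 ≤ m) :
    ∃ h l f' f1 f2 : ℤ, Cfg (sg m F) ((2 : ℤ) ^ m) (Fx (Ω := Ω) e) h l f' f1 f2 := by
  have := A.normal
  have := A.transitive
  have := A.nontrivialΩ
  obtain ⟨x₀, y₀, hxy⟩ := exists_pair_ne Ω
  obtain ⟨a, b, hab⟩ := exists_hyperbolic (F := F) (m := m) (by omega)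
  have ha : a ≠ 0 := ne_zero_of_form_left (by rw [hab]; exact one_ne_zero)
  have hb : b ≠ 0 := ne_zero_of_form_right (by rw [hab]; exact one_ne_zero)
  have hS := isSg (m := m) hF
  -- an orthogonal pair
  obtain ⟨c, d, hc, hd, hcd, hcd'⟩ : ∃ c d : V, c ≠ 0 ∧ d ≠ 0 ∧ c ≠ d ∧ f c d = 0 := by
    by_contra hcon
    push Not at hcon
    have h1 : ∑ w, sg m F a w = 0 := hS.sum_eq ha
    have h2 : ∀ w : V, w ≠ 0 → w ≠ a → sg m F a w = -1 := fun w hw hwa => sg_neg (hcon a w ha hw hwa.symm)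
    have h3 : ∑ w : V, (sg m F a w + 1) ≤ 4 := by
      classical
      have h4 : ∑ w : V, (sg m F a w + 1) = ∑ w ∈ ({0, a} : Finset V), (sg m F a w + 1) := by
        symm
        apply Finset.sum_subset (Finset.subset_univ _)
        intro w _ hw
        rw [Finset.mem_insert, Finset.mem_singleton, not_or] at hw
        rw [h2 w hw.1 hw.2]; norm_num
      rw [h4]
      calc ∑ w ∈ ({0, a} : Finset V), (sg m F a w + 1) ≤ ∑ w ∈ ({0, a} : Finset V), 2 := by
            apply Finset.sum_le_sum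
            intro w _
            rcases hS.val a w with h | h <;> rw [h] <;> norm_num
        _ = ({0, a} : Finset V).card * 2 := by rw [Finset.sum_const, nsmul_eq_mul]
        _ ≤ 4 := by
            have : ({0, a} : Finset V).card ≤ 2 := Finset.card_le_two
            have : (({0, a} : Finset V).card : ℤ) ≤ 2 := by exact_mod_cast this
            linarith
    rw [Finset.sum_add_distrib, h1, zero_add, Finset.sum_const, nsmul_eq_mul, mul_one, Finset.card_univ,
      hS.card] at h3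
    have h5 : (2:ℤ) ^ 3 ≤ 2 ^ m := pow_le_pow_right₀ (by norm_num) hm
    nlinarith
  refine ⟨∑ v, Fx e x₀ v, ∑ v, Fx e x₀ v * Fx e y₀ v, ∑ x, Fx (Ω := Ω) e x a, ∑ x, Fx (Ω := Ω) e x c * Fx e x d,
    ∑ x, Fx (Ω := Ω) e x a * Fx e x b, ?_⟩
  refine { toSg := hS, fval := Fx_val e, fzero := Fx_zero e, Hh := ?_, Hl := ?_, Hf := ?_, H1 := ?_, H2 := ?_,
           clos := ?_ }
  · intro x
    obtain ⟨t, ht⟩ := exists_smul_eq T x₀ x
    obtain ⟨σ, hσ⟩ := exists_sigma (Ω := Ω) e hF hm (t : G)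
    rw [← Equiv.sum_comp σ]
    refine Finset.sum_congr rfl fun v _ => ?_
    rw [← ht]
    exact hσ x₀ v
  · intro x y hxy'
    obtain ⟨g, hg1, hg2⟩ := A.two' x₀ y₀ x y hxy hxy'
    obtain ⟨σ, hσ⟩ := exists_sigma (Ω := Ω) e hF hm g
    rw [← Equiv.sum_comp σ]
    refine Finset.sum_congr rfl fun v _ => ?_
    rw [← hg1, ← hg2, hσ, hσ]
  · intro v hv
    obtain ⟨s, -, hs⟩ := exists_transvGroup_mulVec_eq ha hv
    replace hs : s • a = v := hs
    rw [← Equiv.sum_comp (MulAction.toPerm (tau e s))]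
    refine Finset.sum_congr rfl fun x _ => ?_
    rw [← hs]
    exact Fx_tau e s x a
  · intro u v hu hv huv hs
    rw [sg_eq_one] at hs
    obtain ⟨s, hs1, hs2⟩ := exists_perp_pair hF hc hd hcd hcd' hu hv huv hs
    rw [← Equiv.sum_comp (MulAction.toPerm (tau e s))]
    refine Finset.sum_congr rfl fun x _ => ?_
    rw [← hs1, ← hs2, MulAction.toPerm_apply, Fx_tau, Fx_tau]
  · intro u v hs
    rw [sg_eq_neg] at hs
    obtain ⟨s, -, hs1, hs2⟩ := exists_transvGroup_hyperbolic hab (f_eq_one hF hs)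
    replace hs1 : s • a = u := hs1
    replace hs2 : s • b = v := hs2
    rw [← Equiv.sum_comp (MulAction.toPerm (tau e s))]
    refine Finset.sum_congr rfl fun x _ => ?_
    rw [← hs1, ← hs2, MulAction.toPerm_apply, Fx_tau, Fx_tau]
  · intro x u v hu hv hs
    rw [Fx_eq_one] at hu hv ⊢
    rw [sg_eq_neg] at hs
    have h1 : u + v = transv u 1 • v := by
      rw [transv_smul, one_mul, f_eq_one hF (by rwa [f_symm hF]), one_smul, add_comm]
    refine ⟨?_, ?_⟩
    · rw [h1]; exact smul_ne_zero' _ hv.1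
    · rw [h1, ← tau_conj]
      have h2 : tau e (transv u 1) • x = x := hu.2
      rw [mul_smul, mul_smul, inv_smul_eq_iff.2 h2.symm, hv.2, h2]

include A in
/-- **Export, general form.** -/
theorem main' (hF : Fintype.card F = 2) (hm : 3 ≤ m) (hn : Nat.card Ω ≠ 4 ^ m - 1)
    (hn1 : ¬ (Nat.card Ω - 1) ∣ 4 ^ m - 1) (a : Ω) :
    ∃ Q : (Fin m ⊕ Fin m → F) → F, (∀ v w, Q (v + w) = Q v + Q w + sympForm m F v w) ∧
      (∀ v, v ≠ 0 → (((e.symm (QuotientGroup.mk (transv v 1)) : T) : G) • a = a ↔ Q v = 1)) ∧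
      (∀ s : Matrix.symplecticGroup (Fin m) F, ((e.symm (QuotientGroup.mk s) : T) : G) • a = a ↔
        ∀ v, Q (s • v) = Q v) := by
  classical
  have := A.normal
  have := A.transitive
  have := A.nontrivialΩ
  have := A.finG
  have := A.finΩ
  have hff := A.faithful
  let _ : Fintype Ω := Fintype.ofFinite Ω
  obtain ⟨h, l, f', f1, f2, C⟩ := exists_cfg e A hF hm
  have hS := isSg (m := m) hF
  have hcardV : Nat.card V = 4 ^ m := by
    rw [Nat.card_eq_fintype_card, Fintype.card_fun, Fintype.card_sum, Fintype.card_fin, hF, ← two_mul,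
      pow_mul]
    norm_num
  -- a transvection with a fixed point
  obtain ⟨x₀, v₁, hv₁⟩ : ∃ (x : Ω) (v : V), Fx e x v = 1 := by
    by_contra hcon
    push Not at hcon
    apply hn1
    let S : Set G := {g | ∃ v : V, v ≠ 0 ∧ g = tr e v}
    have hS1 : Nat.card S = 4 ^ m - 1 := by
      have h1 : Nat.card S = Nat.card {v : V // v ≠ 0} := by
        symm
        refine Nat.card_congr (Equiv.ofBijective (fun v : {v : V // v ≠ 0} =>
          (⟨tr e v.1, v.1, v.2, rfl⟩ : S)) ⟨?_, ?_⟩)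
        · intro v w hvw
          apply Subtype.ext
          have h2 : tr e v.1 = tr e w.1 := congrArg (fun z : S => (z : G)) hvw
          exact tr_injective e hF (by omega) v.2 w.2 h2
        · rintro ⟨g, v, hv, rfl⟩
          exact ⟨⟨v, hv⟩, rfl⟩
      rw [h1, Nat.card_eq_fintype_card, Fintype.card_subtype_compl, Fintype.card_subtype_eq,
        ← Nat.card_eq_fintype_card, hcardV]
    rw [← hS1]
    refine Cfsg.Agent.H392.LongRoot.sub_one_dvd_card A.two S ?_ ?_
    · rintro g x ⟨v, hv, rfl⟩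
      obtain ⟨w, hw, hgw⟩ := exists_conj e hF hm g v hv
      exact ⟨w, hw, hgw⟩
    · rintro x ⟨v, hv, rfl⟩ y hy
      exact hcon y v ((Fx_eq_one e).2 ⟨hv, hy⟩)
  obtain ⟨v₂, hv₂, hv₂'⟩ : ∃ v : V, v ≠ 0 ∧ Fx e x₀ v = 0 := by
    have hv0 : v₁ ≠ 0 := ((Fx_eq_one e).1 hv₁).1
    obtain ⟨x, hx⟩ : ∃ x : Ω, tr e v₁ • x ≠ x := by
      by_contra hcon
      push Not at hcon
      apply tr_ne_one e hF (by omega) hv0
      apply hff.eq_of_smul_eq_smul (α := Ω)
      intro x
      rw [hcon, one_smul]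
    obtain ⟨t, ht⟩ := exists_smul_eq T x x₀
    obtain ⟨s, hs⟩ := exists_tau e (t : G) t.2
    refine ⟨s • v₁, smul_ne_zero' s hv0, ?_⟩
    have h1 : tau e s • x = x₀ := by rw [hs]; exact ht
    rw [← h1, Fx_tau]
    rcases Fx_val e x v₁ with h2 | h2
    · exact h2
    · exact absurd ((Fx_eq_one e).1 h2).2 hx
  have h2m : (2 : ℤ) ^ m = 2 * 2 ^ (m - 1) := by
    rw [← pow_succ', Nat.sub_add_cancel (by omega)]
  have hr4 : (4 : ℤ) ≤ 2 ^ (m - 1) := by
    calc (4 : ℤ) = 2 ^ 2 := by norm_num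
      _ ≤ 2 ^ (m - 1) := pow_le_pow_right₀ (by norm_num) (by omega)
  have hr5 : (2 : ℤ) ^ (m - 1) ≠ 5 := by
    intro h5
    have h6 : (2 : ℤ) ∣ 2 ^ (m - 1) := dvd_pow_self _ (by omega)
    rw [h5] at h6
    norm_num at h6
  have hn' : (Fintype.card Ω : ℤ) ≠ ((2 : ℤ) ^ m) ^ 2 - 1 := by
    intro h1
    apply hn
    rw [Nat.card_eq_fintype_card]
    have h2 : ((4 ^ m - 1 : ℕ) : ℤ) = ((2 : ℤ) ^ m) ^ 2 - 1 := by
      have h3 : 1 ≤ 4 ^ m := Nat.one_le_pow _ _ (by norm_num)
      push_cast [Nat.cast_sub h3]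
      rw [← pow_mul, mul_comm, pow_mul]
      norm_num
    exact_mod_cast h1.trans h2.symm
  obtain ⟨hq, hinj⟩ := C.main hv₁ hv₂ hv₂' hn' h2m hr4 hr5
  -- the quadratic form
  let Q : V → F := fun v => if Fx e a v = 1 then 1 else 0
  have hQ1 : ∀ v, Q v = 1 ↔ Fx e a v = 1 := by
    intro v
    simp only [Q]
    split_ifs with h1
    · exact iff_of_true rfl h1
    · exact iff_of_false zero_ne_one h1
  have hQ : ∀ v w, Q v = Q w ↔ Fx e a v = Fx e a w := by
    intro v w
    constructor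
    · intro h1
      rcases Fx_val e a v with h2 | h2 <;> rcases Fx_val e a w with h3 | h3
      · rw [h2, h3]
      · rw [← hQ1, ← h1, hQ1] at h3
        rw [h2] at h3
        exact absurd h3 zero_ne_one
      · rw [← hQ1, h1, hQ1] at h2
        rw [h3] at h2
        exact absurd h2 zero_ne_one
      · rw [h2, h3]
    · intro h1
      simp only [Q, h1]
  refine ⟨Q, ?_, ?_, ?_⟩
  · intro v w
    have h1 := hq a v w
    have hQv : ∀ v, (Fx e a v = 0 ∧ Q v = 0) ∨ (Fx e a v = 1 ∧ Q v = 1) := by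
      intro v
      rcases Fx_val e a v with h2 | h2
      · refine Or.inl ⟨h2, ?_⟩
        simp only [Q, h2]
        norm_num
      · exact Or.inr ⟨h2, (hQ1 v).2 h2⟩
    rcases hQv v with ⟨h2, h3⟩ | ⟨h2, h3⟩ <;> rcases hQv w with ⟨h4, h5⟩ | ⟨h4, h5⟩ <;>
      rcases hQv (v + w) with ⟨h6, h7⟩ | ⟨h6, h7⟩ <;> rw [h2, h4, h6] at h1 <;> rw [h3, h5, h7]
    all_goals
      by_cases h8 : f v w = 0
      · rw [sg_pos h8] at h1
        rw [h8]
        first
        | (norm_num at h1; done)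
        | (simp [F_two hF]; done)
      · rw [sg_neg h8] at h1
        rw [f_eq_one hF h8]
        first
        | (norm_num at h1; done)
        | (simp [F_two hF]; done)
  · intro v hv
    rw [hQ1, Fx_eq_one]
    exact ⟨fun h1 => ⟨hv, h1⟩, fun h1 => h1.2⟩
  · intro s
    change tau e s • a = a ↔ _
    constructor
    · intro hs v
      rw [hQ]
      conv_lhs => rw [← hs]
      exact Fx_tau e s a v
    · intro hs
      apply hinj
      intro v
      have h1 := Fx_tau e s a (s⁻¹ • v)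
      rw [smul_inv_smul] at h1
      rw [h1, ← (hQ _ _).1 (hs (s⁻¹ • v)), smul_inv_smul]

theorem arith_one {m : ℕ} (hm : 3 ≤ m) {n : ℕ}
    (hn : n = 2 ^ (m - 1) * (2 ^ m + 1) ∨ n = 2 ^ (m - 1) * (2 ^ m - 1)) :
    n ≠ 4 ^ m - 1 ∧ ¬ (n - 1) ∣ 4 ^ m - 1 := by
  obtain ⟨k, rfl⟩ : ∃ k, m = k + 3 := ⟨m - 3, by omega⟩
  have e1 : k + 3 - 1 = k + 2 := by omega
  rw [e1] at hn
  set t : ℕ := 2 ^ k with ht
  have htpos : 1 ≤ t := Nat.one_le_pow _ _ (by norm_num)
  have e2 : (2 : ℕ) ^ (k + 2) = 4 * t := by rw [pow_add]; ring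
  have e3 : (2 : ℕ) ^ (k + 3) = 8 * t := by rw [pow_add]; ring
  have e4 : (4 : ℕ) ^ (k + 3) = 64 * t ^ 2 := by
    have : (4 : ℕ) = 2 ^ 2 := by norm_num
    rw [this, ← pow_mul, mul_comm, pow_mul, e3]; ring
  rw [e2, e3] at hn
  rw [e4]
  zify [show 1 ≤ 64 * t ^ 2 by nlinarith]
  rcases hn with hn | hn
  · have hn1 : 1 ≤ n := by rw [hn]; nlinarith
    have h1 : (n : ℤ) = 4 * t * (8 * t + 1) := by rw [hn]; push_cast; ring
    have ht' : (1 : ℤ) ≤ t := by exact_mod_cast htpos
    refine ⟨?_, ?_⟩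
    · intro h2
      rw [h1] at h2
      have h3 : (2 : ℤ) ∣ 1 := ⟨32 * t ^ 2 - 2 * t * (8 * t + 1), by linarith⟩
      norm_num at h3
    · rintro h2
      have h2' : ((n : ℤ) - 1) ∣ 64 * t ^ 2 - 1 := by
        rwa [Nat.cast_sub hn1, Nat.cast_one] at h2
      have h3 : (n : ℤ) - 1 = (8 * t - 1) * (4 * t + 1) := by rw [h1]; ring
      have h4 : (64 * t ^ 2 - 1 : ℤ) = (8 * t - 1) * (8 * t + 1) := by ring
      rw [h3, h4] at h2'
      have h5 : (4 * t + 1 : ℤ) ∣ 8 * t + 1 := Int.dvd_of_mul_dvd_mul_left (by nlinarith) h2'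
      have h6 : (4 * t + 1 : ℤ) ∣ 1 := by
        have h7 : 2 * (4 * t + 1) - (8 * t + 1) = (1 : ℤ) := by ring
        have h8 : (4 * t + 1 : ℤ) ∣ 2 * (4 * t + 1) - (8 * t + 1) := dvd_sub (Dvd.intro_left _ rfl) h5
        rwa [h7] at h8
      have h8 := Int.le_of_dvd one_pos h6
      linarith
  · have hn1 : 1 ≤ n := by
      rw [hn]
      exact Nat.mul_pos (by omega) (by omega)
    have h1 : (n : ℤ) = 4 * t * (8 * t - 1) := by
      rw [hn]
      push_cast [Nat.cast_sub (show 1 ≤ 8 * t by omega)]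
      ring
    have ht' : (1 : ℤ) ≤ t := by exact_mod_cast htpos
    refine ⟨?_, ?_⟩
    · intro h2
      rw [h1] at h2
      have h3 : (2 : ℤ) ∣ 1 := ⟨32 * t ^ 2 - 2 * t * (8 * t - 1), by linarith⟩
      norm_num at h3
    · rintro h2
      have h2' : ((n : ℤ) - 1) ∣ 64 * t ^ 2 - 1 := by
        rwa [Nat.cast_sub hn1, Nat.cast_one] at h2
      have h3 : (n : ℤ) - 1 = (8 * t + 1) * (4 * t - 1) := by rw [h1]; ring
      have h4 : (64 * t ^ 2 - 1 : ℤ) = (8 * t + 1) * (8 * t - 1) := by ring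
      rw [h3, h4] at h2'
      have h5 : (4 * t - 1 : ℤ) ∣ 8 * t - 1 := Int.dvd_of_mul_dvd_mul_left (by nlinarith) h2'
      have h6 : (4 * t - 1 : ℤ) ∣ 1 := by
        have h7 : (8 * t - 1) - 2 * (4 * t - 1) = (1 : ℤ) := by ring
        have h8 : (4 * t - 1 : ℤ) ∣ (8 * t - 1) - 2 * (4 * t - 1) := dvd_sub h5 (Dvd.intro_left _ rfl)
        rwa [h7] at h8
      have h8 := Int.le_of_dvd one_pos h6
      linarith

include A in
/-- **Export (E)**: in a 2-transitive action of degree `2^(m-1) (2^m ± 1)` with socle `Sp_2m(2)`, `m ≥ 3`, the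
points are quadratic forms. -/
theorem main (hF : Fintype.card F = 2) (hm : 3 ≤ m)
    (hn : Nat.card Ω = 2 ^ (m - 1) * (2 ^ m + 1) ∨ Nat.card Ω = 2 ^ (m - 1) * (2 ^ m - 1)) (a : Ω) :
    ∃ Q : (Fin m ⊕ Fin m → F) → F, (∀ v w, Q (v + w) = Q v + Q w + sympForm m F v w) ∧
      (∀ v, v ≠ 0 → (((e.symm (QuotientGroup.mk (transv v 1)) : T) : G) • a = a ↔ Q v = 1)) ∧
      (∀ s : Matrix.symplecticGroup (Fin m) F, ((e.symm (QuotientGroup.mk s) : T) : G) • a = a ↔
        ∀ v, Q (s • v) = Q v) :=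
  main' e A hF hm (arith_one hm hn).1 (arith_one hm hn).2 a

end main

end Cfsg.Agent.H249.SpTwo
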